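import Cfsg.Agent.Lib.Small.OrthAut.Group
import Cfsg.Agent.Lib.Small.Orth.SimMinus
import Cfsg.Agent.Lib.Small.Orth.SimPlus
import Cfsg.Agent.Lib.Small.PSLn.Out

/-!
The multipliers of the standard forms, the field automorphisms realised by semisimilitudes, and the
order of the automorphism groups.
-/

set_option autoImplicit false
set_option linter.unusedSectionVars false
set_option linter.style.haveILetI false

namespace Cfsg.Agent.Small.OrthAut

open Module QuadraticMap Matrix
open Cfsg.Agent.Classical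
open Cfsg.Agent.Classical.OCount Cfsg.Agent.Classical.ORefl Cfsg.Agent.Classical.OOmega
open Cfsg.Agent.Small.Orth (GO incl qPlus qMinus dPlus dMinus)

section General

variable {F : Type*} [Field F] [Finite F] {ι : Type} [Fintype ι] [DecidableEq ι] {Q : QuadraticForm F (ι → F)}

theorem mult_unique (S : Setup Q) {c d : F} (M : Matrix ι ι F) (hc : ∀ v, Q (M *ᵥ v) = c * Q v)
    (hd : ∀ v, Q (M *ᵥ v) = d * Q v) : c = d := by
  obtain ⟨T⟩ := S.frame
  obtain ⟨v, hv⟩ := exists_value_of_pair T.hp 1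
  have h := (hc v).symm.trans (hd v)
  rwa [hv, mul_one, mul_one] at h

/-- The multiplier homomorphism. -/
noncomputable def multG (S : Setup Q) : ↥(GO ⇑Q) →* Fˣ :=
  MonoidHom.mk' (fun g => g.2.choose) fun g h => Units.ext (mult_unique S ((g * h : ↥(GO ⇑Q)) : GL ι F).1
    ((g * h).2.choose_spec) fun v => by
      rw [Subgroup.coe_mul, Units.val_mul, ← Matrix.mulVec_mulVec, g.2.choose_spec, h.2.choose_spec, Units.val_mul,
        mul_assoc])

theorem multG_eq (S : Setup Q) (g : ↥(GO ⇑Q)) {c : F} (h : ∀ v, Q ((g : GL ι F).1 *ᵥ v) = c * Q v) :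
    (multG S g : F) = c :=
  mult_unique S _ g.2.choose_spec h

/-- The similitudes are counted by isometries and multipliers. -/
theorem card_GO_eq (S : Setup Q) :
    Nat.card ↥(GO ⇑Q) = Nat.card ↥(Cfsg.isometryGroup F ⇑Q) * Nat.card (multG S).range := by
  have hinj : Function.Injective (incl ⇑Q) := Subgroup.inclusion_injective _
  have hker : (multG S).ker = (incl ⇑Q).range := by
    refine le_antisymm (fun g hg => ?_) ?_
    · refine ⟨⟨g.1, fun v _ => ?_⟩, Subtype.ext rfl⟩
      show Q (g.1.1 *ᵥ v) = Q v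
      rw [g.2.choose_spec v, show g.2.choose = 1 from MonoidHom.mem_ker.1 hg, Units.val_one, one_mul]
    · rintro _ ⟨h, rfl⟩
      exact MonoidHom.mem_ker.2 (Units.ext (multG_eq S _ fun v => by rw [Units.val_one, one_mul]; exact h.2 v v))
  rw [Subgroup.card_eq_card_quotient_mul_card_subgroup (multG S).ker, mul_comm,
    Nat.card_congr (QuotientGroup.quotientKerEquivRange (multG S)).toEquiv, hker,
    ← Nat.card_congr (MonoidHom.ofInjective hinj).toEquiv]

/-- All multipliers occur. -/
theorem card_mulAut_even (S : Setup Q) (hL : NoLag Q) (hσ : Function.Surjective (sigG Q))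
    (hmult : Function.Surjective (multG S)) :
    Nat.card (MulAut (Cfsg.POmega F ⇑Q)) = Nat.card ↥(Cfsg.isometryGroup F ⇑Q) * Nat.card (RingAut F) := by
  have h := card_mulAut S hL hσ
  have h1 : 1 < Nat.card F := Finite.one_lt_card
  rw [card_GO_eq S, MonoidHom.range_eq_top.2 hmult, Subgroup.card_top, Nat.card_units F] at h
  exact mul_right_cancel₀ (show Nat.card F - 1 ≠ 0 by omega) (h.trans (by ring))

/-- A coordinatewise field automorphism. -/
def coordSemi (σ : F ≃+* F) (h : ∀ x : ι → F, Q (fun i => σ (x i)) = σ (Q x)) : Semi Q where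
  σ := σ
  L := { toFun := fun x i => σ (x i)
         invFun := fun x i => σ.symm (x i)
         left_inv := fun x => funext fun i => σ.symm_apply_apply _
         right_inv := fun x => funext fun i => σ.apply_symm_apply _
         map_add' := fun x y => funext fun i => map_add σ _ _ }
  N := 1
  hN := one_ne_zero
  map_smul c x := funext fun i => map_mul σ c (x i)
  map_q x := by rw [one_mul]; exact h x

theorem sigG_surjective_of (h : ∀ σ : F ≃+* F, ∃ l : Semi Q, l.σ = σ) : Function.Surjective (sigG Q) := fun σ => by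
  obtain ⟨l, hl⟩ := h σ
  exact ⟨ofSemi l, hl⟩

end General

section Standard

variable {F : Type*} [Field F] [Fintype F]

theorem sigma_plus (m : ℕ) : Function.Surjective (sigG (qPlus F m)) :=
  sigG_surjective_of fun σ => ⟨coordSemi σ fun x => by
    simp [coe_plus, Cfsg.quadFormPlus, map_sum, map_mul], rfl⟩

/-- The odd form as a quadratic form. -/
noncomputable abbrev qOdd (F : Type*) [Field F] (m : ℕ) : QuadraticForm F (Unit ⊕ (Fin m ⊕ Fin m) → F) :=
  formOf m (Equiv.sumComm Unit (Fin m ⊕ Fin m)) (lineForm F)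

theorem sigma_odd (m : ℕ) : Function.Surjective (sigG (qOdd F m)) :=
  sigG_surjective_of fun σ => ⟨coordSemi σ fun x => by
    simp [coe_odd, Cfsg.quadFormOdd, map_sum, map_mul, map_add, map_pow], rfl⟩

theorem setup_plus {m : ℕ} (hm : 3 ≤ m) : Setup (qPlus F m) := setup_standard pnd_empty hm

theorem setup_odd (h2 : (2 : F) ≠ 0) {m : ℕ} (hm : 3 ≤ m) : Setup (qOdd F m) := setup_standard (pnd_line h2) hm

theorem setup_minus {m : ℕ} (hm : 3 ≤ m) {a b : F}
    (hab : ∀ z₁ z₂ : F, z₁ ^ 2 + a * z₁ * z₂ + b * z₂ ^ 2 = 0 → z₁ = 0 ∧ z₂ = 0) : Setup (qMinus m a b) :=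
  setup_standard (pnd_plane hab) hm

theorem mult_plus {m : ℕ} (S : Setup (qPlus F m)) : Function.Surjective (multG S) := fun c => by
  obtain ⟨D, hD⟩ := Orth.exists_GO (Q := qPlus F m) (dPlus m (c : F))
    (by rw [Orth.det_dPlus]; exact pow_ne_zero _ c.ne_zero) c (Orth.dPlus_sim m (c : F))
  exact ⟨D, Units.ext (multG_eq S D fun v => by rw [hD]; exact Orth.dPlus_sim m (c : F) v)⟩

theorem sq_of_char_two (h2 : (2 : F) = 0) (c : F) : IsSquare c := by
  haveI : CharP F 2 := CharTwo.of_one_ne_zero_of_two_eq_zero one_ne_zero h2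
  exact FiniteField.isSquare_of_char_two (ringChar.eq F 2) c

theorem mult_minus {m : ℕ} {a b : F} (hab : ∀ z₁ z₂ : F, z₁ ^ 2 + a * z₁ * z₂ + b * z₂ ^ 2 = 0 → z₁ = 0 ∧ z₂ = 0)
    (S : Setup (qMinus m a b)) : Function.Surjective (multG S) := fun c => by
  obtain ⟨u, v, huv⟩ : ∃ u v : F, u ^ 2 + a * u * v + b * v ^ 2 = (c : F) := by
    by_cases h2 : (2 : F) = 0
    · obtain ⟨r, hr⟩ := sq_of_char_two h2 (c : F)
      exact ⟨r, 0, by rw [hr]; ring⟩
    · exact Orth.exists_uv h2 hab (c : F)
  obtain ⟨D, hD⟩ := Orth.exists_GO (Q := qMinus m a b) (dMinus m a b (c : F) u v)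
    (by rw [Orth.det_dMinus, huv]; exact mul_ne_zero (pow_ne_zero _ c.ne_zero) c.ne_zero) c
    (Orth.dMinus_sim m a b (c : F) u v huv)
  exact ⟨D, Units.ext (multG_eq S D fun w => by rw [hD]; exact Orth.dMinus_sim m a b (c : F) u v huv w)⟩

/-- An anisotropic plane and its image under a field automorphism are isometric. -/
theorem exists_plane_map {a b : F} (hab : ∀ z₁ z₂ : F, z₁ ^ 2 + a * z₁ * z₂ + b * z₂ ^ 2 = 0 → z₁ = 0 ∧ z₂ = 0)
    (σ : F ≃+* F) : ∃ u v : F, v ≠ 0 ∧ 2 * u + a * v = σ a ∧ u ^ 2 + a * u * v + b * v ^ 2 = σ b := by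
  by_cases h2 : (2 : F) = 0
  · have ha : a ≠ 0 := fun h => by
      obtain ⟨s, hs⟩ := sq_of_char_two h2 b
      exact one_ne_zero (hab s 1 (by rw [h]; linear_combination hs + s * s * h2)).2
    let φ : F →+ F := AddMonoidHom.mk' (fun s => s * s + s) fun x y => by linear_combination x * y * h2
    have hker : ∀ s, φ s = 0 ↔ s = 0 ∨ s = 1 := fun s => by
      show s * s + s = 0 ↔ _
      rw [show s * s + s = s * (s - 1) by linear_combination s * h2, mul_eq_zero, sub_eq_zero]
    have hindex : φ.range.index = 2 := by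
      have h1 : Nat.card φ.ker = 2 := by
        rw [Nat.card_eq_two_iff]
        exact ⟨⟨0, by simp⟩, ⟨1, (hker 1).2 (Or.inr rfl)⟩, fun e => zero_ne_one (congrArg Subtype.val e),
          Set.eq_univ_of_forall fun x => by
            rcases (hker x.1).1 x.2 with e | e
            · exact Or.inl (Subtype.ext e)
            · exact Or.inr (Subtype.ext e)⟩
      have h3 := AddSubgroup.card_eq_card_quotient_mul_card_addSubgroup φ.ker
      rw [Nat.card_congr (QuotientAddGroup.quotientKerEquivRange φ).toEquiv, h1, ← φ.range.card_mul_index] at h3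
      exact mul_left_cancel₀ Nat.card_pos.ne' h3
    have hnot : b / (a * a) ∉ φ.range := by
      rintro ⟨s, hs⟩
      have hs' : s * s + s = b / (a * a) := hs
      field_simp at hs'
      exact one_ne_zero (hab (a * s) 1 (by linear_combination hs' + b * h2)).2
    have hnot' : σ b / (σ a * σ a) ∉ φ.range := by
      rintro ⟨s, hs⟩
      refine hnot ⟨σ.symm s, ?_⟩
      have hs' : s * s + s = σ b / (σ a * σ a) := hs
      show σ.symm s * σ.symm s + σ.symm s = b / (a * a)
      apply σ.injective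
      simpa using hs'
    obtain ⟨s, hs⟩ : σ b / (σ a * σ a) + b / (a * a) ∈ φ.range :=
      (AddSubgroup.add_mem_iff_of_index_two hindex).2 (iff_of_false hnot' hnot)
    have hs' : s * s + s = σ b / (σ a * σ a) + b / (a * a) := hs
    have hσa : σ a ≠ 0 := (map_ne_zero σ).2 ha
    refine ⟨σ a * s, σ a / a, div_ne_zero hσa ha, ?_, ?_⟩
    · rw [mul_div_cancel₀ _ ha]
      linear_combination σ a * s * h2
    · field_simp at hs' ⊢
      linear_combination hs' + b * σ a ^ 2 * h2
  · have hD : ¬ IsSquare (a * a - 4 * b) := by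
      rintro ⟨s, hs⟩
      exact one_ne_zero (hab ((-a + s) / 2) 1 (by field_simp; linear_combination -hs)).2
    have hD' : ¬ IsSquare (σ a * σ a - 4 * σ b) := fun h => hD (by
      have h' := h.map σ.symm
      simpa [map_ofNat] using h')
    have h0 : a * a - 4 * b ≠ 0 := fun h => hD (by rw [h]; exact IsSquare.zero)
    have h0' : σ a * σ a - 4 * σ b ≠ 0 := fun h => hD' (by rw [h]; exact IsSquare.zero)
    obtain ⟨v, hv⟩ : IsSquare ((σ a * σ a - 4 * σ b) * (a * a - 4 * b)⁻¹) := by
      rw [isSquare_iff_mul h2 h0' (inv_ne_zero h0), isSquare_inv]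
      exact iff_of_false hD' hD
    have hv' : v * v * (a * a - 4 * b) = σ a * σ a - 4 * σ b := by
      rw [← hv, inv_mul_cancel_right₀ h0]
    refine ⟨(σ a - a * v) / 2, v, fun h => h0' ?_, by field_simp; ring, ?_⟩
    · rw [← hv', h]; ring
    · have h4 : (4 : F) ≠ 0 := by
        rw [show (4 : F) = 2 * 2 by norm_num]; exact mul_ne_zero h2 h2
      refine mul_left_cancel₀ h4 ?_
      field_simp
      linear_combination -hv'

/-- The semisimilitude of a field automorphism on the minus form. -/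
def minusMap (m : ℕ) (σ : F ≃+* F) (u v : F) (x : (Fin m ⊕ Fin m) ⊕ Fin 2 → F) :
    (Fin m ⊕ Fin m) ⊕ Fin 2 → F :=
  Sum.elim (fun i => σ (x (.inl i))) ![σ (x (.inr 0)) + u * σ (x (.inr 1)), v * σ (x (.inr 1))]

theorem exists_minus_semi {m : ℕ} {a b : F}
    (hab : ∀ z₁ z₂ : F, z₁ ^ 2 + a * z₁ * z₂ + b * z₂ ^ 2 = 0 → z₁ = 0 ∧ z₂ = 0) (σ : F ≃+* F)
    (u v : F) (hv : v ≠ 0) (h1 : 2 * u + a * v = σ a) (h3 : u ^ 2 + a * u * v + b * v ^ 2 = σ b) :
    ∃ l : Semi (qMinus m a b), l.σ = σ ∧ l.N = 1 ∧ ∀ x, l.L x = minusMap m σ u v x := by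
  have hadd : ∀ x y, minusMap m σ u v (x + y) = minusMap m σ u v x + minusMap m σ u v y := fun x y => by
    funext l
    rcases l with l | l
    · simp [minusMap]
    · fin_cases l <;> simp [minusMap] <;> ring
  have hinj : Function.Injective (minusMap m σ u v) := fun x y h => by
    funext l
    rcases l with l | l
    · exact σ.injective (congrFun h (.inl l))
    · have e1 : x (.inr 1) = y (.inr 1) := σ.injective (mul_left_cancel₀ hv (congrFun h (.inr 1)))
      have e0 := congrFun h (.inr 0)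
      fin_cases l
      · simp [minusMap, e1] at e0
        exact e0
      · exact e1
  refine ⟨{ σ := σ
            L := AddEquiv.ofBijective (AddMonoidHom.mk' _ hadd) (Finite.injective_iff_bijective.mp hinj)
            N := 1
            hN := one_ne_zero
            map_smul := fun c x => ?_
            map_q := fun x => ?_ }, rfl, rfl, fun _ => rfl⟩
  · show minusMap m σ u v (c • x) = σ c • minusMap m σ u v x
    funext l
    rcases l with l | l
    · simp [minusMap]
    · fin_cases l <;> simp [minusMap] <;> ring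
  · show qMinus m a b (minusMap m σ u v x) = 1 * σ (qMinus m a b x)
    simp only [Orth.qMinus_apply, minusMap, Sum.elim_inl, Sum.elim_inr, Matrix.cons_val_zero, Matrix.cons_val_one,
      map_add, map_sum, map_mul, map_pow]
    linear_combination (σ (x (.inr 0)) * σ (x (.inr 1))) * h1 + σ (x (.inr 1)) ^ 2 * h3

theorem sigma_minus {m : ℕ} {a b : F} (hab : ∀ z₁ z₂ : F, z₁ ^ 2 + a * z₁ * z₂ + b * z₂ ^ 2 = 0 → z₁ = 0 ∧ z₂ = 0) :
    Function.Surjective (sigG (qMinus m a b)) :=
  sigG_surjective_of fun σ => by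
    obtain ⟨u, v, hv, h1, h3⟩ := exists_plane_map hab σ
    obtain ⟨l, hl, -⟩ := exists_minus_semi (m := m) hab σ u v hv h1 h3
    exact ⟨l, hl⟩

theorem noLag_plus {m : ℕ} (hm : 5 ≤ m) : NoLag (qPlus F m) := noLag_big (by simp; omega)

theorem noLag_qOdd (h2 : (2 : F) ≠ 0) (m : ℕ) : NoLag (qOdd F m) :=
  noLag_odd (formOf_pnd (pnd_line h2)) (by simp)

theorem noLag_qMinus {m : ℕ} {a b : F} (hab : ∀ z₁ z₂ : F, z₁ ^ 2 + a * z₁ * z₂ + b * z₂ ^ 2 = 0 → z₁ = 0 ∧ z₂ = 0) :
    NoLag (qMinus m a b) :=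
  noLag_minus hab (coe_minus m a b) (formOf_pnd (pnd_plane hab))

/-- The multipliers of the odd form are the squares. -/
theorem range_mult_odd (h2 : (2 : F) ≠ 0) {m : ℕ} (S : Setup (qOdd F m)) :
    (multG S).range = (powMonoidHom 2 : Fˣ →* Fˣ).range := by
  refine le_antisymm ?_ ?_
  · rintro _ ⟨g, rfl⟩
    obtain ⟨B, hB⟩ : ∃ B, B = LinearMap.toMatrix₂' F (QuadraticMap.polarBilin (qOdd F m)) := ⟨_, rfl⟩
    have hB0 : B.det ≠ 0 := by
      rw [← Matrix.nondegenerate_iff_det_ne_zero, hB, LinearMap.nondegenerate_toMatrix₂'_iff]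
      exact nondeg S.pnd
    have hcomp : g.1.1ᵀ * B * g.1.1 = (multG S g : F) • B := by
      rw [hB, LinearMap.mul_toMatrix₂'_mul, ← map_smul]
      congr 1
      refine LinearMap.ext₂ fun x y => ?_
      simp only [Matrix.transpose_transpose, LinearMap.compl₁₂_apply, Matrix.toLin'_apply,
        QuadraticMap.polarBilin_apply_apply, LinearMap.smul_apply, smul_eq_mul, QuadraticMap.polar,
        ← Matrix.mulVec_add, show ∀ v, (qOdd F m) (g.1.1 *ᵥ v) = (multG S g : F) * (qOdd F m) v from
          g.2.choose_spec]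
      ring
    have h := congrArg Matrix.det hcomp
    rw [Matrix.det_mul, Matrix.det_mul, Matrix.det_transpose, Matrix.det_smul] at h
    have h' : (g.1.1.det) ^ 2 = (multG S g : F) ^ (2 * m + 1) := by
      simp only [Fintype.card_sum, Fintype.card_fin, Fintype.card_unit] at h
      refine mul_right_cancel₀ hB0 ?_
      rw [show 2 * m + 1 = 1 + (m + m) by omega]
      linear_combination h
    have hne := (multG S g).ne_zero
    have hd : g.1.1.det ≠ 0 := fun e => by
      rw [e, zero_pow (by norm_num)] at h'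
      exact pow_ne_zero _ hne h'.symm
    refine ⟨Units.mk0 (g.1.1.det / (multG S g : F) ^ m) (div_ne_zero hd (pow_ne_zero _ hne)), Units.ext ?_⟩
    simp only [powMonoidHom_apply, Units.val_pow_eq_pow_val, Units.val_mk0, div_pow, h', ← pow_mul]
    rw [div_eq_iff (pow_ne_zero _ hne), ← pow_succ']
    congr 1
    omega
  · rintro _ ⟨c, rfl⟩
    refine ⟨Orth.scalarG _ c, Units.ext (multG_eq S _ fun v => ?_)⟩
    rw [Orth.scalarG_mulVec, QuadraticMap.map_smul, powMonoidHom_apply, Units.val_pow_eq_pow_val, pow_two,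
      smul_eq_mul]

theorem card_sq_units (h2 : (2 : F) ≠ 0) :
    Nat.card (powMonoidHom 2 : Fˣ →* Fˣ).range * 2 = Nat.card F - 1 := by
  rw [← Nat.card_units F, Subgroup.card_eq_card_quotient_mul_card_subgroup (powMonoidHom 2 : Fˣ →* Fˣ).ker,
    Nat.card_congr (QuotientGroup.quotientKerEquivRange _).toEquiv]
  congr 1
  symm
  rw [Nat.card_eq_two_iff]
  refine ⟨⟨1, one_mem _⟩, ⟨-1, Units.ext (by simp)⟩, fun e => h2 ?_, Set.eq_univ_of_forall fun x => ?_⟩
  · have e' : (1 : F) = -1 := congrArg (fun y : (powMonoidHom 2 : Fˣ →* Fˣ).ker => ((y.1 : Fˣ) : F)) e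
    linear_combination e'
  · have hx : ((x.1 : Fˣ) : F) * (x.1 : Fˣ) = 1 := by
      have := congrArg Units.val (MonoidHom.mem_ker.1 x.2)
      simpa [pow_two] using this
    rcases mul_self_eq_one_iff.1 hx with e | e
    · exact Or.inl (Subtype.ext (Units.ext e))
    · exact Or.inr (Subtype.ext (Units.ext (by simpa using e)))

theorem card_mulAut_odd (h2 : (2 : F) ≠ 0) {m : ℕ} (hm : 3 ≤ m) :
    2 * Nat.card (MulAut (Cfsg.POmega F ⇑(qOdd F m))) =
      Nat.card ↥(Cfsg.isometryGroup F ⇑(qOdd F m)) * Nat.card (RingAut F) := by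
  have S := setup_odd h2 hm
  have h := card_mulAut S (noLag_qOdd h2 m) (sigma_odd m)
  have h1 : 1 < Nat.card F := Finite.one_lt_card
  have h3 := card_sq_units h2
  rw [card_GO_eq S, range_mult_odd h2 S] at h
  have h4 : Nat.card (powMonoidHom 2 : Fˣ →* Fˣ).range ≠ 0 := fun e => by
    rw [e] at h3; omega
  refine mul_right_cancel₀ h4 ?_
  rw [mul_assoc 2, mul_comm (Nat.card (MulAut _)), ← mul_assoc, mul_comm 2, h3, mul_comm (Nat.card F - 1)]
  rw [h]
  ring

theorem card_mulAut_minus {m : ℕ} (hm : 3 ≤ m) {a b : F}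
    (hab : ∀ z₁ z₂ : F, z₁ ^ 2 + a * z₁ * z₂ + b * z₂ ^ 2 = 0 → z₁ = 0 ∧ z₂ = 0) :
    Nat.card (MulAut (Cfsg.POmega F ⇑(qMinus m a b))) =
      Nat.card ↥(Cfsg.isometryGroup F ⇑(qMinus m a b)) * Nat.card (RingAut F) :=
  card_mulAut_even (setup_minus hm hab) (noLag_qMinus hab) (sigma_minus hab) (mult_minus hab _)

theorem card_fieldAut {p f : ℕ} [Fact p.Prime] (hF : Fintype.card F = p ^ f) : Nat.card (RingAut F) = f := by
  obtain ⟨e⟩ := PSLn.fieldAut_equiv hF
  rw [show Nat.card (RingAut F) = Nat.card (Multiplicative (ZMod f)) from Nat.card_congr e.toEquiv,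
    Nat.card_congr Multiplicative.toAdd, Nat.card_zmod]

end Standard

end Cfsg.Agent.Small.OrthAut
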