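import Cfsg.Agent.Lib.Classical.OrthSimple

/-!
The points of an orthogonal polar space inside `Ω` modulo its centre: the abelian group of Siegel
transformations at a singular point is the largest normal `p`-subgroup of the stabiliser of the point.
-/

set_option autoImplicit false
set_option linter.unusedSectionVars false

namespace Cfsg.Agent.Small.OrthAut

open Module QuadraticMap
open scoped Pointwise
open Cfsg.Agent.Classical
open Cfsg.Agent.Classical.OCount Cfsg.Agent.Classical.ORefl Cfsg.Agent.Classical.OOmega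

variable {F : Type*} [Field F] [Finite F] {V : Type*} [AddCommGroup V] [Module F V] [FiniteDimensional F V]
  {Q : QuadraticForm F V}

/-- The derived group of the isometry group. -/
abbrev G (Q : QuadraticForm F V) := ↥(commutator ↥(Iso Q))

/-- Modulo the centre. -/
abbrev PG (Q : QuadraticForm F V) := G Q ⧸ Subgroup.center (G Q)

/-- The projection. -/
abbrev pr (Q : QuadraticForm F V) : G Q →* PG Q := QuotientGroup.mk' _

theorem pr_surjective : Function.Surjective (pr Q) := QuotientGroup.mk'_surjective _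

theorem pr_eq_one {g : G Q} : pr Q g = 1 ↔ g ∈ Subgroup.center (G Q) := QuotientGroup.eq_one_iff g

/-- The action on vectors. -/
def ap (g : G Q) (x : V) : V := g.1.1 x

theorem ap_one (x : V) : ap (1 : G Q) x = x := rfl
theorem ap_mul (g h : G Q) (x : V) : ap (g * h) x = ap g (ap h x) := rfl
theorem ap_add (g : G Q) (x y : V) : ap g (x + y) = ap g x + ap g y := map_add g.1.1 x y
theorem ap_sub (g : G Q) (x y : V) : ap g (x - y) = ap g x - ap g y := map_sub g.1.1 x y
theorem ap_smul (g : G Q) (c : F) (x : V) : ap g (c • x) = c • ap g x := map_smul g.1.1 c x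
theorem ap_zero (g : G Q) : ap g 0 = 0 := map_zero g.1.1
theorem q_ap (g : G Q) (x : V) : Q (ap g x) = Q x := g.1.2 x
theorem polar_ap (g : G Q) (x y : V) : polar Q (ap g x) (ap g y) = polar Q x y := polar_iso g.1.2 x y
theorem ap_inj (g : G Q) : Function.Injective (ap g) := g.1.1.injective

theorem ap_inv_ap (g : G Q) (x : V) : ap g⁻¹ (ap g x) = x := by rw [← ap_mul, inv_mul_cancel, ap_one]
theorem ap_ap_inv (g : G Q) (x : V) : ap g (ap g⁻¹ x) = x := by rw [← ap_mul, mul_inv_cancel, ap_one]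

theorem ap_ne_zero (g : G Q) {x : V} (hx : x ≠ 0) : ap g x ≠ 0 := fun h =>
  hx (ap_inj g (h.trans (ap_zero g).symm))

theorem ext_ap {g h : G Q} (H : ∀ x, ap g x = ap h x) : g = h :=
  Subtype.ext (Subtype.ext (LinearEquiv.ext H))

theorem finite_G : Finite (G Q) := by
  haveI : Finite V := Module.finite_of_finite F
  exact Finite.of_injective (fun g : G Q => ap g) fun g h e => ext_ap (congrFun e)

/-- The hypotheses: a non-degenerate polar form and three hyperbolic pairs. -/
structure Setup (Q : QuadraticForm F V) : Prop where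
  pnd : PND Q
  frame : Nonempty (ThreePairs Q)

variable (S : Setup Q)

/-- A Siegel transformation in the derived group. -/
noncomputable def Setup.se {e v : V} (he : Q e = 0) (hv : polar Q e v = 0) : G Q :=
  ⟨el he hv, el_mem S.pnd S.frame.some he hv⟩

include S in
theorem Setup.ap_se {e v : V} (he : Q e = 0) (hv : polar Q e v = 0) (x : V) :
    ap (S.se he hv) x = x + polar Q e x • v - (polar Q v x + Q v * polar Q e x) • e := rfl

theorem Setup.se_congr {e v e' v' : V} (he : Q e = 0) (hv : polar Q e v = 0) (he' : Q e' = 0)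
    (hv' : polar Q e' v' = 0) (h1 : e = e') (h2 : v = v') : S.se he hv = S.se he' hv' := by
  subst h1 h2; rfl

theorem Setup.se_mul {e v w : V} (he : Q e = 0) (hv : polar Q e v = 0) (hw : polar Q e w = 0) :
    S.se he hv * S.se he hw = S.se he (v := v + w) (by rw [polar_add_right, hv, hw, add_zero]) :=
  Subtype.ext (el_mul he hv hw)

theorem Setup.se_inv {e v : V} (he : Q e = 0) (hv : polar Q e v = 0) :
    (S.se he hv)⁻¹ = S.se he (v := -v) (by rw [polar_neg_right, hv, neg_zero]) :=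
  Subtype.ext (el_inv he hv)

theorem Setup.se_conj (g : G Q) {e v : V} (he : Q e = 0) (hv : polar Q e v = 0) :
    g * S.se he hv * g⁻¹ =
      S.se (e := ap g e) (v := ap g v) ((q_ap g e).trans he) ((polar_ap g e v).trans hv) :=
  Subtype.ext (el_conj g.1 he hv)

theorem Setup.se_zero {e : V} (he : Q e = 0) : S.se he (polar_zero_right Q e) = 1 :=
  ext_ap fun x => by rw [S.ap_se]; simp [ap_one]

theorem Setup.se_shift {e v : V} (c : F) (he : Q e = 0) (hv : polar Q e v = 0) :
    S.se he (v := v + c • e) (by rw [polar_add_right, hv, polar_smul_right, polar_self_zero he]; simp) =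
      S.se he hv := ext_ap fun x => by
  rw [S.ap_se, S.ap_se, map_two, QuadraticMap.map_smul, he, polar_smul_right, polar_comm Q v e, hv,
    polar_add_left, polar_smul_left]
  simp only [smul_eq_mul, mul_zero, add_zero]
  module

variable (Q) in
/-- The group of Siegel transformations at a vector. -/
def Qset (e : V) : Set (G Q) :=
  {g | ∃ v, polar Q e v = 0 ∧ ∀ x, ap g x = x + polar Q e x • v - (polar Q v x + Q v * polar Q e x) • e}

theorem Setup.se_mem_Qset {e v : V} (he : Q e = 0) (hv : polar Q e v = 0) : S.se he hv ∈ Qset Q e :=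
  ⟨v, hv, S.ap_se he hv⟩

include S in
theorem Setup.mem_Qset_iff {e : V} (he : Q e = 0) (g : G Q) :
    g ∈ Qset Q e ↔ ∃ (v : V) (hv : polar Q e v = 0), g = S.se he hv := by
  constructor
  · rintro ⟨v, hv, h⟩
    exact ⟨v, hv, ext_ap fun x => by rw [h, S.ap_se]⟩
  · rintro ⟨v, hv, rfl⟩
    exact S.se_mem_Qset he hv

/-- The group of Siegel transformations at a singular vector. -/
noncomputable def Setup.Qg (S : Setup Q) {e : V} (he : Q e = 0) : Subgroup (G Q) where
  carrier := Qset Q e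
  one_mem' := ⟨0, polar_zero_right Q e, fun x => by simp [ap_one]⟩
  mul_mem' := by
    intro a b ha hb
    obtain ⟨v, hv, rfl⟩ := (S.mem_Qset_iff he a).1 ha
    obtain ⟨w, hw, rfl⟩ := (S.mem_Qset_iff he b).1 hb
    rw [S.se_mul]
    exact S.se_mem_Qset _ _
  inv_mem' := by
    intro a ha
    obtain ⟨v, hv, rfl⟩ := (S.mem_Qset_iff he a).1 ha
    rw [S.se_inv]
    exact S.se_mem_Qset _ _

theorem Setup.mem_Qg {e : V} (he : Q e = 0) {g : G Q} :
    g ∈ S.Qg he ↔ ∃ (v : V) (hv : polar Q e v = 0), g = S.se he hv := S.mem_Qset_iff he g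

theorem Setup.se_mem {e v : V} (he : Q e = 0) (hv : polar Q e v = 0) : S.se he hv ∈ S.Qg he :=
  S.se_mem_Qset he hv

theorem Setup.Qg_comm {e : V} (he : Q e = 0) {g h : G Q} (hg : g ∈ S.Qg he) (hh : h ∈ S.Qg he) :
    g * h = h * g := by
  obtain ⟨v, hv, rfl⟩ := (S.mem_Qg he).1 hg
  obtain ⟨w, hw, rfl⟩ := (S.mem_Qg he).1 hh
  rw [S.se_mul, S.se_mul]
  exact S.se_congr _ _ _ _ rfl (add_comm v w)

theorem Setup.Qg_fixes {e : V} (he : Q e = 0) {g : G Q} (hg : g ∈ S.Qg he) : ap g e = e := by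
  obtain ⟨v, hv, rfl⟩ := (S.mem_Qg he).1 hg
  rw [S.ap_se, polar_self_zero he, polar_comm Q v e, hv]
  simp

theorem Setup.Qg_conj {e : V} (he : Q e = 0) (g : G Q) {x : G Q} (hx : x ∈ S.Qg he) :
    g * x * g⁻¹ ∈ S.Qg (e := ap g e) ((q_ap g e).trans he) := by
  obtain ⟨v, hv, rfl⟩ := (S.mem_Qg he).1 hx
  rw [S.se_conj]
  exact S.se_mem _ _

theorem Setup.Qg_smul {e : V} (he : Q e = 0) {c : F} (hc : c ≠ 0) (hce : Q (c • e) = 0) :
    S.Qg hce = S.Qg he := by
  have key : ∀ {a : V} (ha : Q a = 0) (d : F) (hda : Q (d • a) = 0), S.Qg hda ≤ S.Qg ha ∨ d = 0 := by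
    intro a ha d hda
    rcases eq_or_ne d 0 with h | h
    · exact Or.inr h
    refine Or.inl fun g hg => ?_
    obtain ⟨v, hv, rfl⟩ := (S.mem_Qg hda).1 hg
    have hv' : polar Q a v = 0 := by
      rw [polar_smul_left, smul_eq_mul] at hv
      exact (mul_eq_zero.1 hv).resolve_left h
    refine (S.mem_Qg ha).2 ⟨d • v, by rw [polar_smul_right, hv', smul_zero], Subtype.ext ?_⟩
    exact (el_scale (e := a) (v := v) d ha hv')
  refine le_antisymm ((key he c hce).resolve_right hc) ?_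
  intro g hg
  have h' : Q (c⁻¹ • (c • e)) = 0 := by rw [smul_smul, inv_mul_cancel₀ hc, one_smul]; exact he
  refine ((key hce c⁻¹ h').resolve_right (inv_ne_zero hc)) ?_
  have e1 : (S.Qg h' : Set (G Q)) = S.Qg he := by
    show Qset Q (c⁻¹ • (c • e)) = Qset Q e
    rw [smul_smul, inv_mul_cancel₀ hc, one_smul]
  exact (SetLike.coe_injective e1).symm ▸ hg

variable (Q) in
/-- The stabiliser of the line of a vector. -/
def Stab (e : V) : Subgroup (G Q) where
  carrier := {g | ∃ c : F, c ≠ 0 ∧ ap g e = c • e}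
  one_mem' := ⟨1, one_ne_zero, by rw [one_smul, ap_one]⟩
  mul_mem' := by
    rintro a b ⟨c, hc, ha⟩ ⟨d, hd, hb⟩
    exact ⟨d * c, mul_ne_zero hd hc, by rw [ap_mul, hb, ap_smul, ha, smul_smul]⟩
  inv_mem' := by
    rintro a ⟨c, hc, ha⟩
    refine ⟨c⁻¹, inv_ne_zero hc, ap_inj a ?_⟩
    rw [ap_ap_inv, ap_smul, ha, smul_smul, inv_mul_cancel₀ hc, one_smul]

theorem mem_Stab {e : V} (g : G Q) (he0 : e ≠ 0) {c : F} (h : ap g e = c • e) : g ∈ Stab Q e :=
  ⟨c, fun hc => ap_ne_zero g he0 (by rw [h, hc, zero_smul]), h⟩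

theorem Setup.Qg_le_Stab {e : V} (he : Q e = 0) : S.Qg he ≤ Stab Q e := fun g hg =>
  ⟨1, one_ne_zero, by rw [S.Qg_fixes he hg, one_smul]⟩

theorem Setup.Qg_normal {e : V} (he : Q e = 0) {g : G Q} (hg : g ∈ Stab Q e) {x : G Q} (hx : x ∈ S.Qg he) :
    g * x * g⁻¹ ∈ S.Qg he := by
  obtain ⟨c, hc, hge⟩ := hg
  have h := S.Qg_conj he g hx
  have e1 : (S.Qg ((q_ap g e).trans he) : Set (G Q)) =
      S.Qg (e := c • e) (by rw [QuadraticMap.map_smul, he, smul_zero]) := by
    show Qset Q (ap g e) = Qset Q (c • e)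
    rw [hge]
  rw [SetLike.coe_injective e1, S.Qg_smul he hc] at h
  exact h

include S in
theorem Setup.center_pm {z : G Q} (hz : z ∈ Subgroup.center (G Q)) :
    (∀ x, ap z x = x) ∨ ∀ x, ap z x = -x := by
  obtain ⟨T⟩ := S.frame
  rcases central_of_commute S.pnd (p := (T.e, T.f)) T.hp (u := T.w) (z := T.w')
    (mem_comp.mpr ⟨T.ew, T.fw⟩) (mem_comp.mpr ⟨T.ew', T.fw'⟩) T.hq
    (le_trans (by norm_num) (six_le S.pnd T)) (g := z.1) (fun a v ha hv x =>
      (congrArg (fun k : G Q => ap k x) (Subgroup.mem_center_iff.mp hz (S.se ha hv))).symm) with h | h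
  · exact Or.inl fun x => by show z.1.1 x = x; rw [h]; rfl
  · exact Or.inr fun x => by show z.1.1 x = -x; rw [h]; rfl

theorem mem_center_of_pm {z : G Q} (h : (∀ x, ap z x = x) ∨ ∀ x, ap z x = -x) :
    z ∈ Subgroup.center (G Q) := by
  rw [Subgroup.mem_center_iff]
  intro g
  refine ext_ap fun x => ?_
  rw [ap_mul, ap_mul]
  rcases h with h | h <;> rw [h, h]
  · show g.1.1 (-x) = -g.1.1 x
    exact map_neg _ _

include S in
theorem Setup.center_le_Stab {e : V} (he0 : e ≠ 0) : Subgroup.center (G Q) ≤ Stab Q e := fun z hz => by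
  rcases S.center_pm hz with h | h
  · exact mem_Stab z he0 (c := 1) (by rw [h, one_smul])
  · exact mem_Stab z he0 (c := -1) (by rw [h, neg_one_smul])

section Prime

variable (p : ℕ) [Fact p.Prime] [CharP F p]

/-- `p`-elements. -/
def PEl {H : Type*} [Group H] (x : H) : Prop := ∃ k : ℕ, x ^ (p ^ k) = 1

theorem nsmul_p (F : Type*) [Field F] [CharP F p] [Module F V] (x : V) : p • x = 0 := by
  rw [← Nat.cast_smul_eq_nsmul F, CharP.cast_eq_zero, zero_smul]

/-- Iterating a map that moves a vector by a fixed vector. -/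
theorem pow_fix (g : G Q) {x d : V} (h : ap g x = x + d) (hd : ap g d = d) :
    ∀ n : ℕ, ap (g ^ n) x = x + n • d
  | 0 => by rw [pow_zero, ap_one, zero_smul, add_zero]
  | n + 1 => by
    have hdn : ap (g ^ n) d = d := by
      clear h
      induction n with
      | zero => rw [pow_zero, ap_one]
      | succ k ih => rw [pow_succ, ap_mul, hd, ih]
    rw [pow_succ, ap_mul, h, ap_add, pow_fix g h hd n, hdn, succ_nsmul, add_assoc]

theorem Setup.se_pow {e v : V} (he : Q e = 0) (hv : polar Q e v = 0) :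
    ∀ n : ℕ, ∃ h : polar Q e (n • v) = 0, S.se he hv ^ n = S.se he h
  | 0 => ⟨by rw [zero_smul, polar_zero_right], by
      rw [pow_zero]
      exact (S.se_zero he).symm.trans (S.se_congr _ _ _ _ rfl (zero_smul ℕ v).symm)⟩
  | n + 1 => by
    obtain ⟨h, hn⟩ := Setup.se_pow he hv n
    have h' : polar Q e ((n + 1) • v) = 0 := by rw [succ_nsmul, polar_add_right, h, hv, add_zero]
    exact ⟨h', by rw [pow_succ, hn, S.se_mul]; exact S.se_congr _ _ _ _ rfl (succ_nsmul v n).symm⟩

theorem Setup.isPGroup_Qg {e : V} (he : Q e = 0) : IsPGroup p (S.Qg he) := by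
  rintro ⟨g, hg⟩
  obtain ⟨v, hv, rfl⟩ := (S.mem_Qg he).1 hg
  obtain ⟨h, hn⟩ := Setup.se_pow S he hv p
  refine ⟨1, Subtype.ext ?_⟩
  rw [pow_one, SubmonoidClass.coe_pow, hn, OneMemClass.coe_one]
  exact (S.se_congr _ _ he (polar_zero_right Q e) rfl (nsmul_p p F v)).trans (S.se_zero he)

theorem pel_conj {H : Type*} [Group H] (g : H) {x : H} (hx : PEl p x) : PEl p (g * x * g⁻¹) := by
  obtain ⟨k, hk⟩ := hx
  exact ⟨k, by rw [← MulAut.conj_apply, ← map_pow, hk, map_one]⟩

theorem pel_of_mem {H : Type*} [Group H] {R : Subgroup H} (hR : IsPGroup p R) {x : H} (hx : x ∈ R) :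
    PEl p x := by
  obtain ⟨k, hk⟩ := hR ⟨x, hx⟩
  exact ⟨k, congrArg Subtype.val hk⟩

include S in
theorem Setup.center_pfree {z : G Q} (hz : z ∈ Subgroup.center (G Q)) (hp : PEl p z) : z = 1 := by
  obtain ⟨k, hk⟩ := hp
  rcases S.center_pm hz with h | h
  · exact ext_ap fun x => by rw [h, ap_one]
  have hpow : ∀ n : ℕ, ∀ x, ap (z ^ n) x = (-1 : F) ^ n • x := fun n => by
    induction n with
    | zero => intro x; rw [pow_zero, pow_zero, one_smul, ap_one]
    | succ n ih => intro x; rw [pow_succ, ap_mul, h, ih, pow_succ, mul_smul, neg_one_smul, smul_neg]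
  refine ext_ap fun x => ?_
  rw [h, ap_one, ← neg_one_smul F x]
  conv_rhs => rw [← one_smul F x]
  rcases eq_or_ne x 0 with rfl | hx
  · simp
  have h1 : (-1 : F) ^ (p ^ k) = 1 := by
    refine smul_left_injective F hx ?_
    show ((-1 : F) ^ (p ^ k)) • x = (1 : F) • x
    rw [← hpow, hk, one_smul, ap_one]
  rw [sub_eq_zero.1 (eq_zero_of_pow_eq_zero
    (show ((-1 : F) - 1) ^ (p ^ k) = 0 by rw [sub_pow_char_pow, one_pow, h1, sub_self]))]

include S in
theorem Setup.pel_inj {x y : G Q} (hx : PEl p x) (hy : PEl p y) (h : pr Q x = pr Q y) : x = y := by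
  have hc : x⁻¹ * y ∈ Subgroup.center (G Q) := pr_eq_one.1 (by rw [map_mul, map_inv, h, inv_mul_cancel])
  obtain ⟨k, hk⟩ := hx
  obtain ⟨l, hl⟩ := hy
  have hxc : Commute x (x⁻¹ * y) := Subgroup.mem_center_iff.mp hc x
  refine inv_mul_eq_one.mp (S.center_pfree p hc ⟨k + l, ?_⟩)
  have h2 : y ^ (p ^ (k + l)) = 1 := by rw [pow_add, mul_comm, pow_mul, hl, one_pow]
  have h3 : x ^ (p ^ (k + l)) = 1 := by rw [pow_add, pow_mul, hk, one_pow]
  rw [show y = x * (x⁻¹ * y) by rw [mul_inv_cancel_left], hxc.mul_pow, h3, one_mul] at h2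
  exact h2

include S in
theorem Setup.pel_comm {x y : G Q} (hy : PEl p y) (h : pr Q x * pr Q y = pr Q y * pr Q x) :
    x * y = y * x :=
  mul_inv_eq_iff_eq_mul.mp (S.pel_inj p (pel_conj p x hy) hy
    (by rw [map_mul, map_mul, map_inv, h, mul_inv_cancel_right]))

/-- A `p`-group fixes a non-zero vector of any non-zero invariant subgroup. -/
theorem exists_fixed {R : Type*} [Group R] (hR : IsPGroup p R) (U : Submodule F V)
    (ρ : R → V → V) (hmaps : ∀ r, ∀ u ∈ U, ρ r u ∈ U) (h1 : ∀ u ∈ U, ρ 1 u = u)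
    (hmul : ∀ r s, ∀ u ∈ U, ρ (r * s) u = ρ r (ρ s u)) (h0 : ∀ r, ρ r 0 = 0)
    (hU : ∃ u ∈ U, u ≠ 0) : ∃ u ∈ U, u ≠ 0 ∧ ∀ r, ρ r u = u := by
  haveI : Finite V := Module.finite_of_finite F
  letI : MulAction R U :=
    { smul := fun r u => ⟨ρ r u.1, hmaps r u.1 u.2⟩
      one_smul := fun u => Subtype.ext (h1 u.1 u.2)
      mul_smul := fun r s u => Subtype.ext (hmul r s u.1 u.2) }
  obtain ⟨u, hu, hu0⟩ := hU
  have hdvd : p ∣ Nat.card U := by
    have hp : addOrderOf (⟨u, hu⟩ : U) = p :=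
      addOrderOf_eq_prime (Subtype.ext (nsmul_p p F u)) fun h => hu0 (congrArg Subtype.val h)
    exact hp ▸ addOrderOf_dvd_natCard _
  obtain ⟨b, hb, hb0⟩ := hR.exists_fixed_point_of_prime_dvd_card_of_fixed_point U hdvd
    (a := (0 : U)) (fun r => Subtype.ext (h0 r))
  exact ⟨b.1, b.2, fun h => hb0 (Subtype.ext h.symm), fun r => congrArg Subtype.val (hb r)⟩

/-- A `p`-subgroup fixes a non-zero vector of an invariant subspace. -/
theorem exists_fixed_sub {R : Subgroup (G Q)} (hR : IsPGroup p R) (U : Submodule F V)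
    (hmaps : ∀ r ∈ R, ∀ u ∈ U, ap r u ∈ U) (hU : ∃ u ∈ U, u ≠ 0) :
    ∃ u ∈ U, u ≠ 0 ∧ ∀ r ∈ R, ap r u = u := by
  obtain ⟨u, hu, hu0, h⟩ := exists_fixed p hR U (fun (r : R) x => ap r.1 x) (fun r => hmaps r.1 r.2)
    (fun u _ => ap_one u) (fun r s u _ => ap_mul r.1 s.1 u) (fun r => ap_zero r.1) hU
  exact ⟨u, hu, hu0, fun r hr => h ⟨r, hr⟩⟩

include S in
/-- The Siegel group fixes no vector outside its line. -/
theorem Setup.fixed_Qg {e : V} (he : Q e = 0) (he0 : e ≠ 0) {v : V}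
    (h : ∀ g ∈ S.Qg he, ap g v = v) : ∃ c : F, v = c • e := by
  obtain ⟨T⟩ := S.frame
  have h6 := six_le S.pnd T
  have key : ∀ w, polar Q e w = 0 → polar Q e v • w = (polar Q w v + Q w * polar Q e v) • e := fun w hw => by
    have h1 := h _ (S.se_mem he hw)
    rw [S.ap_se] at h1
    linear_combination (norm := module) h1
  have hev : polar Q e v = 0 := by
    by_contra hne
    obtain ⟨f, hf⟩ := exists_pair S.pnd he0 he
    have hd := finrank_comp hf
    obtain ⟨w, hw⟩ : ∃ w : comp Q (e, f), w ≠ 0 := by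
      haveI : Nontrivial (comp Q (e, f)) := Module.nontrivial_of_finrank_pos (R := F) (by omega)
      exact exists_ne 0
    obtain ⟨h1, h2⟩ := mem_comp.mp w.2
    have h3 := congrArg (polar Q f) (key _ h1)
    have hfe : polar Q f e = 1 := by rw [polar_comm]; exact hf.2.2
    rw [polar_smul_right, polar_smul_right, h2, hfe, smul_zero, smul_eq_mul, mul_one] at h3
    have h4 := key _ h1
    rw [← h3, zero_smul, smul_eq_zero] at h4
    exact hw (Subtype.ext (h4.resolve_left hne))
  by_contra hc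
  push Not at hc
  obtain ⟨z, hz, hzv⟩ := exists_polar_sep S.pnd (H := Submodule.span F {e}) (x := v)
    (fun hm => by
      obtain ⟨c, hc'⟩ := Submodule.mem_span_singleton.mp hm
      exact hc c hc'.symm) 1
  have h1 := key z (by rw [polar_comm]; exact hz e (Submodule.mem_span_singleton_self e))
  rw [hev, zero_smul, mul_zero, add_zero, hzv, one_smul] at h1
  exact he0 h1.symm

include S in
/-- A Sylow subgroup above the Siegel group fixes the point. -/
theorem Setup.exists_sylow {e : V} (he : Q e = 0) (he0 : e ≠ 0) :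
    ∃ U : Sylow p (G Q), S.Qg he ≤ U ∧ ∀ g ∈ U, ap g e = e := by
  obtain ⟨U, hU⟩ := (S.isPGroup_Qg p he).exists_le_sylow
  obtain ⟨v, -, hv0, hv⟩ := exists_fixed_sub p U.2 (⊤ : Submodule F V) (fun _ _ _ _ => trivial)
    ⟨e, trivial, he0⟩
  obtain ⟨c, rfl⟩ := S.fixed_Qg he he0 fun g hg => hv g (hU hg)
  refine ⟨U, hU, fun g hg => ?_⟩
  have hc : c ≠ 0 := fun h => hv0 (by rw [h, zero_smul])
  have h1 := hv g hg
  rw [ap_smul] at h1
  exact smul_right_injective V hc h1

end Prime

include S in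
/-- Transitivity on singular points. -/
theorem Setup.exists_point_move {e e' : V} (he : Q e = 0) (he0 : e ≠ 0) (he' : Q e' = 0) (he0' : e' ≠ 0) :
    ∃ (g : G Q) (c : F), c ≠ 0 ∧ ap g e = c • e' := by
  obtain ⟨p, _⟩ := CharP.exists F
  haveI : Fact p.Prime := ⟨CharP.char_is_prime F p⟩
  haveI : Finite V := Module.finite_of_finite F
  haveI : Finite (G Q) := finite_G
  obtain ⟨U, -, hU⟩ := S.exists_sylow p he he0
  obtain ⟨U', hU', -⟩ := S.exists_sylow p he' he0'
  obtain ⟨g, hg⟩ := MulAction.exists_smul_eq (G Q) U U'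
  have hfix : ∀ x ∈ S.Qg he', ap x (ap g e) = ap g e := fun x hx => by
    have hx' : x ∈ ((g • U : Sylow p (G Q)) : Subgroup (G Q)) := hg.symm ▸ hU' hx
    rw [Sylow.smul_def] at hx'
    replace hx' : x ∈ MulAut.conj g • (U : Subgroup (G Q)) := hx'
    rw [Subgroup.mem_pointwise_smul_iff_inv_smul_mem] at hx'
    have h1 := hU _ hx'
    simp only [MulAut.smul_def, MulAut.inv_apply, MulAut.conj_symm_apply] at h1
    rw [ap_mul, ap_mul] at h1
    have h2 := congrArg (ap g) h1
    rwa [ap_ap_inv] at h2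
  obtain ⟨c, hc⟩ := S.fixed_Qg he' he0' hfix
  exact ⟨g, c, fun h => ap_ne_zero g he0 (by rw [hc, h, zero_smul]), hc⟩

/-- Three pairs carried by an isometry, the first pair rescaled. -/
noncomputable def moveFrame (T : ThreePairs Q) (g : G Q) (c : F) (hc : c ≠ 0) : ThreePairs Q where
  e := c⁻¹ • ap g T.e
  f := c • ap g T.f
  w := ap g T.w
  w' := ap g T.w'
  u := ap g T.u
  z := ap g T.z
  hp := ⟨by rw [QuadraticMap.map_smul, q_ap, T.hp.1, smul_zero],
    by rw [QuadraticMap.map_smul, q_ap, T.hp.2.1, smul_zero],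
    by rw [polar_smul_left, polar_smul_right, polar_ap, T.hp.2.2, smul_eq_mul, smul_eq_mul, mul_one,
      inv_mul_cancel₀ hc]⟩
  hq := ⟨by rw [q_ap, T.hq.1], by rw [q_ap, T.hq.2.1], by rw [polar_ap, T.hq.2.2]⟩
  hs := ⟨by rw [q_ap, T.hs.1], by rw [q_ap, T.hs.2.1], by rw [polar_ap, T.hs.2.2]⟩
  ew := by rw [polar_smul_left, polar_ap, T.ew, smul_zero]
  ew' := by rw [polar_smul_left, polar_ap, T.ew', smul_zero]
  fw := by rw [polar_smul_left, polar_ap, T.fw, smul_zero]
  fw' := by rw [polar_smul_left, polar_ap, T.fw', smul_zero]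
  eu := by rw [polar_smul_left, polar_ap, T.eu, smul_zero]
  ez := by rw [polar_smul_left, polar_ap, T.ez, smul_zero]
  fu := by rw [polar_smul_left, polar_ap, T.fu, smul_zero]
  fz := by rw [polar_smul_left, polar_ap, T.fz, smul_zero]
  wu := by rw [polar_ap, T.wu]
  wz := by rw [polar_ap, T.wz]
  w'u := by rw [polar_ap, T.w'u]
  w'z := by rw [polar_ap, T.w'z]

include S in
/-- Three pairs through a given singular vector. -/
theorem Setup.exists_frame {e : V} (he : Q e = 0) (he0 : e ≠ 0) : ∃ T : ThreePairs Q, T.e = e := by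
  obtain ⟨T⟩ := S.frame
  have hTe : T.e ≠ 0 := fun h => by
    have h1 : polar Q T.e T.f = 1 := T.hp.2.2
    rw [h, polar_zero_left] at h1
    exact zero_ne_one h1
  obtain ⟨g, c, hc, hg⟩ := S.exists_point_move T.hp.1 hTe he he0
  exact ⟨moveFrame T g c hc, show c⁻¹ • ap g T.e = e by rw [hg, smul_smul, inv_mul_cancel₀ hc, one_smul]⟩

/-- The component orthogonal to a pair. -/
def proj (Q : QuadraticForm F V) (e f x : V) : V := x - polar Q f x • e - polar Q e x • f

theorem proj_mem {e f : V} (h : IsHPair Q (e, f)) (x : V) : proj Q e f x ∈ comp Q (e, f) :=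
  exists_split h x

theorem eq_proj_add (e f x : V) : x = polar Q f x • e + polar Q e x • f + proj Q e f x := by
  rw [proj]; abel

include S in
/-- An element fixing `e` and acting trivially on `e^⊥/e` is a Siegel transformation. -/
theorem Setup.mem_Qg_of_trivial {e f : V} (hp : IsHPair Q (e, f)) {g : G Q} (hge : ap g e = e)
    (htriv : ∀ w ∈ comp Q (e, f), ∃ c : F, ap g w = w + c • e) :
    g = S.se hp.1 (v := proj Q e f (ap g f)) (mem_comp.mp (proj_mem hp (ap g f))).1 := by
  obtain ⟨he, hf, hef⟩ := hp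
  change Q e = 0 at he
  change Q f = 0 at hf
  change polar Q e f = 1 at hef
  have hfe : polar Q f e = 1 := by rw [polar_comm]; exact hef
  set v := proj Q e f (ap g f) with hv
  have hvm : polar Q e v = 0 ∧ polar Q f v = 0 := mem_comp.mp (proj_mem ⟨he, hf, hef⟩ (ap g f))
  have hgf : ap g f = polar Q f (ap g f) • e + f + v := by
    have h1 : polar Q e (ap g f) = 1 := by rw [← hge, polar_ap, hef]
    conv_lhs => rw [eq_proj_add (Q := Q) e f (ap g f), h1, one_smul, ← hv]
  have hcoef : polar Q f (ap g f) = -Q v := by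
    have h1 := q_ap g f
    rw [hgf, map_two, map_two, QuadraticMap.map_smul, he, hf, polar_smul_left, hef, polar_add_left,
      polar_smul_left, hvm.1, hvm.2] at h1
    simp only [smul_eq_mul, mul_zero, zero_add, add_zero, mul_one] at h1
    linear_combination h1
  rw [hcoef] at hgf
  refine ext_ap fun x => ?_
  obtain ⟨r, hr⟩ : ∃ r, r = proj Q e f x := ⟨_, rfl⟩
  have hrm : polar Q e r = 0 ∧ polar Q f r = 0 := mem_comp.mp (hr ▸ proj_mem ⟨he, hf, hef⟩ x)
  obtain ⟨c, hc⟩ := htriv r (mem_comp.mpr hrm)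
  have hcr : c = -polar Q v r := by
    have h1 := polar_ap g f r
    rw [hgf, hc, hrm.2] at h1
    simp only [polar_add_left, polar_add_right, polar_smul_left, polar_smul_right, polar_self_zero he, hfe,
      hrm.1, hrm.2, polar_comm Q v e, hvm.1, smul_eq_mul, mul_zero, zero_add, add_zero, mul_one] at h1
    linear_combination h1
  have hx : x = polar Q f x • e + polar Q e x • f + r := hr ▸ eq_proj_add e f x
  conv_lhs => rw [hx]
  rw [ap_add, ap_add, ap_smul, ap_smul, hge, hc, hcr, S.ap_se, ← hv, hgf]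
  conv_rhs => rw [hx]
  simp only [polar_add_right, polar_smul_right, polar_self_zero he, hef, hrm.1, polar_comm Q v e, hvm.1,
    polar_comm Q v f, hvm.2, smul_eq_mul, mul_zero, add_zero, zero_add, mul_one]
  module

include S in
/-- Singular vectors of the complement span it. -/
theorem Setup.exists_singular_nonperp {T : ThreePairs Q} {w : V} (hw : w ∈ comp Q (T.e, T.f)) (hw0 : w ≠ 0) :
    ∃ a ∈ comp Q (T.e, T.f), Q a = 0 ∧ polar Q a w ≠ 0 := by
  by_contra hcon
  push Not at hcon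
  have hq : IsHPair (res Q (T.e, T.f)) (⟨T.w, mem_comp.mpr ⟨T.ew, T.fw⟩⟩, ⟨T.w', mem_comp.mpr ⟨T.ew', T.fw'⟩⟩) :=
    ⟨T.hq.1, T.hq.2.1, T.hq.2.2⟩
  refine hw0 (congrArg Subtype.val (res_pnd S.pnd T.hp ⟨w, hw⟩ fun y => ?_))
  refine singular_induction hq (motive := fun y => polar (res Q (T.e, T.f)) ⟨w, hw⟩ y = 0) ?_ ?_ y
  · intro u v hu hv; rw [polar_add_right, hu, hv, add_zero]
  · intro v hv
    rw [res_polar, polar_comm]
    exact hcon v.1 v.2 (by rwa [res_apply] at hv)

include S in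
/-- Two non-orthogonal vectors of the complement orthogonal to a singular one. -/
theorem Setup.exists_pair_perp {T : ThreePairs Q} {a : V} (ha : a ∈ comp Q (T.e, T.f)) (ha0 : a ≠ 0)
    (haQ : Q a = 0) : (∃ a' ∈ comp Q (T.e, T.f), Q a' = 0 ∧ polar Q a a' = 1) ∧
      ∃ b ∈ comp Q (T.e, T.f), ∃ b' ∈ comp Q (T.e, T.f),
        polar Q a b = 0 ∧ polar Q a b' = 0 ∧ polar Q b b' ≠ 0 := by
  have h6 := six_le S.pnd T
  have hd := finrank_comp T.hp
  have hR := res_pnd S.pnd T.hp
  obtain ⟨a', ha'⟩ := exists_pair hR (e := (⟨a, ha⟩ : comp Q (T.e, T.f)))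
    (fun h => ha0 (congrArg Subtype.val h)) haQ
  refine ⟨⟨a'.1, a'.2, ha'.2.1, ha'.2.2⟩, ?_⟩
  have hd2 := finrank_comp ha'
  have hR2 := res_pnd hR ha'
  haveI : Nontrivial (comp (res Q (T.e, T.f)) (⟨a, ha⟩, a')) :=
    Module.nontrivial_of_finrank_pos (R := F) (by omega)
  obtain ⟨b, hb⟩ := exists_ne (0 : comp (res Q (T.e, T.f)) (⟨a, ha⟩, a'))
  obtain ⟨b', hb'⟩ : ∃ b', polar (res (res Q (T.e, T.f)) (⟨a, ha⟩, a')) b b' ≠ 0 := by
    by_contra h
    push Not at h
    exact hb (hR2 b h)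
  exact ⟨b.1.1, b.1.2, b'.1.1, b'.1.2, (mem_comp.mp b.2).1, (mem_comp.mp b'.2).1, hb'⟩

include S in
/-- A normal `p`-subgroup of a point stabiliser lies in the Siegel group. -/
theorem Setup.le_Qg (p : ℕ) [Fact p.Prime] [CharP F p] {e : V} (he : Q e = 0) (he0 : e ≠ 0)
    {R : Subgroup (G Q)} (hR : IsPGroup p R) (hle : R ≤ Stab Q e)
    (hnorm : ∀ g ∈ Stab Q e, ∀ r ∈ R, g * r * g⁻¹ ∈ R) : R ≤ S.Qg he := by
  obtain ⟨T, hT⟩ := S.exists_frame he he0
  subst hT
  have hfix : ∀ r ∈ R, ap r T.e = T.e := by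
    intro r hr
    obtain ⟨c, hc0, hc⟩ := hle hr
    obtain ⟨k, hk⟩ := pel_of_mem p hR hr
    have hpow : ∀ n : ℕ, ap (r ^ n) T.e = c ^ n • T.e := fun n => by
      induction n with
      | zero => rw [pow_zero, pow_zero, one_smul, ap_one]
      | succ n ih => rw [pow_succ, ap_mul, hc, ap_smul, ih, smul_smul, pow_succ, mul_comm]
    have h1 : c ^ (p ^ k) = 1 := smul_left_injective F he0 (by
      show c ^ (p ^ k) • T.e = (1 : F) • T.e
      rw [← hpow, hk, one_smul, ap_one])
    rw [hc, sub_eq_zero.1 (eq_zero_of_pow_eq_zero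
      (show (c - 1) ^ (p ^ k) = 0 by rw [sub_pow_char_pow, one_pow, h1, sub_self])), one_smul]
  have hp := T.hp
  have hfe : polar Q T.f T.e = 1 := by rw [polar_comm]; exact hp.2.2
  have hinv : ∀ r ∈ R, ∀ x, polar Q T.e (ap r x) = polar Q T.e x := fun r hr x => by
    conv_lhs => rw [← hfix r hr]
    exact polar_ap r _ _
  have hproje : proj Q T.e T.f T.e = 0 := by rw [proj, hfe, polar_self_zero he]; simp
  let U : Submodule F V :=
    { carrier := {w | polar Q T.e w = 0 ∧ ∀ r ∈ R, ∃ c : F, ap r w = w + c • T.e}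
      zero_mem' := ⟨polar_zero_right _ _, fun r _ => ⟨0, by rw [ap_zero, zero_smul, add_zero]⟩⟩
      add_mem' := fun {a b} ha hb => ⟨by rw [polar_add_right, ha.1, hb.1, add_zero], fun r hr => by
        obtain ⟨c, hc⟩ := ha.2 r hr
        obtain ⟨d, hd⟩ := hb.2 r hr
        exact ⟨c + d, by rw [ap_add, hc, hd]; module⟩⟩
      smul_mem' := fun k w hw => ⟨by rw [polar_smul_right, hw.1, smul_zero], fun r hr => by
        obtain ⟨c, hc⟩ := hw.2 r hr
        exact ⟨k * c, by rw [ap_smul, hc]; module⟩⟩ }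
  -- a fixed point on `e^⊥/e`
  have hρ : ∀ r ∈ R, ∀ w ∈ comp Q (T.e, T.f),
      ap r w = proj Q T.e T.f (ap r w) + polar Q T.f (ap r w) • T.e := fun r hr w hw => by
    have h1 : polar Q T.e (ap r w) = 0 := (hinv r hr w).trans (mem_comp.mp hw).1
    rw [proj, h1]; module
  have hprojmem : ∀ w ∈ comp Q (T.e, T.f), proj Q T.e T.f w = w := fun w hw => by
    rw [proj, (mem_comp.mp hw).1, (mem_comp.mp hw).2]; simp
  obtain ⟨u, hu, hu0, hufix⟩ := exists_fixed p hR (comp Q (T.e, T.f))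
    (fun (r : R) x => proj Q T.e T.f (ap r.1 x)) (fun r w _ => proj_mem hp _)
    (fun w hw => by show proj Q T.e T.f (ap 1 w) = w; rw [ap_one, hprojmem w hw])
    (fun r s w hw => by
      show proj Q T.e T.f (ap (r.1 * s.1) w) = proj Q T.e T.f (ap r.1 (proj Q T.e T.f (ap s.1 w)))
      conv_lhs => rw [ap_mul, hρ s.1 s.2 w hw, ap_add, ap_smul, hfix r.1 r.2]
      simp only [proj, polar_add_right, polar_smul_right, polar_self_zero he, hfe, smul_eq_mul]
      module)
    (fun r => by rw [ap_zero]; simp [proj])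
    ⟨T.w, mem_comp.mpr ⟨T.ew, T.fw⟩, fun h => by
      have h1 : polar Q T.w T.w' = 1 := T.hq.2.2
      rw [h, polar_zero_left] at h1
      exact zero_ne_one h1⟩
  have huU : u ∈ U := ⟨(mem_comp.mp hu).1, fun r hr => ⟨_, by
    conv_lhs => rw [hρ r hr u hu, show proj Q T.e T.f (ap r u) = u from hufix ⟨r, hr⟩]⟩⟩
  -- invariance under the Siegel transformations fixing `e`
  have hmove : ∀ w ∈ U, ∀ a b : V, ∀ (ha : Q a = 0) (hb : polar Q a b = 0), polar Q a T.e = 0 →
      polar Q b T.e = 0 → polar Q a w • b - (polar Q b w + Q b * polar Q a w) • a ∈ U := by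
    intro w hw a b ha hb hae hbe
    set τ := S.se ha hb with hτ
    have hτe : ap τ T.e = T.e := by rw [hτ, S.ap_se, hae, hbe]; simp
    have hτS : τ⁻¹ ∈ Stab Q T.e := inv_mem ⟨1, one_ne_zero, by rw [hτe, one_smul]⟩
    have h1 : ap τ w ∈ U := by
      refine ⟨by conv_lhs => rw [← hτe, polar_ap, hw.1], fun r hr => ?_⟩
      obtain ⟨c, hc⟩ := hw.2 _ (hnorm _ hτS r hr)
      refine ⟨c, ?_⟩
      have h3 := congrArg (ap τ) hc
      rw [inv_inv, ap_mul, ap_mul, ap_ap_inv, ap_add, ap_smul, hτe] at h3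
      exact h3
    have h2 := U.sub_mem h1 hw
    rw [hτ, S.ap_se] at h2
    convert h2 using 1
    abel
  -- a singular vector with its perp
  have hperp : ∀ w ∈ U, ∀ a ∈ comp Q (T.e, T.f), Q a = 0 → polar Q a w ≠ 0 →
      a ∈ U ∧ ∀ b ∈ comp Q (T.e, T.f), polar Q a b = 0 → b ∈ U := by
    intro w hw a ha haQ haw
    have hae : polar Q a T.e = 0 := by rw [polar_comm]; exact (mem_comp.mp ha).1
    have ha0 : a ≠ 0 := fun h => haw (by rw [h, polar_zero_left])
    obtain ⟨-, b, hb, b', hb', hab, hab', hbb⟩ := S.exists_pair_perp ha ha0 haQ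
    have hbe : polar Q b T.e = 0 := by rw [polar_comm]; exact (mem_comp.mp hb).1
    have hbe' : polar Q b' T.e = 0 := by rw [polar_comm]; exact (mem_comp.mp hb').1
    have h1 := hmove w hw a b haQ hab hae hbe
    have h2 := hmove w hw a b' haQ hab' hae hbe'
    have h3 := hmove w hw a (b + b') haQ (by rw [polar_add_right, hab, hab', add_zero]) hae
      (by rw [polar_add_left, hbe, hbe', add_zero])
    have haU : a ∈ U := by
      have h4 := U.sub_mem (U.sub_mem h3 h1) h2
      rw [polar_add_left, map_two] at h4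
      have h5 : (-(polar Q b b' * polar Q a w)) • a ∈ U := by convert h4 using 1; module
      have h6 := U.smul_mem (-(polar Q b b' * polar Q a w))⁻¹ h5
      rwa [smul_smul, inv_mul_cancel₀ (neg_ne_zero.mpr (mul_ne_zero hbb haw)), one_smul] at h6
    refine ⟨haU, fun c hc hac => ?_⟩
    have h4 := U.add_mem (hmove w hw a c haQ hac hae (by rw [polar_comm]; exact (mem_comp.mp hc).1))
      (U.smul_mem (polar Q c w + Q c * polar Q a w) haU)
    rw [sub_add_cancel] at h4
    have h5 := U.smul_mem (polar Q a w)⁻¹ h4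
    rwa [smul_smul, inv_mul_cancel₀ haw, one_smul] at h5
  obtain ⟨a, ha, haQ, hau⟩ := S.exists_singular_nonperp hu hu0
  obtain ⟨haU, hperpa⟩ := hperp u huU a ha haQ hau
  obtain ⟨⟨a', ha', ha'Q, haa'⟩, -⟩ :=
    S.exists_pair_perp ha (fun h => hau (by rw [h, polar_zero_left])) haQ
  obtain ⟨ha'U, -⟩ := hperp a haU a' ha' ha'Q (by rw [polar_comm, haa']; exact one_ne_zero)
  intro r hr
  refine (S.mem_Qg he).2 ⟨_, _, S.mem_Qg_of_trivial hp (hfix r hr) fun w hw => ?_⟩
  refine (show w ∈ U from ?_).2 r hr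
  have h1 := U.add_mem (hperpa (w - polar Q a w • a')
    ((comp Q (T.e, T.f)).sub_mem hw ((comp Q (T.e, T.f)).smul_mem _ ha'))
    (by rw [polar_sub_right, polar_smul_right, haa', smul_eq_mul, mul_one, sub_self]))
    (U.smul_mem (polar Q a w) ha'U)
  rwa [sub_add_cancel] at h1

end Cfsg.Agent.Small.OrthAut
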