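import Cfsg.Agent.Lib.Small.OrthAut.Image
import Cfsg.Agent.Lib.Small.Orth.SimAut

/-!
Semisimilitudes, the automorphisms they induce, and the relations between points read off from the
Siegel groups.
-/

set_option autoImplicit false
set_option linter.unusedSectionVars false
set_option linter.style.haveILetI false

namespace Cfsg.Agent.Small.OrthAut

open Module QuadraticMap
open scoped Pointwise
open Cfsg.Agent.Classical
open Cfsg.Agent.Classical.OCount Cfsg.Agent.Classical.ORefl Cfsg.Agent.Classical.OOmega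

variable {F : Type*} [Field F] [Finite F] {V : Type*} [AddCommGroup V] [Module F V] [FiniteDimensional F V]
  {Q : QuadraticForm F V}

/-- A semisimilitude. -/
structure Semi (Q : QuadraticForm F V) where
  /-- The field automorphism. -/
  σ : F ≃+* F
  /-- The map. -/
  L : V ≃+ V
  /-- The multiplier. -/
  N : F
  hN : N ≠ 0
  map_smul : ∀ (c : F) (x : V), L (c • x) = σ c • L x
  map_q : ∀ x, Q (L x) = N * σ (Q x)

namespace Semi

variable (l : Semi Q)

theorem map_polar (x y : V) : polar Q (l.L x) (l.L y) = l.N * l.σ (polar Q x y) := by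
  simp only [polar, ← map_add, l.map_q, map_sub, mul_sub]

theorem symm_smul (c : F) (x : V) : l.L.symm (c • x) = l.σ.symm c • l.L.symm x :=
  l.L.injective (by rw [l.L.apply_symm_apply, l.map_smul, l.σ.apply_symm_apply, l.L.apply_symm_apply])

/-- The conjugate of a linear map. -/
def conjLin (g : V ≃ₗ[F] V) : V ≃ₗ[F] V :=
  { l.L.symm.trans (g.toAddEquiv.trans l.L) with
    map_smul' := fun c x => by
      show l.L (g (l.L.symm (c • x))) = c • l.L (g (l.L.symm x))
      rw [l.symm_smul, LinearEquiv.map_smul, l.map_smul, l.σ.apply_symm_apply] }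

theorem conjLin_apply (g : V ≃ₗ[F] V) (x : V) : l.conjLin g x = l.L (g (l.L.symm x)) := rfl

theorem conjLin_mem {g : V ≃ₗ[F] V} (hg : g ∈ Iso Q) : l.conjLin g ∈ Iso Q := fun x => by
  rw [l.conjLin_apply, l.map_q, hg, ← l.map_q, l.L.apply_symm_apply]

/-- The inverse conjugate of a linear map. -/
def conjLinInv (g : V ≃ₗ[F] V) : V ≃ₗ[F] V :=
  { l.L.trans (g.toAddEquiv.trans l.L.symm) with
    map_smul' := fun c x => by
      show l.L.symm (g (l.L (c • x))) = c • l.L.symm (g (l.L x))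
      rw [l.map_smul, LinearEquiv.map_smul, l.symm_smul, l.σ.symm_apply_apply] }

theorem conjLinInv_apply (g : V ≃ₗ[F] V) (x : V) : l.conjLinInv g x = l.L.symm (g (l.L x)) := rfl

theorem conjLinInv_mem {g : V ≃ₗ[F] V} (hg : g ∈ Iso Q) : l.conjLinInv g ∈ Iso Q := fun x => by
  have h : l.N * l.σ (Q (l.conjLinInv g x)) = l.N * l.σ (Q x) := by
    rw [← l.map_q, l.conjLinInv_apply, l.L.apply_symm_apply, hg, l.map_q]
  exact l.σ.injective (mul_left_cancel₀ l.hN h)

/-- Conjugation of the isometry group. -/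
def conjIso : MulAut ↥(Iso Q) where
  toFun g := ⟨l.conjLin g.1, l.conjLin_mem g.2⟩
  invFun g := ⟨l.conjLinInv g.1, l.conjLinInv_mem g.2⟩
  left_inv g := Subtype.ext (LinearEquiv.ext fun x => by simp [conjLin_apply, conjLinInv_apply])
  right_inv g := Subtype.ext (LinearEquiv.ext fun x => by simp [conjLin_apply, conjLinInv_apply])
  map_mul' g h := Subtype.ext (LinearEquiv.ext fun x => by simp [conjLin_apply])

/-- Conjugation of the derived group. -/
noncomputable def cg : MulAut (G Q) := Orth.derivedAut _ l.conjIso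

/-- The induced automorphism. -/
noncomputable def aut : MulAut (PG Q) := Orth.centerQuotAut _ l.cg

theorem aut_pr (g : G Q) : l.aut (pr Q g) = pr Q (l.cg g) := rfl

theorem ap_cg (g : G Q) (x : V) : ap (l.cg g) x = l.L (ap g (l.L.symm x)) := rfl

theorem ap_cg_L (g : G Q) (x : V) : ap (l.cg g) (l.L x) = l.L (ap g x) := by
  rw [l.ap_cg, l.L.symm_apply_apply]

/-- The composite. -/
def comp' (k : Semi Q) : Semi Q where
  σ := k.σ.trans l.σ
  L := k.L.trans l.L
  N := l.N * l.σ k.N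
  hN := mul_ne_zero l.hN ((map_ne_zero l.σ).mpr k.hN)
  map_smul c x := by
    show l.L (k.L (c • x)) = l.σ (k.σ c) • l.L (k.L x)
    rw [k.map_smul, l.map_smul]
  map_q x := by
    show Q (l.L (k.L x)) = l.N * l.σ k.N * l.σ (k.σ (Q x))
    rw [l.map_q, k.map_q, map_mul, mul_assoc]

theorem aut_comp (k : Semi Q) : (l.comp' k).aut = l.aut * k.aut := by
  refine MulEquiv.ext fun x => ?_
  obtain ⟨g, rfl⟩ := pr_surjective x
  rw [MulAut.mul_apply, aut_pr, aut_pr, aut_pr]
  exact congrArg _ (ext_ap fun x => rfl)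

/-- An element of the group as a semisimilitude. -/
def ofG (g : G Q) : Semi Q where
  σ := RingEquiv.refl F
  L := g.1.1.toAddEquiv
  N := 1
  hN := one_ne_zero
  map_smul c x := g.1.1.map_smul c x
  map_q x := by
    show Q (g.1.1 x) = 1 * Q x
    rw [one_mul]; exact g.1.2 x

theorem aut_ofG (g : G Q) : (ofG g).aut = MulAut.conj (pr Q g) := by
  refine MulEquiv.ext fun x => ?_
  obtain ⟨h, rfl⟩ := pr_surjective x
  rw [aut_pr, MulAut.conj_apply, ← map_inv, ← map_mul, ← map_mul]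
  exact congrArg _ (ext_ap fun x => rfl)

end Semi

variable (S : Setup Q)

theorem Setup.cg_se (l : Semi Q) {a v : V} (ha : Q a = 0) (hv : polar Q a v = 0) :
    ∃ (ha' : Q (l.L a) = 0) (hv' : polar Q (l.L a) (l.N⁻¹ • l.L v) = 0),
      l.cg (S.se ha hv) = S.se ha' hv' := by
  have hN := l.hN
  refine ⟨by rw [l.map_q, ha, map_zero, mul_zero], by rw [polar_smul_right, l.map_polar, hv]; simp,
    ext_ap fun x => ?_⟩
  obtain ⟨y, rfl⟩ := l.L.surjective x
  rw [l.ap_cg_L, S.ap_se, S.ap_se, map_sub, map_add, l.map_smul, l.map_smul, map_add, map_mul, polar_smul_left,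
    QuadraticMap.map_smul, l.map_polar, l.map_polar, l.map_q]
  simp only [smul_eq_mul]
  match_scalars <;> field_simp

/-- A semisimilitude maps the group of a point to that of its image. -/
theorem Setup.aut_PQ (l : Semi Q) {a : V} (ha : Q a = 0) :
    ∃ ha' : Q (l.L a) = 0, (S.PQ ha).map l.aut.toMonoidHom = S.PQ ha' := by
  refine ⟨by rw [l.map_q, ha, map_zero, mul_zero], le_antisymm ?_ ?_⟩
  · rintro _ ⟨_, ⟨g, hg, rfl⟩, rfl⟩
    obtain ⟨v, hv, rfl⟩ := (S.mem_Qg ha).1 hg
    obtain ⟨ha', hv', h⟩ := S.cg_se l ha hv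
    refine ⟨_, S.se_mem ha' hv', ?_⟩
    rw [← h]; rfl
  · rintro _ ⟨g, hg, rfl⟩
    obtain ⟨v, hv, rfl⟩ := (S.mem_Qg _).1 hg
    have hv₀ : polar Q a (l.L.symm (l.N • v)) = 0 := by
      have h := l.map_polar a (l.L.symm (l.N • v))
      rw [l.L.apply_symm_apply, polar_smul_right, hv, smul_zero] at h
      exact (map_eq_zero l.σ).1 ((mul_eq_zero.1 h.symm).resolve_left l.hN)
    obtain ⟨ha', hv', h⟩ := S.cg_se l ha hv₀
    refine ⟨_, ⟨_, S.se_mem ha hv₀, rfl⟩, ?_⟩
    show l.aut (pr Q _) = _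
    rw [l.aut_pr, h]
    exact congrArg _ (S.se_congr _ _ _ _ rfl
      (by rw [l.L.apply_symm_apply, smul_smul, inv_mul_cancel₀ l.hN, one_smul]))

theorem Setup.PQ_congr {a b : V} (ha : Q a = 0) (hb : Q b = 0) (h : a = b) : S.PQ ha = S.PQ hb := by
  subst h; rfl

theorem Setup.PQ_smul {a : V} (ha : Q a = 0) {c : F} (hc : c ≠ 0) (hca : Q (c • a) = 0) :
    S.PQ hca = S.PQ ha := by
  rw [Setup.PQ, Setup.PQ, S.Qg_smul ha hc hca]

theorem Setup.PQ_map_conj (g : G Q) {a : V} (ha : Q a = 0) :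
    (S.PQ ha).map (MulAut.conj (pr Q g)).toMonoidHom = S.PQ (e := ap g a) ((q_ap g a).trans ha) := by
  rw [Setup.PQ, Setup.PQ, ← map_pr_conj, S.Qg_map_conj]

include S in
theorem Setup.mem_of_pr_mem {a : V} (ha : Q a = 0) {p : ℕ} [Fact p.Prime] [CharP F p] {g : G Q}
    (hg : PEl p g) (h : pr Q g ∈ S.PQ ha) : g ∈ S.Qg ha := by
  obtain ⟨k, hk, hkg⟩ := h
  rw [← S.pel_inj p (pel_of_mem p (S.isPGroup_Qg p ha) hk) hg hkg]
  exact hk

include S in
theorem Setup.PQ_inj {a b : V} (ha : Q a = 0) (hb : Q b = 0) (ha0 : a ≠ 0) (hb0 : b ≠ 0)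
    (h : S.PQ ha = S.PQ hb) : ∃ c : F, c ≠ 0 ∧ a = c • b := by
  obtain ⟨p, _⟩ := CharP.exists F
  haveI : Fact p.Prime := ⟨CharP.char_is_prime F p⟩
  obtain ⟨c, hc⟩ := S.fixed_Qg hb hb0 (v := a) fun g hg => S.Qg_fixes ha
    (S.mem_of_pr_mem ha (pel_of_mem p (S.isPGroup_Qg p hb) hg) (h ▸ Subgroup.mem_map_of_mem _ hg))
  exact ⟨c, fun h0 => ha0 (by rw [hc, h0, zero_smul]), hc⟩

theorem Setup.se_swap {a b : V} (ha : Q a = 0) (hb : Q b = 0) (hab : polar Q a b = 0) (c : F) :
    S.se ha (v := c • b) (by rw [polar_smul_right, hab, smul_zero]) =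
      S.se hb (v := (-c) • a) (by rw [polar_smul_right, polar_comm, hab, smul_zero]) := by
  refine ext_ap fun x => ?_
  rw [S.ap_se, S.ap_se, polar_smul_left, polar_smul_left, QuadraticMap.map_smul, QuadraticMap.map_smul, ha, hb]
  simp only [smul_eq_mul, mul_zero, zero_mul, add_zero]
  module

include S in
/-- Distinct points are orthogonal iff their groups meet. -/
theorem Setup.meet_iff {a b : V} (ha : Q a = 0) (hb : Q b = 0) (ha0 : a ≠ 0)
    (hab : ∀ c : F, b ≠ c • a) : polar Q a b = 0 ↔ ∃ y ∈ S.PQ ha, y ∈ S.PQ hb ∧ y ≠ 1 := by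
  obtain ⟨p, _⟩ := CharP.exists F
  haveI : Fact p.Prime := ⟨CharP.char_is_prime F p⟩
  constructor
  · intro h
    have h1 : polar Q a ((1 : F) • b) = 0 := by rw [one_smul, h]
    refine ⟨pr Q (S.se ha h1), ⟨_, S.se_mem ha h1, rfl⟩, ⟨_, ?_, rfl⟩, fun h0 => ?_⟩
    · rw [S.se_swap ha hb h 1]
      exact S.se_mem _ _
    · have h2 : S.se ha h1 = 1 := S.pel_inj p (pel_of_mem p (S.isPGroup_Qg p ha) (S.se_mem ha h1))
        ⟨0, by rw [pow_zero, pow_one]⟩ (by rw [h0, map_one])
      obtain ⟨f, hf⟩ := exists_pair S.pnd ha0 ha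
      have h3 := congrArg (fun g : G Q => ap g f) h2
      rw [S.ap_se, one_smul, show polar Q a f = 1 from hf.2.2, hb, ap_one] at h3
      exact hab _ (show b = polar Q b f • a by linear_combination (norm := module) h3)
  · rintro ⟨_, ⟨g, hg, rfl⟩, hy, hne⟩
    by_contra h
    have hg' := S.mem_of_pr_mem hb (pel_of_mem p (S.isPGroup_Qg p ha) hg) hy
    obtain ⟨v, hv, rfl⟩ := (S.mem_Qg ha).1 hg
    have h1 := S.Qg_fixes hb hg'
    rw [S.ap_se] at h1
    have h2 : v = ((polar Q a b)⁻¹ * (polar Q v b + Q v * polar Q a b)) • a := by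
      have h3 : polar Q a b • v = (polar Q v b + Q v * polar Q a b) • a := by
        linear_combination (norm := module) h1
      rw [mul_smul, ← h3, smul_smul, inv_mul_cancel₀ h, one_smul]
    refine hne ?_
    have h4 : S.se ha hv = 1 := by
      rw [← S.se_zero ha, ← S.se_shift ((polar Q a b)⁻¹ * (polar Q v b + Q v * polar Q a b)) ha
        (polar_zero_right Q a)]
      exact S.se_congr _ _ _ _ rfl (h2.trans (zero_add _).symm)
    rw [h4, map_one]

include S in
/-- Automorphisms mapping point groups to point groups preserve orthogonality. -/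
theorem Setup.perp_iff (β : MulAut (PG Q)) {a b a' b' : V} (ha : Q a = 0) (hb : Q b = 0) (ha' : Q a' = 0)
    (hb' : Q b' = 0) (ha0 : a ≠ 0) (hb0 : b ≠ 0) (ha'0 : a' ≠ 0) (hb'0 : b' ≠ 0)
    (hA : (S.PQ ha).map β.toMonoidHom = S.PQ ha') (hB : (S.PQ hb).map β.toMonoidHom = S.PQ hb') :
    polar Q a b = 0 ↔ polar Q a' b' = 0 := by
  by_cases hd : ∃ c : F, b = c • a
  · obtain ⟨c, rfl⟩ := hd
    have hc : c ≠ 0 := fun h => hb0 (by rw [h, zero_smul])
    rw [S.PQ_smul ha hc hb, hA] at hB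
    obtain ⟨d, -, hd⟩ := S.PQ_inj hb' ha' hb'0 ha'0 hB.symm
    subst hd
    rw [polar_smul_right, polar_smul_right, polar_self_zero ha, polar_self_zero ha', smul_zero, smul_zero]
  push Not at hd
  have hd' : ∀ c : F, b' ≠ c • a' := by
    rintro c rfl
    have hc : c ≠ 0 := fun h => hb'0 (by rw [h, zero_smul])
    rw [S.PQ_smul ha' hc hb', ← hA] at hB
    obtain ⟨d, -, h⟩ := S.PQ_inj hb ha hb0 ha0 (Subgroup.map_injective β.injective hB)
    exact hd d h
  rw [S.meet_iff ha hb ha0 hd, S.meet_iff ha' hb' ha'0 hd', ← hA, ← hB]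
  constructor
  · rintro ⟨y, h1, h2, h3⟩
    exact ⟨β y, ⟨y, h1, rfl⟩, ⟨y, h2, rfl⟩, fun h => h3 (β.injective (h.trans (map_one β).symm))⟩
  · rintro ⟨_, ⟨y, h1, rfl⟩, ⟨z, h2, hz⟩, h3⟩
    obtain rfl : z = y := β.injective hz
    exact ⟨z, h1, h2, fun h => h3 (by rw [h]; exact map_one _)⟩

/-- The Siegel transformation moving one partner of a singular vector to another. -/
theorem Setup.exists_partner_move {a b c : V} (ha : Q a = 0) (hb : Q b = 0) (hc : Q c = 0)
    (hab : polar Q a b = 1) (hac : polar Q a c = 1) :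
    ∃ hu : polar Q a (c - b - polar Q b c • a) = 0, ap (S.se ha hu) b = c := by
  have hau : polar Q a (c - b - polar Q b c • a) = 0 := by
    rw [polar_sub_right, polar_sub_right, polar_smul_right, hab, hac, polar_self_zero ha]; simp
  refine ⟨hau, ?_⟩
  have hbu : polar Q (c - b - polar Q b c • a) b = 0 := by
    rw [polar_sub_left, polar_sub_left, polar_smul_left, polar_comm Q c b, polar_self_zero hb, hab]; simp
  have hQu : Q (c - b - polar Q b c • a) = -polar Q b c := by
    rw [map_sub_two, map_sub_two, QuadraticMap.map_smul, hc, hb, ha, polar_sub_left, polar_smul_right,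
      polar_smul_right, polar_comm Q c a, hac, polar_comm Q b a, hab, polar_comm Q c b]
    simp
  rw [S.ap_se, hab, hbu, hQu]
  module

end Cfsg.Agent.Small.OrthAut
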