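import Cfsg.Agent.Lib.Small.OrthAut.OddSplit

/-!
Field and graph-field automorphisms of prime order of the orthogonal groups: normal form, centraliser,
and conjugacy in their cosets.
-/

set_option autoImplicit false
set_option linter.unusedSectionVars false
set_option linter.style.haveILetI false

namespace Cfsg.Agent.Small.OrthAut

open Module QuadraticMap Matrix
open Cfsg.Agent.Classical
open Cfsg.Agent.Classical.OCount Cfsg.Agent.Classical.ORefl Cfsg.Agent.Classical.OOmega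
open Cfsg.Agent.Small.Orth (GO incl scalarG rho mult prodRf qPlus qMinus)

universe u v

section General

variable {F : Type u} [Field F] [Fintype F] {ι : Type} [Fintype ι] [DecidableEq ι] {Q : QuadraticForm F (ι → F)}

/-- The fixed field. -/
theorem exists_fixed_field (σ : RingAut F) :
    ∃ (F₀ : Type u) (_ : Field F₀) (_ : Fintype F₀) (j : F₀ →+* F), ∀ y, σ y = y ↔ y ∈ Set.range j := by
  let G := Subgroup.zpowers σ
  refine ⟨FixedPoints.subfield G F, inferInstance, Fintype.ofFinite _, (FixedPoints.subfield G F).subtype,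
    fun y => ⟨fun h => ?_, ?_⟩⟩
  · refine ⟨⟨y, fun ⟨τ, k, hk⟩ => ?_⟩, rfl⟩
    subst hk
    exact Subgroup.zpow_mem (MulAction.stabilizer (F ≃+* F) y) h k
  · rintro ⟨⟨x, hx⟩, rfl⟩
    exact hx ⟨σ, Subgroup.mem_zpowers σ⟩

/-- One involution among the field automorphisms. -/
theorem sigma_unique {σ τ : RingAut F} (hσ : orderOf σ = 2) (hτ : orderOf τ = 2) : σ = τ := by
  classical
  obtain ⟨p, f, hp, hf, hF⟩ := exists_card (F := F)
  haveI := Fact.mk hp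
  haveI : NeZero f := ⟨by omega⟩
  obtain ⟨e⟩ := PSLn.fieldAut_equiv hF
  by_contra hne
  have h := IsCyclic.card_pow_eq_one_le (α := Multiplicative (ZMod f)) (n := 2) two_pos
  have hsub : ({1, e σ, e τ} : Finset (Multiplicative (ZMod f))) ⊆ Finset.univ.filter fun a => a ^ 2 = 1 := by
    intro a ha
    rw [Finset.mem_filter]
    refine ⟨Finset.mem_univ a, ?_⟩
    simp only [Finset.mem_insert, Finset.mem_singleton] at ha
    rcases ha with rfl | rfl | rfl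
    · exact one_pow 2
    · rw [← hσ, ← MulEquiv.orderOf_eq e σ]; exact pow_orderOf_eq_one _
    · rw [← hτ, ← MulEquiv.orderOf_eq e τ]; exact pow_orderOf_eq_one _
  have hne1 : e σ ≠ 1 := fun h1 => by
    rw [EmbeddingLike.map_eq_one_iff] at h1
    rw [h1, orderOf_one] at hσ; omega
  have hne2 : e τ ≠ 1 := fun h1 => by
    rw [EmbeddingLike.map_eq_one_iff] at h1
    rw [h1, orderOf_one] at hτ; omega
  have hc := (Finset.card_le_card hsub).trans h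
  rw [Finset.card_eq_three.2 ⟨1, e σ, e τ, hne1.symm, hne2.symm, fun h1 => hne (e.injective h1), rfl⟩] at hc
  omega

variable {F₀ : Type v} [Field F₀] [Fintype F₀] {κ : Type} [Fintype κ] [DecidableEq κ]
  {Q₀ : QuadraticForm F₀ (κ → F₀)} {σ : RingAut F} {j : F₀ →+* F}

/-- An element of the coset of order dividing the degree comes from a structure. -/
theorem Desc.step (D : Desc Q Q₀ σ j) (S : Setup Q) (g : ↥(GO ⇑Q)) (hg : (rho ⇑Q g * D.x) ^ orderOf σ = 1) :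
    ∃ (Q₁ : QuadraticForm F₀ (κ → F₀)) (D₁ : Desc Q Q₁ σ j), PND Q₁ ∧ rho ⇑Q g * D.x = D₁.x ∧
      ∀ {N : ℕ} (P : Split Q N), P.cls (ofSemi D₁.semi) = P.cls (goHom Q g) * P.cls (ofSemi D.semi) := by
  obtain ⟨T⟩ := S.frame
  obtain ⟨v, hv⟩ := exists_value_of_pair T.hp 1
  have hcard : Fintype.card ι = Fintype.card κ := by
    have h := D.T.finrank_eq
    rw [Module.finrank_fintype_fun_eq_card, Module.finrank_fintype_fun_eq_card] at h
    exact h.symm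
  obtain ⟨Q₁, D₁, hQ₁, u, hu⟩ := D.exists_model S ⟨v, by simp [hv]⟩ hcard g hg
  refine ⟨Q₁, D₁, hQ₁, ?_, fun P => ?_⟩
  · show rho ⇑Q g * D.x = autHom Q (ofSemi D₁.semi)
    rw [← hu, map_mul, map_mul, autHom_goHom, autHom_goHom, Desc.rho_scalarG, one_mul]
    rfl
  · rw [← hu, map_mul, map_mul, P.cls_scalar, one_mul]

/-- Two structures with one rational form are conjugate by a class-preserving similitude. -/
theorem Desc.conj_adjust (D₁ D₂ : Desc Q Q₀ σ j) {N : ℕ} (E : EvenData Q N) (E₀ : EvenData Q₀ N) :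
    ∃ h ∈ (evenK Q N).map (rho ⇑Q), D₂.x = h * D₁.x * h⁻¹ := by
  obtain ⟨G, -, hG⟩ := D₁.exists_trans D₂
  have hx : D₂.x = rho ⇑Q G * D₁.x * (rho ⇑Q G)⁻¹ := by
    show autHom Q (ofSemi D₂.semi) = _
    rw [hG, map_mul, map_mul, map_inv, autHom_goHom]
    rfl
  by_cases hK : G ∈ evenK Q N
  · exact ⟨_, ⟨G, hK, rfl⟩, hx⟩
  obtain ⟨h₀, hh₀⟩ := E₀.exists_not_mem
  have hout : D₁.emb h₀ ∉ evenK Q N := fun hm => hh₀ ((D₁.emb_mem_evenK E E₀ h₀).1 hm)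
  refine ⟨_, ⟨G * D₁.emb h₀, E.index_two hK hout, rfl⟩, ?_⟩
  rw [hx, map_mul, mul_assoc (rho ⇑Q G) _ D₁.x, (D₁.commute_rho_emb h₀).eq, _root_.mul_inv_rev]
  group

theorem Desc.conj_odd_dim (D₁ D₂ : Desc Q Q₀ σ j) :
    ∃ h ∈ (⊤ : Subgroup ↥(GO ⇑Q)).map (rho ⇑Q), D₂.x = h * D₁.x * h⁻¹ := by
  obtain ⟨G, -, hG⟩ := D₁.exists_trans D₂
  refine ⟨_, ⟨G, trivial, rfl⟩, ?_⟩
  show autHom Q (ofSemi D₂.semi) = _
  rw [hG, map_mul, map_mul, map_inv, autHom_goHom]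
  rfl

/-- The centraliser. -/
theorem Desc.centralizer_even (D : Desc Q Q₀ σ j) {N : ℕ} (E : EvenData Q N) (E₀ : EvenData Q₀ N) :
    Nonempty (↥((evenK Q N).map (rho ⇑Q) ⊓ Subgroup.centralizer {D.x}) ≃* ↥((evenK Q₀ N).map (rho ⇑Q₀))) := by
  obtain ⟨T⟩ := E₀.setup.frame
  obtain ⟨v, hv⟩ := exists_value_of_pair T.hp 1
  exact D.centralizer_equiv E.setup E₀.setup ⟨v, by simp [hv]⟩ _ _ E.scalar_mem (D.emb_mem_evenK E E₀)

theorem orderOf_conj {X : Type*} [Group X] (h x : X) : orderOf (h * x * h⁻¹) = orderOf x :=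
  MulEquiv.orderOf_eq (MulAut.conj h) x

end General

section Plus

variable {F : Type u} [Field F] [Fintype F] {m : ℕ}

theorem coord_plus (σ : F ≃+* F) (x : Fin m ⊕ Fin m → F) : qPlus F m (fun i => σ (x i)) = σ (qPlus F m x) := by
  simp [coe_plus, Cfsg.quadFormPlus, map_sum, map_mul]

/-- The graph-field class. -/
def GraphFieldClass (q : (Fin m ⊕ Fin m → F) → F) (β : MulAut (Cfsg.POmega F q)) : Prop :=
  ∃ (α γ φ : MulAut (Cfsg.POmega F q)) (σ : F ≃+* F) (v : Fin m ⊕ Fin m → F) (r : GL (Fin m ⊕ Fin m) F),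
    σ ≠ RingEquiv.refl F ∧ q v ≠ 0 ∧ (∀ i, σ (v i) = v i) ∧
    (r : Matrix (Fin m ⊕ Fin m) (Fin m ⊕ Fin m) F) = Cfsg.reflectionMatrix q v ∧
    Cfsg.IsInducedBySemilinearPOmega q r (RingEquiv.refl F) γ ∧
    Cfsg.IsFieldAutPOmegaOf q σ φ ∧ α * β * α⁻¹ = γ * φ

theorem cls_coord (P : Split (qPlus F m) m) (σ : F ≃+* F) :
    P.cls (ofSemi (coordSemi σ (coord_plus σ))) = 1 := by
  rw [P.cls_eq_one _ (U := Orth.zeroRight F m) ⟨Orth.zeroRight_singular F, Orth.finrank_zeroRight F m⟩]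
  have : imageS (toSemi (ofSemi (coordSemi σ (coord_plus σ)))) (Orth.zeroRight F m) = Orth.zeroRight F m := by
    refine Submodule.eq_of_le_of_finrank_eq ?_ (finrank_imageS _ _)
    rintro _ ⟨z, hz, rfl⟩
    refine (Orth.mem_zeroRight F _).2 fun i => ?_
    show σ (z (Sum.inr i)) = 0
    rw [(Orth.mem_zeroRight F z).1 hz i, map_zero]
  rw [this]
  exact sameCl_self _ ⟨Orth.zeroRight_singular F, Orth.finrank_zeroRight F m⟩

/-- A field automorphism of prime order before fixing the field. -/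
theorem plus_field (hm : 5 ≤ m) {x : MulAut (Cfsg.POmega F ⇑(qPlus F m))} {r : ℕ} (hr : r.Prime)
    (hxr : orderOf x = r) (hx : Cfsg.IsFieldAutClassPOmega ⇑(qPlus F m) x) (P : Split (qPlus F m) m) :
    ∃ (σ : F ≃+* F) (g : ↥(GO ⇑(qPlus F m))), orderOf (σ : RingAut F) = r ∧
      x = rho ⇑(qPlus F m) g * autHom (qPlus F m) (ofSemi (coordSemi σ (coord_plus σ))) ∧
      P.cls (goHom _ g) = 1 := by
  have S := setup_plus (F := F) (show 3 ≤ m by omega)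
  obtain ⟨α, σ, he, hord⟩ := field_class S coord_plus hx hr hxr
  obtain ⟨g, hg, hχ⟩ := coset_of_conj S (noLag_plus hm) _ he
  exact ⟨σ, g, hord, hg, hχ P.cls⟩

/-- A graph-field automorphism of prime order: the prime is two. -/
theorem plus_graph (hm : 5 ≤ m) {x : MulAut (Cfsg.POmega F ⇑(qPlus F m))} {r : ℕ} (hr : r.Prime)
    (hxr : orderOf x = r) (hx : GraphFieldClass ⇑(qPlus F m) x) (P : Split (qPlus F m) m) :
    ∃ (σ : F ≃+* F) (g : ↥(GO ⇑(qPlus F m))), orderOf (σ : RingAut F) = r ∧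
      x = rho ⇑(qPlus F m) g * autHom (qPlus F m) (ofSemi (coordSemi σ (coord_plus σ))) ∧
      r = 2 ∧ P.cls (goHom _ g) = -1 := by
  have S := setup_plus (F := F) (show 3 ≤ m by omega)
  obtain ⟨α, γ, φ, σ, v, R, hσ, hv, -, hR, hγ, hφ, he⟩ := hx
  obtain rfl := fieldAut_eq (coord_plus σ) hφ
  obtain ⟨h, hh⟩ := Orth.exists_word_mat (Q := qPlus F m) rfl [v]
  have hRh : R = (incl ⇑(qPlus F m) h : GL (Fin m ⊕ Fin m) F) := Units.ext (Matrix.ext_of_mulVec_single fun i => by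
    show _ = h.1.1 *ᵥ _
    rw [hh, hR, ← toMat_refl, toMat_apply, Orth.prodRf_cons, Orth.prodRf_nil, mul_one]
    rfl)
  subst hRh
  obtain rfl := (Orth.induced_iff (incl ⇑(qPlus F m) h) γ).1 hγ
  rw [← autHom_goHom, ← map_mul] at he
  obtain ⟨a, ha⟩ : ∃ a, a = goHom _ (incl ⇑(qPlus F m) h) * ofSemi (coordSemi σ (coord_plus σ)) := ⟨_, rfl⟩
  rw [← ha] at he
  have hsig : sigG (qPlus F m) a = σ := by rw [ha]; exact one_mul _
  have hax : orderOf (autHom (qPlus F m) a) = r := by rw [← he, orderOf_conj, hxr]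
  have hord := orderOf_sig S a hr (by rw [hsig]; exact hσ) hax
  rw [hsig] at hord
  obtain ⟨g, hg, hχ⟩ := coset_of_conj S (noLag_plus hm) a he
  have hcl : P.cls (goHom _ (incl ⇑(qPlus F m) h)) = -1 := (Int.units_eq_one_or _).resolve_left (by
    rw [P.cls_word h [v] (by simpa using hv) hh]; simp)
  refine ⟨σ, g * incl ⇑(qPlus F m) h, hord, ?_, ?_, by rw [map_mul, map_mul, hχ P.cls, one_mul, hcl]⟩
  · rw [hg, ha, map_mul, map_mul, autHom_goHom, mul_assoc]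
  rcases hr.eq_two_or_odd' with h2 | hodd
  · exact h2
  exfalso
  have hk : a ^ r ∈ (autHom (qPlus F m)).ker := by
    rw [MonoidHom.mem_ker, map_pow, ← hax]; exact pow_orderOf_eq_one _
  obtain ⟨hs, c, hc, hcx⟩ := (mem_ker_autHom S _).1 hk
  have hclr : P.cls (a ^ r) = 1 := by
    rw [show a ^ r = goHom _ (scalarG (qPlus F m) (Units.mk0 c hc)) from Subtype.ext (Prod.ext (Equiv.ext fun y => by
      rw [hcx]; exact (Orth.scalarG_mulVec (Units.mk0 c hc) y).symm) hs), P.cls_scalar]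
  rw [map_pow, ha, map_mul, hcl, cls_coord, mul_one, hodd.neg_one_pow] at hclr
  exact absurd hclr (by decide)

section PlusDesc

variable {F₀ : Type v} [Field F₀] [Fintype F₀] {σ : RingAut F} {j : F₀ →+* F}

theorem plus_fixes (j : F₀ →+* F) (y : Fin m ⊕ Fin m → F₀) :
    qPlus F m (j ∘ y) = j (qPlus F₀ m y) := by
  simp [coe_plus, Cfsg.quadFormPlus, map_sum, map_mul]

/-- An element of prime order in the coset, with the sign of its structure. -/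
theorem plus_desc (hm : 3 ≤ m) (P : Split (qPlus F m) m) (hfix : ∀ y, σ y = y ↔ y ∈ Set.range j)
    (g : ↥(GO ⇑(qPlus F m))) {x : MulAut (Cfsg.POmega F ⇑(qPlus F m))}
    (hx : x = rho ⇑(qPlus F m) g * autHom (qPlus F m) (ofSemi (coordSemi σ (coord_plus σ))))
    (hord : orderOf x = orderOf σ) :
    ∃ (Q₁ : QuadraticForm F₀ (Fin m ⊕ Fin m → F₀)) (D₁ : Desc (qPlus F m) Q₁ σ j),
      PND Q₁ ∧ x = D₁.x ∧ P.cls (ofSemi D₁.semi) = P.cls (goHom _ g) := by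
  obtain ⟨D, hD⟩ : ∃ D : Desc (qPlus F m) (qPlus F₀ m) σ j, D = stdDesc hfix (plus_fixes j) := ⟨_, rfl⟩
  have hDx : D.x = autHom (qPlus F m) (ofSemi (coordSemi σ (coord_plus σ))) := by
    rw [hD]; exact stdDesc_x hfix (plus_fixes j) (coord_plus σ)
  rw [← hDx] at hx
  obtain ⟨Q₁, D₁, hQ₁, hx₁, hc⟩ := D.step (setup_plus hm) g (by rw [← hx, ← hord]; exact pow_orderOf_eq_one _)
  refine ⟨Q₁, D₁, hQ₁, hx.trans hx₁, ?_⟩
  rw [hc P, cls_desc_plus P rfl D, mul_one]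

/-- The sign determines the class under the inner-diagonal group. -/
theorem plus_conj_of_cls (hm : 4 ≤ m) (P : Split (qPlus F m) m) (hr : (orderOf σ).Prime) {κ₁ κ₂ : Type}
    [Fintype κ₁] [DecidableEq κ₁] [Fintype κ₂] [DecidableEq κ₂] {Q₁ : QuadraticForm F₀ (κ₁ → F₀)}
    {Q₂ : QuadraticForm F₀ (κ₂ → F₀)} (D₁ : Desc (qPlus F m) Q₁ σ j) (hQ₁ : PND Q₁)
    (D₂ : Desc (qPlus F m) Q₂ σ j) (hQ₂ : PND Q₂)
    (h : P.cls (ofSemi D₁.semi) = P.cls (ofSemi D₂.semi)) :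
    ∃ h ∈ (evenK (qPlus F m) m).map (rho ⇑(qPlus F m)), D₂.x = h * D₁.x * h⁻¹ := by
  obtain ⟨k, rfl⟩ : ∃ k, m = k + 1 := ⟨m - 1, by omega⟩
  obtain ⟨a, b, hab⟩ := QuadModels.exists_aniso (F := F₀)
  have E := evenData_plus (F := F) (show 3 ≤ k + 1 by omega)
  rcases classify_plus P D₁ hQ₁ hr a b hab with ⟨h1, A, hA⟩ | ⟨h1, -, A, hA⟩ <;>
    rcases classify_plus P D₂ hQ₂ hr a b hab with ⟨h3, B, hB⟩ | ⟨h3, -, B, hB⟩
  · rw [show D₁.x = A.x from congrArg (autHom _) hA.symm, show D₂.x = B.x from congrArg (autHom _) hB.symm]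
    exact A.conj_adjust B E (evenData_plus (by omega))
  · exact absurd (h ▸ h1) h3
  · exact absurd (h.trans h3) h1
  · rw [show D₁.x = A.x from congrArg (autHom _) hA.symm, show D₂.x = B.x from congrArg (autHom _) hB.symm]
    exact A.conj_adjust B E (evenData_minus (by omega) hab)

end PlusDesc

/-- The coset statement. -/
theorem plus_coset (hm : 5 ≤ m) (x : MulAut (Cfsg.POmega F ⇑(qPlus F m)))
    (hx : Cfsg.IsFieldAutClassPOmega ⇑(qPlus F m) x ∨ GraphFieldClass ⇑(qPlus F m) x) {r : ℕ} (hr : r.Prime)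
    (hxr : orderOf x = r) {δ : MulAut (Cfsg.POmega F ⇑(qPlus F m))}
    (hδ : δ ∈ (evenK (qPlus F m) m).map (rho ⇑(qPlus F m))) :
    orderOf (δ * x) = r ↔ Cfsg.IsConjUnder ((evenK (qPlus F m) m).map (rho ⇑(qPlus F m))) x (δ * x) := by
  refine ⟨fun hord => ?_, fun ⟨h, _, he⟩ => by rw [he, orderOf_conj, hxr]⟩
  have P := split_plus (F := F) (show 3 ≤ m by omega)
  obtain ⟨σ, g, hσ, hg⟩ : ∃ (σ : F ≃+* F) (g : ↥(GO ⇑(qPlus F m))), orderOf (σ : RingAut F) = r ∧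
      x = rho ⇑(qPlus F m) g * autHom (qPlus F m) (ofSemi (coordSemi σ (coord_plus σ))) := by
    rcases hx with hx | hx
    · obtain ⟨σ, g, h1, h3, -⟩ := plus_field hm hr hxr hx P; exact ⟨σ, g, h1, h3⟩
    · obtain ⟨σ, g, h1, h3, -⟩ := plus_graph hm hr hxr hx P; exact ⟨σ, g, h1, h3⟩
  obtain ⟨F₀, _, _, j, hfix⟩ := exists_fixed_field (σ : RingAut F)
  obtain ⟨Q₁, D₁, hQ₁, hx₁, -⟩ := plus_desc (by omega) P hfix g hg (hxr.trans hσ.symm)
  obtain ⟨d, hd, rfl⟩ := hδ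
  rw [hx₁] at hord ⊢
  obtain ⟨Q₂, D₂, hQ₂, hx₂, hc⟩ := D₁.step (setup_plus (by omega)) d
    (by rw [hσ, ← hord]; exact pow_orderOf_eq_one _)
  obtain ⟨h, hh, he⟩ := plus_conj_of_cls (by omega) P (hσ.symm ▸ hr) D₁ hQ₁ D₂ hQ₂ (by
    rw [hc P, (cls_plus (show 3 ≤ m by omega) d).2 hd, one_mul])
  exact ⟨h, hh, hx₂.trans he⟩

/-- Field automorphisms: the standard form. -/
theorem plus_field_desc {p f : ℕ} [Fact p.Prime] (hF : Fintype.card F = p ^ f) (hm : 5 ≤ m)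
    {x : MulAut (Cfsg.POmega F ⇑(qPlus F m))} (hx : Cfsg.IsFieldAutClassPOmega ⇑(qPlus F m) x) {r : ℕ}
    (hr : r.Prime) (hxr : orderOf x = r) (F₀ : Type v) [Field F₀] [Fintype F₀]
    (hF₀ : Fintype.card F₀ = p ^ (f / r)) :
    r ∣ f ∧ ∃ (σ : RingAut F) (j : F₀ →+* F) (D : Desc (qPlus F m) (qPlus F₀ m) σ j), orderOf σ = r ∧ x = D.x := by
  have P := split_plus (F := F) (show 3 ≤ m by omega)
  obtain ⟨σ, g, hσ, hg, hcl⟩ := plus_field hm hr hxr hx P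
  refine ⟨hσ ▸ PSLn.orderOf_dvd_f hF σ, ?_⟩
  obtain ⟨j, hfix⟩ := PSLn.exists_fixed_embedding hF σ F₀ (by
    rw [hF₀, ← hσ])
  obtain ⟨Q₁, D₁, hQ₁, hx₁, hc⟩ := plus_desc (by omega) P hfix g hg (hxr.trans hσ.symm)
  obtain ⟨k, rfl⟩ : ∃ k, m = k + 1 := ⟨m - 1, by omega⟩
  obtain ⟨a, b, hab⟩ := QuadModels.exists_aniso (F := F₀)
  rcases classify_plus P D₁ hQ₁ (hσ.symm ▸ hr) a b hab with ⟨-, A, hA⟩ | ⟨h1, -⟩
  · exact ⟨σ, j, A, hσ, hx₁.trans (congrArg (autHom _) hA.symm)⟩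
  · exact absurd (hc.trans hcl) h1

/-- Graph-field involutions: the minus form. -/
theorem plus_graph_desc {p f : ℕ} [Fact p.Prime] (hF : Fintype.card F = p ^ f) {k : ℕ} (hk : 4 ≤ k)
    {x : MulAut (Cfsg.POmega F ⇑(qPlus F (k + 1)))} (hx : GraphFieldClass ⇑(qPlus F (k + 1)) x)
    (hxr : orderOf x = 2) (F₀ : Type v) [Field F₀] [Fintype F₀] (hF₀ : Fintype.card F₀ = p ^ (f / 2))
    {a b : F₀} (hab : ∀ z₁ z₂ : F₀, z₁ ^ 2 + a * z₁ * z₂ + b * z₂ ^ 2 = 0 → z₁ = 0 ∧ z₂ = 0) :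
    2 ∣ f ∧ ∃ (σ : RingAut F) (j : F₀ →+* F) (D : Desc (qPlus F (k + 1)) (qMinus k a b) σ j),
      orderOf σ = 2 ∧ x = D.x := by
  have P := split_plus (F := F) (show 3 ≤ k + 1 by omega)
  obtain ⟨σ, g, hσ, hg, -, hcl⟩ := plus_graph (by omega) Nat.prime_two hxr hx P
  refine ⟨hσ ▸ PSLn.orderOf_dvd_f hF σ, ?_⟩
  obtain ⟨j, hfix⟩ := PSLn.exists_fixed_embedding hF σ F₀ (by
    rw [hF₀, ← hσ])
  obtain ⟨Q₁, D₁, hQ₁, hx₁, hc⟩ := plus_desc (by omega) P hfix g hg (hxr.trans hσ.symm)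
  rcases classify_plus P D₁ hQ₁ (hσ.symm ▸ Nat.prime_two) a b hab with ⟨h1, -⟩ | ⟨-, -, A, hA⟩
  · rw [hc, hcl] at h1
    exact absurd h1 (by decide)
  · exact ⟨σ, j, A, hσ, hx₁.trans (congrArg (autHom _) hA.symm)⟩

/-- Graph-field involutions form one class. -/
theorem plus_graph_conj (hm : 5 ≤ m) (x y : MulAut (Cfsg.POmega F ⇑(qPlus F m)))
    (hx : GraphFieldClass ⇑(qPlus F m) x) (hxr : orderOf x = 2)
    (hy : GraphFieldClass ⇑(qPlus F m) y) (hyr : orderOf y = 2) :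
    Cfsg.IsConjUnder ((evenK (qPlus F m) m).map (rho ⇑(qPlus F m))) x y := by
  have P := split_plus (F := F) (show 3 ≤ m by omega)
  obtain ⟨σ, g, hσ, hg, -, hcl⟩ := plus_graph hm Nat.prime_two hxr hx P
  obtain ⟨τ, g', hτ, hg', -, hcl'⟩ := plus_graph hm Nat.prime_two hyr hy P
  obtain rfl : σ = τ := sigma_unique hσ hτ
  obtain ⟨F₀, _, _, j, hfix⟩ := exists_fixed_field (σ : RingAut F)
  obtain ⟨Q₁, D₁, hQ₁, hx₁, hc₁⟩ := plus_desc (by omega) P hfix g hg (hxr.trans hσ.symm)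
  obtain ⟨Q₂, D₂, hQ₂, hx₂, hc₂⟩ := plus_desc (by omega) P hfix g' hg' (hyr.trans hτ.symm)
  obtain ⟨h, hh, he⟩ := plus_conj_of_cls (by omega) P (hσ.symm ▸ Nat.prime_two) D₁ hQ₁ D₂ hQ₂
    (by rw [hc₁, hc₂, hcl, hcl'])
  exact ⟨h, hh, by rw [hx₁, hx₂, he]⟩

end Plus

section Odd

variable {F : Type u} [Field F] [Fintype F] {m : ℕ}

theorem coord_odd (σ : F ≃+* F) (x : Unit ⊕ (Fin m ⊕ Fin m) → F) :
    qOdd F m (fun i => σ (x i)) = σ (qOdd F m x) := by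
  simp [coe_odd, Cfsg.quadFormOdd, map_sum, map_mul, map_add, map_pow]

theorem two_ne_fixed {F₀ : Type v} [Field F₀] (j : F₀ →+* F) (h2 : (2 : F) ≠ 0) : (2 : F₀) ≠ 0 := fun e =>
  h2 (by rw [← map_ofNat j 2, e, map_zero])

theorem odd_class (h2 : (2 : F) ≠ 0) (hm : 3 ≤ m) {x : MulAut (Cfsg.POmega F ⇑(qOdd F m))}
    (hx : Cfsg.IsFieldAutClassPOmega ⇑(qOdd F m) x) {r : ℕ} (hr : r.Prime) (hxr : orderOf x = r) :
    ∃ (σ : F ≃+* F) (g : ↥(GO ⇑(qOdd F m))), orderOf (σ : RingAut F) = r ∧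
      x = rho ⇑(qOdd F m) g * autHom (qOdd F m) (ofSemi (coordSemi σ (coord_odd σ))) := by
  have S := setup_odd h2 hm
  obtain ⟨α, σ, he, hord⟩ := field_class S coord_odd hx hr hxr
  obtain ⟨g, hg, -⟩ := coset_of_conj S (noLag_qOdd h2 m) _ he
  exact ⟨σ, g, hord, hg⟩

variable {F₀ : Type v} [Field F₀] [Fintype F₀] {σ : RingAut F} {j : F₀ →+* F}

theorem odd_desc (h2 : (2 : F) ≠ 0) (hm : 3 ≤ m) (hfix : ∀ y, σ y = y ↔ y ∈ Set.range j)
    (g : ↥(GO ⇑(qOdd F m))) {x : MulAut (Cfsg.POmega F ⇑(qOdd F m))}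
    (hx : x = rho ⇑(qOdd F m) g * autHom (qOdd F m) (ofSemi (coordSemi σ (coord_odd σ))))
    (hord : orderOf x = orderOf σ) :
    ∃ D : Desc (qOdd F m) (qOdd F₀ m) σ j, x = D.x := by
  have hstd : ∀ y, qOdd F m (j ∘ y) = j (qOdd F₀ m y) := fun y => by
    simp [coe_odd, Cfsg.quadFormOdd, map_sum, map_mul, map_add, map_pow]
  obtain ⟨D, hD⟩ : ∃ D : Desc (qOdd F m) (qOdd F₀ m) σ j, D = stdDesc hfix hstd := ⟨_, rfl⟩
  have hDx : D.x = autHom (qOdd F m) (ofSemi (coordSemi σ (coord_odd σ))) := by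
    rw [hD]; exact stdDesc_x hfix hstd (coord_odd σ)
  rw [← hDx] at hx
  obtain ⟨Q₁, D₁, hQ₁, hx₁, -⟩ := D.step (setup_odd h2 hm) g (by rw [← hx, ← hord]; exact pow_orderOf_eq_one _)
  obtain ⟨A, hA⟩ := exists_desc_odd D₁ hQ₁
  exact ⟨A, hx.trans (hx₁.trans (congrArg (autHom _) hA.symm))⟩

theorem odd_coset (h2 : (2 : F) ≠ 0) (hm : 3 ≤ m) (x : MulAut (Cfsg.POmega F ⇑(qOdd F m)))
    (hx : Cfsg.IsFieldAutClassPOmega ⇑(qOdd F m) x) {r : ℕ} (hr : r.Prime) (hxr : orderOf x = r)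
    {δ : MulAut (Cfsg.POmega F ⇑(qOdd F m))}
    (hδ : δ ∈ (⊤ : Subgroup ↥(GO ⇑(qOdd F m))).map (rho ⇑(qOdd F m))) :
    orderOf (δ * x) = r ↔
      Cfsg.IsConjUnder ((⊤ : Subgroup ↥(GO ⇑(qOdd F m))).map (rho ⇑(qOdd F m))) x (δ * x) := by
  refine ⟨fun hord => ?_, fun ⟨h, _, he⟩ => by rw [he, orderOf_conj, hxr]⟩
  obtain ⟨σ, g, hσ, hg⟩ := odd_class h2 hm hx hr hxr
  obtain ⟨F₀, _, _, j, hfix⟩ := exists_fixed_field (σ : RingAut F)
  obtain ⟨D₁, hD₁⟩ := odd_desc h2 hm hfix g hg (hxr.trans hσ.symm)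
  obtain ⟨d, -, rfl⟩ := hδ
  obtain ⟨D₂, hD₂⟩ := odd_desc h2 hm hfix (d * g)
    (x := rho ⇑(qOdd F m) d * x) (by rw [hg, map_mul, mul_assoc]) (hord.trans hσ.symm)
  obtain ⟨h, hh, he⟩ := D₁.conj_odd_dim D₂
  exact ⟨h, hh, by rw [hD₂, hD₁, he]⟩

theorem odd_field_desc {p f : ℕ} [Fact p.Prime] (hF : Fintype.card F = p ^ f) (h2 : (2 : F) ≠ 0) (hm : 3 ≤ m)
    {x : MulAut (Cfsg.POmega F ⇑(qOdd F m))} (hx : Cfsg.IsFieldAutClassPOmega ⇑(qOdd F m) x) {r : ℕ}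
    (hr : r.Prime) (hxr : orderOf x = r) (F₀ : Type v) [Field F₀] [Fintype F₀]
    (hF₀ : Fintype.card F₀ = p ^ (f / r)) :
    r ∣ f ∧ ∃ (σ : RingAut F) (j : F₀ →+* F) (D : Desc (qOdd F m) (qOdd F₀ m) σ j), orderOf σ = r ∧ x = D.x := by
  obtain ⟨σ, g, hσ, hg⟩ := odd_class h2 hm hx hr hxr
  refine ⟨hσ ▸ PSLn.orderOf_dvd_f hF σ, ?_⟩
  obtain ⟨j, hfix⟩ := PSLn.exists_fixed_embedding hF σ F₀ (by
    rw [hF₀, ← hσ])
  obtain ⟨D, hD⟩ := odd_desc h2 hm hfix g hg (hxr.trans hσ.symm)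
  exact ⟨σ, j, D, hσ, hD⟩

end Odd

end Cfsg.Agent.Small.OrthAut
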