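import Cfsg.Agent.Lib.Small.OrthAut.FieldClass
import Cfsg.Agent.Lib.Small.Orth.SimPlus

/-!
The similitudes of the fixed field modulo the inner ones: how the class of a field or graph-field
automorphism splits in even dimension.
-/

set_option autoImplicit false
set_option linter.unusedSectionVars false
set_option linter.style.haveILetI false

namespace Cfsg.Agent.Small.OrthAut

open Module QuadraticMap Matrix
open Cfsg.Agent.Classical
open Cfsg.Agent.Classical.OCount Cfsg.Agent.Classical.ORefl Cfsg.Agent.Classical.OOmega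
open Cfsg.Agent.Small.Orth (GO incl scalarG rho mult SimSetup prodRf innSub omegaSub qPlus qMinus NegMem)

universe u v

/-- A surjection from the image in the automorphisms gives the quotient. -/
theorem quot_equiv {G A B : Type*} [Group G] [Group A] [Group B] (π : G →* A) (K : Subgroup G) (N : Subgroup G)
    [N.Normal] (I : Subgroup A) (hN : N = I.comap π) (φ : ↥(K.map π) →* B) (hφ : Function.Surjective φ)
    (hker : φ.ker = I.subgroupOf (K.map π)) : Nonempty (↥(K.map (QuotientGroup.mk' N)) ≃* B) := by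
  obtain ⟨ψ, hψ⟩ : ∃ ψ : ↥K →* B, ψ = φ.comp (π.subgroupMap K) := ⟨_, rfl⟩
  have hs : Function.Surjective ψ := by
    rw [hψ]; exact hφ.comp (MonoidHom.subgroupMap_surjective _ _)
  have hk : ((QuotientGroup.mk' N).subgroupMap K).ker = ψ.ker := by
    ext x
    rw [MonoidHom.mem_ker, MonoidHom.mem_ker, Subtype.ext_iff, hψ, MonoidHom.comp_apply, ← MonoidHom.mem_ker (f := φ),
      hker, Subgroup.mem_subgroupOf]
    show QuotientGroup.mk' N x.1 = 1 ↔ π x.1 ∈ I
    rw [QuotientGroup.mk'_apply, QuotientGroup.eq_one_iff, hN, Subgroup.mem_comap]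
  exact ⟨((QuotientGroup.quotientKerEquivOfSurjective _ (MonoidHom.subgroupMap_surjective _ K)).symm.trans
    (QuotientGroup.quotientMulEquivOfEq hk)).trans (QuotientGroup.quotientKerEquivOfSurjective ψ hs)⟩

section Quot

variable {F : Type u} [Field F] [Fintype F] {ι : Type} [Fintype ι] [DecidableEq ι] {Q : QuadraticForm F (ι → F)} {N : ℕ}

/-- The class-preserving similitudes modulo the inner ones. -/
noncomputable abbrev kq (Q : QuadraticForm F (ι → F)) (N : ℕ) : Subgroup (↥(GO ⇑Q) ⧸ innSub Q) :=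
  (evenK Q N).map (QuotientGroup.mk' (innSub Q))

/-- Their size. -/
theorem kq_odd (S : SimSetup Q N) :
    (∀ a ∈ kq Q N, ∀ b ∈ kq Q N, a * b = b * a) ∧
      (NegMem Q → Nat.card ↥(kq Q N) = 4) ∧ (¬ NegMem Q → Nat.card ↥(kq Q N) = 2) := by
  have key : ∀ {B : Type} [CommGroup B] (φ : ↥(S.delta.ker.map (rho ⇑Q)) →* B), Function.Surjective φ →
      φ.ker = (Cfsg.Inn (Cfsg.POmega F ⇑Q)).subgroupOf (S.delta.ker.map (rho ⇑Q)) →
      (∀ a ∈ kq Q N, ∀ b ∈ kq Q N, a * b = b * a) ∧ Nat.card ↥(kq Q N) = Nat.card B := by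
    intro B _ φ hφ hker
    rw [Orth.inn_eq] at hker
    obtain ⟨e⟩ := quot_equiv (rho ⇑Q) S.delta.ker (innSub Q) _ rfl φ hφ hker
    rw [kq, evenK_odd S]
    refine ⟨fun a ha b hb => ?_, Nat.card_congr e.toEquiv⟩
    exact congrArg Subtype.val (e.injective (show e (⟨a, ha⟩ * ⟨b, hb⟩) = e (⟨b, hb⟩ * ⟨a, ha⟩) by
      rw [map_mul, map_mul, mul_comm]))
  have h := S.delta_inn _ rfl
  by_cases hneg : NegMem Q
  · obtain ⟨D, hD, hDd⟩ := S.exists_D
    obtain ⟨k, hk, -⟩ := S.sq_decomp D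
    have h' := h.2 hneg D k _ hD hDd hk
    by_cases hkΩ : k ∈ Cfsg.Omega F ⇑Q
    · obtain ⟨φ, hφ, hker⟩ := h'.1 hkΩ
      obtain ⟨h1, h3⟩ := key φ hφ hker
      exact ⟨h1, fun _ => by simpa [Nat.card_congr Multiplicative.toAdd] using h3, fun hn => absurd hneg hn⟩
    · obtain ⟨φ, hφ, hker⟩ := h'.2 hkΩ
      obtain ⟨h1, h3⟩ := key φ hφ hker
      exact ⟨h1, fun _ => by simpa [Nat.card_congr Multiplicative.toAdd] using h3, fun hn => absurd hneg hn⟩
  · obtain ⟨φ, hφ, hker⟩ := h.1 hneg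
    obtain ⟨h1, h3⟩ := key φ hφ hker
    exact ⟨h1, fun hn => absurd hn hneg, fun _ => by simpa [Nat.card_congr Multiplicative.toAdd] using h3⟩

theorem EvenData.kq_comm (E : EvenData Q N) : ∀ a ∈ kq Q N, ∀ b ∈ kq Q N, a * b = b * a := by
  by_cases h2 : (2 : F) = 0
  · rintro _ ⟨g, hg, rfl⟩ b -
    rw [evenK_two h2] at hg
    rw [show QuotientGroup.mk' (innSub Q) g = 1 from (QuotientGroup.eq_one_iff g).2 hg, one_mul, mul_one]
  · exact (kq_odd (E.sim h2)).1

end Quot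

section Word

variable {F : Type u} [Field F] [Fintype F] {ι : Type} [Fintype ι] [DecidableEq ι] {Q : QuadraticForm F (ι → F)}
  {κ : Type} [Fintype κ] [DecidableEq κ] {QF : QuadraticForm F (κ → F)}

theorem prodRf_sim (T : (κ → F) ≃ₗ[F] (ι → F)) {c : F} (hc : c ≠ 0) (hT : ∀ z, Q (T z) = c * QF z)
    (vs : List (κ → F)) (hvs : ∀ v ∈ vs, QF v ≠ 0) (z : κ → F) :
    (prodRf Q (vs.map T)).1 (T z) = T ((prodRf QF vs).1 z) := by
  induction vs with
  | nil => rw [List.map_nil, Orth.prodRf_nil, Orth.prodRf_nil]; rfl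
  | cons v vs ih =>
    rw [List.map_cons, Orth.prodRf_cons, Orth.prodRf_cons]
    show ORefl.refl Q (T v) ((prodRf Q (vs.map T)).1 (T z)) = T (ORefl.refl QF v ((prodRf QF vs).1 z))
    rw [ih fun w hw => hvs w (List.mem_cons_of_mem _ hw), refl_apply, refl_apply, map_sub, map_smul]
    congr 2
    have h0 : QF v ≠ 0 := hvs v List.mem_cons_self
    simp only [polar, ← map_add, hT]
    field_simp

theorem prod_scale {α : Type*} (c : F) (g : α → F) (l : List α) :
    (l.map fun x => c * g x).prod = c ^ l.length * (l.map g).prod := by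
  induction l with
  | nil => simp
  | cons x l ih => simp [ih, pow_succ]; ring

/-- A scalar times a transported even word. -/
theorem mem_innSub_transfer {N : ℕ} (S : SimSetup Q N) (hneg : NegMem Q) (T : (κ → F) ≃ₗ[F] (ι → F)) {c : F}
    (hc : c ≠ 0) (hT : ∀ z, Q (T z) = c * QF z) (vs : List (κ → F)) (hvs : ∀ v ∈ vs, QF v ≠ 0)
    (he : Even vs.length) (s : Fˣ) (g : ↥(GO ⇑Q))
    (hg : ∀ z, g.1.1 *ᵥ T z = (s : F) • T ((prodRf QF vs).1 z)) :
    g ∈ innSub Q ↔ IsSquare (vs.map fun v => QF v).prod := by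
  obtain ⟨h, hh⟩ := Orth.exists_word_mat (Q := Q) rfl (vs.map T)
  have hne : ∀ v ∈ vs.map T, Q v ≠ 0 := fun v hv => by
    obtain ⟨w, hw, rfl⟩ := List.mem_map.1 hv
    rw [hT]
    exact mul_ne_zero hc (hvs w hw)
  have hgh : g = scalarG Q s * incl ⇑Q h := Subtype.ext (Units.ext (Matrix.ext_of_mulVec_single fun i => by
    obtain ⟨z, hz⟩ := T.surjective (Pi.single i 1)
    rw [← hz, hg, Subgroup.coe_mul, Units.val_mul, ← Matrix.mulVec_mulVec, Orth.scalarG_mulVec,
      ← prodRf_sim T hc hT vs hvs, ← hh]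
    rfl))
  rw [hgh, scalar_mul_mem_innSub, Subgroup.mem_comap, Orth.rho_incl_mem_of_neg S hneg,
    Orth.mem_omega rfl S.pnd h _ hne hh, List.length_map, and_iff_right he, List.map_map,
    show ((fun v => Q v) ∘ T) = fun v => c * QF v from funext hT, prod_scale, mul_comm]
  exact Orth.isSquare_mul_iff (he.isSquare_pow c) (pow_ne_zero _ hc)

end Word

section Count

variable {F : Type u} [Field F] [Fintype F] {F₀ : Type v} [Field F₀] [Fintype F₀]
  {ι : Type} [Fintype ι] [DecidableEq ι] {κ : Type} [Fintype κ] [DecidableEq κ]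
  {Q : QuadraticForm F (ι → F)} {Q₀ : QuadraticForm F₀ (κ → F₀)} {σ : RingAut F} {j : F₀ →+* F} {N : ℕ}

/-- The rational classes. -/
noncomputable abbrev Desc.iq (D : Desc Q Q₀ σ j) (N : ℕ) : Subgroup (↥(GO ⇑Q) ⧸ innSub Q) :=
  ((evenK Q₀ N).map D.emb).map (QuotientGroup.mk' (innSub Q))

theorem Desc.iq_le (D : Desc Q Q₀ σ j) (E : EvenData Q N) (E₀ : EvenData Q₀ N) : D.iq N ≤ kq Q N :=
  Subgroup.map_mono (Subgroup.map_le_iff_le_comap.2 fun h hh => (D.emb_mem_evenK E E₀ h).2 hh)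

/-- The number of classes in the class of the automorphism. -/
theorem Desc.count_even (D : Desc Q Q₀ σ j) (E : EvenData Q N) (E₀ : EvenData Q₀ N) :
    Cfsg.splitClassCount ((evenK Q N).map (rho ⇑Q)) (Cfsg.Inn (Cfsg.POmega F ⇑Q)) D.x =
      (D.iq N).relIndex (kq Q N) :=
  D.count E.setup
    (by obtain ⟨T⟩ := E₀.setup.frame; obtain ⟨v, hv⟩ := exists_value_of_pair T.hp 1; exact ⟨v, by simp [hv]⟩)
    _ _ E.innSub_le (D.emb_mem_evenK E E₀) E.kq_comm

theorem two_ne_of_desc (_D : Desc Q Q₀ σ j) (h2 : (2 : F) ≠ 0) : (2 : F₀) ≠ 0 := fun e => h2 (by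
  rw [← map_ofNat j 2, e, map_zero])

/-- Odd degree: one class. -/
theorem Desc.count_one (D : Desc Q Q₀ σ j) (E : EvenData Q N) (E₀ : EvenData Q₀ N) (hodd : Odd (orderOf σ)) :
    Cfsg.splitClassCount ((evenK Q N).map (rho ⇑Q)) (Cfsg.Inn (Cfsg.POmega F ⇑Q)) D.x = 1 := by
  rw [D.count_even E E₀, Subgroup.relIndex_eq_one]
  by_cases h2 : (2 : F) = 0
  · rintro _ ⟨g, hg, rfl⟩
    rw [evenK_two h2] at hg
    rw [show QuotientGroup.mk' (innSub Q) g = 1 from (QuotientGroup.eq_one_iff g).2 hg]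
    exact one_mem _
  have S := E.sim h2
  have S₀ := E₀.sim (two_ne_of_desc D h2)
  obtain ⟨D₀, hD₀, hD₀d⟩ := S₀.exists_D
  have hD₀K : D₀ ∈ evenK Q₀ N := by rw [evenK_odd S₀]; exact MonoidHom.mem_ker.2 hD₀d
  have hm : ¬ IsSquare (mult (D.emb D₀) : F) := by
    rw [D.mult_emb E.setup, isSquare_iff_of_odd D.fix hodd]; exact hD₀
  have hd : S.delta (D.emb D₀) = 1 := by
    have h := (D.emb_mem_evenK E E₀ D₀).2 hD₀K
    rwa [evenK_odd S, MonoidHom.mem_ker] at h
  have hD1 : QuotientGroup.mk' (innSub Q) (D.emb D₀) ∈ D.iq N := ⟨_, ⟨D₀, hD₀K, rfl⟩, rfl⟩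
  have hsq : ∀ g : ↥(GO ⇑Q), S.multSign g = 1 → S.delta g = 1 →
      QuotientGroup.mk' (innSub Q) g ∈ D.iq N := by
    intro g h1 h3
    by_cases hneg : NegMem Q
    · obtain ⟨a, b, fr⟩ := S.exists_frame hneg (D.emb D₀) hm
      rcases fr.even_class g h1 h3 with e | e
      · rw [QuotientGroup.mk'_apply, e]; exact one_mem _
      obtain ⟨ν, hν⟩ := S₀.exists_nonsquare
      obtain ⟨r, w, hw, hr⟩ := S₀.exists_refl (c := 1) one_ne_zero
      obtain ⟨r', w', hw', hr'⟩ := S₀.exists_refl (c := (ν : F₀)) ν.ne_zero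
      have hne : ∀ v ∈ [w, w'], Q₀ v ≠ 0 := by simp [hw, hw', ν.ne_zero]
      have hM : ∀ x, (r * r').1.1 *ᵥ x = (prodRf Q₀ [w, w']).1 x := fun x => by
        rw [Subgroup.coe_mul, Units.val_mul, ← Matrix.mulVec_mulVec, hr', hr, ← List.singleton_append,
          Orth.prodRf_append]
        rfl
      obtain ⟨z, hz, hzne, hzM⟩ := D.emb_word (r * r') [w, w'] hne hM
      have hzK : incl ⇑Q₀ (r * r') ∈ evenK Q₀ N := by
        rw [evenK_odd S₀]; exact MonoidHom.mem_ker.2 ((S₀.delta_incl _ _ hne hM).2 ⟨1, rfl⟩)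
      have hz1 : S.multSign (incl ⇑Q z) = 1 := (S.multSign_eq_one _).2 (by
        rw [S.mult_incl, Units.val_one]; exact IsSquare.one)
      have hz3 : S.delta (incl ⇑Q z) = 1 := (S.delta_incl z _ hzne hzM).2 ⟨1, rfl⟩
      rcases fr.even_class _ hz1 hz3 with f | f
      · exfalso
        rw [QuotientGroup.eq_one_iff, Subgroup.mem_comap, Orth.rho_incl_mem_of_neg S hneg,
          Orth.mem_omega rfl S.pnd z _ hzne hzM] at f
        have h := f.2
        simp only [List.map_cons, List.map_nil, List.prod_cons, List.prod_nil, mul_one, D.form, hw, hw', map_one] at h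
        rw [show D.c * (D.c * j ν) = D.c * D.c * j ν by ring] at h
        rw [mul_comm, Orth.isSquare_mul_iff (IsSquare.mul_self D.c) (mul_ne_zero D.hc D.hc),
          isSquare_iff_of_odd D.fix hodd] at h
        exact hν h
      · rw [QuotientGroup.mk'_apply, e, ← f, ← hz]
        exact ⟨_, ⟨_, hzK, rfl⟩, rfl⟩
    · rw [QuotientGroup.mk'_apply, mk_eq_of_signs S hneg (g' := 1) (by rw [h1, map_one]) (by rw [h3, map_one])]
      exact one_mem _
  rintro _ ⟨g, hg, rfl⟩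
  rw [evenK_odd S] at hg
  replace hg : S.delta g = 1 := hg
  by_cases h1 : S.multSign g = 1
  · exact hsq g h1 hg
  · rw [show g = g * (D.emb D₀)⁻¹ * D.emb D₀ by group, map_mul]
    refine mul_mem (hsq _ (S.sign_mul_inv h1 hm) ?_) hD1
    rw [map_mul, map_inv, hg, hd, inv_one, mul_one]

/-- Everything rational is a square in degree two. -/
theorem isSquare_of_two (hfix : ∀ y, σ y = y ↔ y ∈ Set.range j) (hr : orderOf σ = 2) (a : F₀) :
    IsSquare (j a) := by
  obtain ⟨r, h⟩ := exists_root_fixed hfix hr 0 (-a)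
  exact ⟨r, by rw [map_zero, map_neg] at h; linear_combination -h⟩

/-- Degree two: the image of one similitude decides. -/
theorem Desc.count_two (D : Desc Q Q₀ σ j) (E : EvenData Q N) (E₀ : EvenData Q₀ N) (h2 : (2 : F) ≠ 0)
    (hr : orderOf σ = 2) (hneg : NegMem Q) (D₀ : ↥(GO ⇑Q₀)) (hD₀ : ¬ IsSquare (mult D₀ : F₀))
    (hD₀K : D₀ ∈ evenK Q₀ N) :
    (D.emb D₀ ∈ innSub Q →
        Cfsg.splitClassCount ((evenK Q N).map (rho ⇑Q)) (Cfsg.Inn (Cfsg.POmega F ⇑Q)) D.x = 4) ∧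
      (D.emb D₀ ∉ innSub Q →
        Cfsg.splitClassCount ((evenK Q N).map (rho ⇑Q)) (Cfsg.Inn (Cfsg.POmega F ⇑Q)) D.x = 2) := by
  have S := E.sim h2
  have S₀ := E₀.sim (two_ne_of_desc D h2)
  have hker : ∀ h ∈ evenK Q₀ N, S₀.multSign h = 1 → D.emb h ∈ innSub Q := by
    intro h hK h1
    rw [evenK_odd S₀, MonoidHom.mem_ker] at hK
    obtain ⟨u, k, rfl⟩ := S₀.decomp h ((S₀.multSign_eq_one h).1 h1)
    rw [map_mul, (S₀.delta_scalar u).2, one_mul] at hK
    obtain ⟨vs, hvs, hM⟩ := Orth.exists_list_mat rfl S₀.pnd S₀.gen k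
    obtain ⟨k', hk', hne, hM'⟩ := D.emb_word k vs hvs hM
    rw [map_mul, D.emb_scalar, hk', scalar_mul_mem_innSub]
    refine ⟨_, ⟨k', (Orth.mem_omega rfl S.pnd k' _ hne hM').2 ⟨?_, ?_⟩, rfl⟩, rfl⟩
    · rw [List.length_map]; exact (S₀.delta_incl k vs hvs hM).1 hK
    · rw [List.map_map, show ((fun v => Q v) ∘ fun v => D.T (j ∘ v)) = fun v => D.c * j (Q₀ v) from
        funext fun v => D.form v, prod_scale]
      refine IsSquare.mul (((S₀.delta_incl k vs hvs hM).1 hK).isSquare_pow D.c) ?_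
      rw [show (vs.map fun v => j (Q₀ v)).prod = j (vs.map fun v => Q₀ v).prod by
        rw [map_list_prod, List.map_map]; rfl]
      exact isSquare_of_two D.fix hr _
  obtain ⟨d, hd⟩ : ∃ d, d = QuotientGroup.mk' (innSub Q) (D.emb D₀) := ⟨_, rfl⟩
  have hD₀sq : D.emb D₀ * D.emb D₀ ∈ innSub Q := by
    rw [← map_mul]
    refine hker _ (mul_mem hD₀K hD₀K) ?_
    rw [map_mul]; exact Int.units_mul_self _
  have hiq : D.iq N = Subgroup.zpowers d := by
    refine le_antisymm ?_ (Subgroup.zpowers_le.2 (hd ▸ ⟨_, ⟨D₀, hD₀K, rfl⟩, rfl⟩))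
    rintro _ ⟨_, ⟨h, hK, rfl⟩, rfl⟩
    by_cases h1 : S₀.multSign h = 1
    · rw [show QuotientGroup.mk' (innSub Q) (D.emb h) = 1 from (QuotientGroup.eq_one_iff _).2 (hker h hK h1)]
      exact one_mem _
    · have e : QuotientGroup.mk' (innSub Q) (D.emb (h * D₀⁻¹)) = 1 :=
        (QuotientGroup.eq_one_iff _).2 (hker _ (mul_mem hK (inv_mem hD₀K)) (S₀.sign_mul_inv h1 hD₀))
      rw [show h = h * D₀⁻¹ * D₀ by group, map_mul, map_mul, e, one_mul, ← hd]
      exact Subgroup.mem_zpowers d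
  have hcard : Nat.card ↥(kq Q N) = 4 := (kq_odd S).2.1 hneg
  have hmul : Nat.card ↥(D.iq N) * (D.iq N).relIndex (kq Q N) = 4 := by
    rw [← hcard, ← Subgroup.relIndex_bot_left (D.iq N), ← Subgroup.relIndex_bot_left (kq Q N),
      Subgroup.relIndex_mul_relIndex _ _ _ bot_le (D.iq_le E E₀)]
  rw [D.count_even E E₀]
  constructor
  · intro hin
    rw [hiq, Nat.card_zpowers, show d = 1 from hd.trans ((QuotientGroup.eq_one_iff _).2 hin), orderOf_one, one_mul] at hmul
    rw [hiq, show d = 1 from hd.trans ((QuotientGroup.eq_one_iff _).2 hin)]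
    exact hmul
  · intro hout
    have ho : orderOf d = 2 := by
      haveI : Fact (Nat.Prime 2) := ⟨Nat.prime_two⟩
      refine orderOf_eq_prime ?_ (fun e => hout ((QuotientGroup.eq_one_iff _).1 (hd.symm.trans e)))
      rw [pow_two, hd, ← map_mul]
      exact (QuotientGroup.eq_one_iff _).2 hD₀sq
    rw [hiq, Nat.card_zpowers, ho] at hmul
    rw [hiq]
    omega

end Count

section Roots

variable {F : Type u} [Field F] [Fintype F] {F₀ : Type v} [Field F₀] [Fintype F₀] {σ : RingAut F} {j : F₀ →+* F}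

/-- The root of a rational non-square. -/
theorem isSquare_root (hfix : ∀ y, σ y = y ↔ y ∈ Set.range j) (hr : orderOf σ = 2) (h2 : (2 : F₀) ≠ 0) {ν : F₀}
    (hν : ¬ IsSquare ν) {s : F} (hs : s * s = j ν) : IsSquare s ↔ Fintype.card F₀ % 4 = 3 := by
  have hν0 : ν ≠ 0 := fun e => hν (e ▸ IsSquare.zero)
  have hs0 : s ≠ 0 := fun e => hν0 (j.injective (by rw [← hs, e, mul_zero, map_zero]))
  have hchar : ringChar F₀ ≠ 2 := fun e => h2 (by haveI := ringChar.of_eq e; exact CharTwo.two_eq_zero)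
  have h2' : (2 : F) ≠ 0 := fun e => h2 (j.injective (by rw [map_ofNat, e, map_zero]))
  have hchar' : ringChar F ≠ 2 := fun e => h2' (by haveI := ringChar.of_eq e; exact CharTwo.two_eq_zero)
  have hneg : ν ^ (Fintype.card F₀ / 2) = -1 := (FiniteField.pow_dichotomy hchar hν0).resolve_left fun e =>
    hν ((FiniteField.isSquare_iff hchar hν0).2 e)
  obtain ⟨t, ht⟩ := odd_card_of_two_ne h2
  have hcard := card_fixed hfix
  rw [hr, ht] at hcard
  have hexp : Fintype.card F / 2 = 2 * ((Fintype.card F₀ / 2) * (t + 1)) := by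
    rw [hcard, ht, show (2 * t + 1) / 2 = t by omega, show (2 * t + 1) ^ 2 = 2 * (2 * (t * (t + 1))) + 1 by ring]
    omega
  have h1 : (-1 : F) ≠ 1 := fun e => h2' (by linear_combination -e)
  rw [FiniteField.isSquare_iff hchar' hs0, hexp, pow_mul, pow_two, hs, pow_mul, ← map_pow, hneg, map_neg, map_one,
    ht]
  rcases Nat.even_or_odd (t + 1) with he | ho
  · rw [he.neg_one_pow]
    obtain ⟨k, hk⟩ := he
    exact iff_of_true rfl (by omega)
  · rw [ho.neg_one_pow]
    obtain ⟨k, hk⟩ := ho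
    exact iff_of_false h1 (by omega)

/-- A rational translate of twice the root is no square when the plane is anisotropic. -/
theorem not_isSquare_shift (hfix : ∀ y, σ y = y ↔ y ∈ Set.range j) (hr : orderOf σ = 2) (h2 : (2 : F₀) ≠ 0)
    {a b : F₀} (hab : ∀ z₁ z₂ : F₀, z₁ ^ 2 + a * z₁ * z₂ + b * z₂ ^ 2 = 0 → z₁ = 0 ∧ z₂ = 0) {ν u v : F₀}
    (hν : ¬ IsSquare ν) (huv : u ^ 2 + a * u * v + b * v ^ 2 = ν) {s : F} (hs : s * s = j ν) :
    ¬ IsSquare (2 * s + j (2 * u + a * v)) := by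
  rintro ⟨w, hw⟩
  have hσs : σ s = -s := by
    have h : σ s * σ s = s * s := by rw [← map_mul, hs]; exact (hfix _).2 ⟨ν, rfl⟩
    refine (mul_self_eq_mul_self_iff.1 h).resolve_left fun e => ?_
    obtain ⟨y, rfl⟩ := (hfix s).1 e
    exact hν ⟨y, j.injective (by rw [← hs, map_mul])⟩
  have hσw : σ w * σ w = -(2 * s) + j (2 * u + a * v) := by
    rw [← map_mul, ← hw, map_add, map_mul, map_ofNat, hσs, (hfix _).2 ⟨_, rfl⟩]
    ring
  have hσσ : σ (σ w) = w := by
    have h : (σ ^ 2 : RingAut F) w = w := by rw [← hr, pow_orderOf_eq_one]; rfl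
    rwa [pow_two] at h
  obtain ⟨e, he⟩ := (hfix (w * σ w)).1 (by rw [map_mul, hσσ, mul_comm])
  have hsq : e * e = (a * a - 4 * b) * v ^ 2 := j.injective (by
    rw [map_mul, he, show w * σ w * (w * σ w) = (w * w) * (σ w * σ w) by ring, ← hw, hσw]
    simp only [map_add, map_sub, map_mul, map_pow, map_ofNat]
    have huv' := congrArg j huv
    simp only [map_add, map_mul, map_pow] at huv'
    linear_combination -4 * hs + 4 * huv')
  by_cases hv : v = 0
  · subst hv
    exact hν ⟨u, by linear_combination -huv⟩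
  refine one_ne_zero (hab ((-a + e / v) / 2) 1 ?_).2
  field_simp
  linear_combination hsq

end Roots

section Plus

variable {F : Type u} [Field F] [Fintype F] {F₀ : Type v} [Field F₀] [Fintype F₀] {σ : RingAut F} {j : F₀ →+* F}

theorem negMem_of_two (hfix : ∀ y, σ y = y ↔ y ∈ Set.range j) (hr : orderOf σ = 2) (h2 : (2 : F₀) ≠ 0) {m : ℕ}
    (hm : 1 ≤ m) : NegMem (qPlus F m) := by
  obtain ⟨t, ht⟩ := odd_card_of_two_ne h2
  have hcard := card_fixed hfix
  rw [hr, ht, show (2 * t + 1) ^ 2 = 4 * (t * (t + 1)) + 1 by ring] at hcard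
  rw [Orth.negMem_plus ⟨2 * (t * (t + 1)), by omega⟩ hm]
  rintro ⟨-, h⟩
  omega

/-- The split of a field automorphism of degree two. -/
theorem count_two_plus {m : ℕ} (hm : 3 ≤ m) (D : Desc (qPlus F m) (qPlus F₀ m) σ j) (hr : orderOf σ = 2)
    (h2 : (2 : F₀) ≠ 0) :
    ((Odd m ∧ Fintype.card F₀ % 4 = 1) →
        Cfsg.splitClassCount ((evenK (qPlus F m) m).map (rho ⇑(qPlus F m)))
          (Cfsg.Inn (Cfsg.POmega F ⇑(qPlus F m))) D.x = 2) ∧
      (¬ (Odd m ∧ Fintype.card F₀ % 4 = 1) →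
        Cfsg.splitClassCount ((evenK (qPlus F m) m).map (rho ⇑(qPlus F m)))
          (Cfsg.Inn (Cfsg.POmega F ⇑(qPlus F m))) D.x = 4) := by
  have h2' : (2 : F) ≠ 0 := fun e => h2 (j.injective (by rw [map_ofNat, e, map_zero]))
  have E := evenData_plus (F := F) hm
  have E₀ := evenData_plus (F := F₀) hm
  have S := E.sim h2'
  have S₀ := E₀.sim h2
  have hneg := negMem_of_two D.fix hr h2 (m := m) (by omega)
  obtain ⟨ν, hν⟩ := S₀.exists_nonsquare
  obtain ⟨s, hs⟩ := isSquare_of_two D.fix hr (ν : F₀)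
  have hs0 : s ≠ 0 := fun e => (map_ne_zero j).2 ν.ne_zero (by rw [hs, e, mul_zero])
  obtain ⟨D₀, hD₀⟩ := Orth.exists_GO (Q := qPlus F₀ m) (Orth.dPlus m (ν : F₀))
    (by rw [Orth.det_dPlus]; exact pow_ne_zero _ ν.ne_zero) ν (Orth.dPlus_sim m (ν : F₀))
  have hm0 : mult D₀ = ν := Units.ext (S₀.mult_eq D₀ fun x => by rw [hD₀]; exact Orth.dPlus_sim m (ν : F₀) x)
  have hK : D₀ ∈ evenK (qPlus F₀ m) m := by
    rw [evenK_odd S₀, MonoidHom.mem_ker, S₀.delta_eq_one, hD₀, Orth.det_dPlus, hm0]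
  obtain ⟨vs, w1, w2, w3, w4⟩ := Orth.hasWord_of_det S.pnd (Or.inl (card_field_ne_two h2'))
    (Orth.hfam_formOf ((Equiv.sumEmpty (Fin m ⊕ Fin m) Empty).symm) (0 : QuadraticForm F (Empty → F)))
    (Matrix.diagonal fun _ : Fin m => s) (by rw [Matrix.det_diagonal, Finset.prod_const]; exact pow_ne_zero _ hs0)
  have hL : ∀ z, (prodRf (qPlus F m) vs).1 z =
      Matrix.diagonal (Sum.elim (fun _ : Fin m => s) fun _ : Fin m => s⁻¹) *ᵥ z :=
    w4.unique (Orth.hfam_formOf ((Equiv.sumEmpty (Fin m ⊕ Fin m) Empty).symm) (0 : QuadraticForm F (Empty → F)))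
      (Orth.acts_diagonal _ _ _ _ (fun _ => hs0) (fun i => rfl) (fun i => rfl) fun r => r.elim)
  have hform := D.form_ext (QF := qPlus F m) (fun y => by simp [coe_plus, Cfsg.quadFormPlus, map_sum, map_mul])
  have hiff : D.emb D₀ ∈ innSub (qPlus F m) ↔ ¬ (Odd m ∧ Fintype.card F₀ % 4 = 1) := by
    rw [mem_innSub_transfer S hneg D.T D.hc hform vs w1 w2 (Units.mk0 s hs0) _ fun z => by
      rw [D.emb_T, hD₀, hL, ← map_smul]
      congr 1
      funext l
      rw [show (Orth.dPlus m (ν : F₀)).map j = Matrix.diagonal (Sum.elim (fun _ => j ν) fun _ => 1) by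
        rw [Matrix.diagonal_map (map_zero j)]
        congr 1
        funext l; rcases l with l | l <;> simp]
      rcases l with l | l <;> simp [Matrix.mulVec_diagonal, hs, hs0, mul_assoc]]
    rw [Matrix.det_diagonal, Finset.prod_const, Finset.card_univ, Fintype.card_fin,
      isSquare_iff_mul h2' (pow_ne_zero _ hs0) (Orth.values_ne w1)] at w3
    rw [← w3, not_and]
    obtain ⟨t, ht⟩ := odd_card_of_two_ne h2
    have hsq := isSquare_root D.fix hr h2 hν hs.symm
    constructor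
    · intro h hm' hq
      obtain ⟨k, rfl⟩ := hm'
      rw [pow_succ', Orth.isSquare_mul_iff ((even_two_mul k).isSquare_pow s) (pow_ne_zero _ hs0), hsq] at h
      omega
    · intro h
      rcases Nat.even_or_odd m with hm' | hm'
      · exact hm'.isSquare_pow s
      · exact (hsq.2 (by have := h hm'; omega)).pow m
  have hc := D.count_two E E₀ h2' hr hneg D₀ (hm0 ▸ hν) hK
  exact ⟨fun h => hc.2 fun hin => hiff.1 hin h, fun h => hc.1 (hiff.2 h)⟩

/-- The split of a graph-field involution. -/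
theorem count_two_graph {k : ℕ} (hk : 3 ≤ k) {a b : F₀}
    (hab : ∀ z₁ z₂ : F₀, z₁ ^ 2 + a * z₁ * z₂ + b * z₂ ^ 2 = 0 → z₁ = 0 ∧ z₂ = 0)
    (D : Desc (qPlus F (k + 1)) (qMinus k a b) σ j) (hr : orderOf σ = 2) (h2 : (2 : F₀) ≠ 0) :
    ((Odd (k + 1) ∧ Fintype.card F₀ % 4 = 1) →
        Cfsg.splitClassCount ((evenK (qPlus F (k + 1)) (k + 1)).map (rho ⇑(qPlus F (k + 1))))
          (Cfsg.Inn (Cfsg.POmega F ⇑(qPlus F (k + 1)))) D.x = 4) ∧
      (¬ (Odd (k + 1) ∧ Fintype.card F₀ % 4 = 1) →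
        Cfsg.splitClassCount ((evenK (qPlus F (k + 1)) (k + 1)).map (rho ⇑(qPlus F (k + 1))))
          (Cfsg.Inn (Cfsg.POmega F ⇑(qPlus F (k + 1)))) D.x = 2) := by
  have h2' : (2 : F) ≠ 0 := fun e => h2 (j.injective (by rw [map_ofNat, e, map_zero]))
  have E := evenData_plus (F := F) (show 3 ≤ k + 1 by omega)
  have E₀ := evenData_minus hk hab
  have S := E.sim h2'
  have S₀ := E₀.sim h2
  have hneg := negMem_of_two D.fix hr h2 (m := k + 1) (by omega)
  obtain ⟨ν, hν⟩ := S₀.exists_nonsquare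
  obtain ⟨s, hs⟩ := isSquare_of_two D.fix hr (ν : F₀)
  have hs0 : s ≠ 0 := fun e => (map_ne_zero j).2 ν.ne_zero (by rw [hs, e, mul_zero])
  obtain ⟨u, v, huv⟩ := Orth.exists_uv h2 hab (ν : F₀)
  have hdet : (Orth.dMinus k a b (ν : F₀) u v).det = (ν : F₀) ^ (k + 1) := by
    rw [Orth.det_dMinus, huv, pow_succ]
  obtain ⟨D₀, hD₀⟩ := Orth.exists_GO (Q := qMinus k a b) _ (by rw [hdet]; exact pow_ne_zero _ ν.ne_zero) ν
    (Orth.dMinus_sim k a b (ν : F₀) u v huv)
  have hm0 : mult D₀ = ν := Units.ext (S₀.mult_eq D₀ fun x => by rw [hD₀]; exact Orth.dMinus_sim k a b (ν : F₀) u v huv x)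
  have hK : D₀ ∈ evenK (qMinus k a b) (k + 1) := by
    rw [evenK_odd S₀, MonoidHom.mem_ker, S₀.delta_eq_one, hD₀, hdet, hm0]
  have hmap : (Orth.dMinus k a b (ν : F₀) u v).map j = Orth.dMinus k (j a) (j b) (j ν) (j u) (j v) := by
    rw [Matrix.fromBlocks_map, Matrix.map_zero _ (map_zero j), Matrix.map_zero _ (map_zero j),
      Matrix.diagonal_map (map_zero j)]
    congr 1
    · congr 1; funext l; rcases l with l | l <;> simp
    · ext p q; fin_cases p <;> fin_cases q <;> simp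
  obtain ⟨t, ht⟩ : ∃ t, t = 2 * s + j (2 * u + a * v) := ⟨_, rfl⟩
  have htn : ¬ IsSquare t := ht ▸ not_isSquare_shift D.fix hr h2 hab hν huv hs.symm
  have ht0 : t ≠ 0 := fun e => htn (e ▸ IsSquare.zero)
  have huv' : j u ^ 2 + j a * j u * j v + j b * j v ^ 2 = s * s := by
    rw [← hs]; simpa [map_add, map_mul, map_pow] using congrArg j huv
  obtain ⟨P, hP⟩ : ∃ P, P = qMinus k (j a) (j b) := ⟨_, rfl⟩
  obtain ⟨z₀, hz₀⟩ : ∃ z : (Fin k ⊕ Fin k) ⊕ Fin 2 → F,
      z = Sum.elim (fun _ : Fin k ⊕ Fin k => (0 : F)) ![s + j u, j v] := ⟨_, rfl⟩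
  obtain ⟨e₀, he₀⟩ : ∃ e : (Fin k ⊕ Fin k) ⊕ Fin 2 → F,
      e = Sum.elim (fun _ : Fin k ⊕ Fin k => (0 : F)) ![1, 0] := ⟨_, rfl⟩
  have hQz : P z₀ = s * t := by
    rw [hP, Orth.qMinus_apply, hz₀, ht]
    simp [map_add, map_mul, map_ofNat]
    linear_combination huv'
  have hQe : P e₀ = 1 := by rw [hP, Orth.qMinus_apply, he₀]; simp
  have hpol : ∀ (w : Fin 2 → F) (x : (Fin k ⊕ Fin k) ⊕ Fin 2 → F),
      polar P (Sum.elim (fun _ : Fin k ⊕ Fin k => (0 : F)) w) x =
        2 * w 0 * x (.inr 0) + j a * (w 0 * x (.inr 1) + w 1 * x (.inr 0)) + 2 * j b * w 1 * x (.inr 1) := fun w x => by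
    simp [hP, polar, Orth.qMinus_apply]
    ring
  have hpndP : PND P := fun x hx => by
    refine D.T.map_eq_zero_iff.1 (S.pnd _ fun y => ?_)
    obtain ⟨z, rfl⟩ := D.T.surjective y
    have hf := D.form_ext (QF := P) (fun y => hP ▸ Orth.qMinus_map (σ := j) y)
    simp only [polar, ← map_add, hf, ← mul_sub]
    rw [show P (x + z) - P x - P z = 0 from hx z, mul_zero]
  obtain ⟨vs, w1, w2, w3, w4⟩ := Orth.hasWord_of_det hpndP (Or.inl (card_field_ne_two h2'))
    (by rw [hP]; exact Orth.hfam_formOf (Equiv.refl ((Fin k ⊕ Fin k) ⊕ Fin 2)) (planeForm (j a) (j b))) (Matrix.diagonal fun _ : Fin k => s)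
    (by rw [Matrix.det_diagonal, Finset.prod_const]; exact pow_ne_zero _ hs0)
  have hL : ∀ x, (prodRf P vs).1 x =
      Matrix.diagonal (Sum.elim (Sum.elim (fun _ : Fin k => s) fun _ => s⁻¹) fun _ : Fin 2 => (1 : F)) *ᵥ x := by
    subst hP
    exact w4.unique (Orth.hfam_formOf (Equiv.refl ((Fin k ⊕ Fin k) ⊕ Fin 2)) (planeForm (j a) (j b)))
      (Orth.acts_diagonal _ _ _ _ (fun _ => hs0) (fun i => rfl) (fun i => rfl) fun r => rfl)
  have hne : ∀ w ∈ vs ++ [z₀, e₀], P w ≠ 0 := fun w hw =>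
    (List.mem_append.1 hw).elim (w1 w)
      (by simp only [List.mem_cons, List.not_mem_nil, or_false]; rintro (rfl | rfl) <;> simp [hQz, hQe, hs0, ht0])
  have hg : ∀ x, (D.emb D₀).1.1 *ᵥ D.T x = s • D.T ((prodRf P (vs ++ [z₀, e₀])).1 x) := fun x => by
    rw [D.emb_T, hD₀, hmap, Orth.prodRf_append, ← map_smul]
    congr 1
    show _ = s • (prodRf P vs).1 (refl P z₀ (refl P e₀ x))
    obtain ⟨p1, p2, p3, p4⟩ := Orth.dMinus_mulVec k (j a) (j b) (j (ν : F₀)) (j u) (j v) x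
    rw [hL, refl_apply, refl_apply, hQe, hQz, he₀, hz₀, hpol, hpol]
    funext l
    rcases l with (l | l) | l
    · rw [p1, hs]; simp [Matrix.mulVec_diagonal, mul_assoc]
    · rw [p2]; simp [Matrix.mulVec_diagonal, hs0]
    · revert l
      refine Fin.forall_fin_two.2 ⟨?_, ?_⟩
      · rw [p3]; simp [Matrix.mulVec_diagonal]
        field_simp
        rw [ht, map_add, map_mul, map_mul, map_ofNat]
        linear_combination (-(j a * x (.inr 1))) * huv'
      · rw [p4]; simp [Matrix.mulVec_diagonal]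
        field_simp
        rw [ht, map_add, map_mul, map_mul, map_ofNat]
        linear_combination (2 * x (.inr 1)) * huv'
  have hev : Even (vs ++ [z₀, e₀]).length := by
    rw [List.length_append]; exact Even.add w2 ⟨1, rfl⟩
  have hiff : D.emb D₀ ∈ innSub (qPlus F (k + 1)) ↔ (Odd (k + 1) ∧ Fintype.card F₀ % 4 = 1) := by
    rw [mem_innSub_transfer S hneg D.T D.hc (D.form_ext (QF := P) fun y => hP ▸ Orth.qMinus_map (σ := j) y)
      _ hne hev (Units.mk0 s hs0) _ hg]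
    rw [Matrix.det_diagonal, Finset.prod_const, Finset.card_univ, Fintype.card_fin,
      isSquare_iff_mul h2' (pow_ne_zero _ hs0) (Orth.values_ne w1)] at w3
    simp only [List.map_append, List.prod_append, List.map_cons, List.map_nil, List.prod_cons, List.prod_nil, hQz, hQe,
      mul_one]
    rw [isSquare_iff_mul h2' (Orth.values_ne w1) (mul_ne_zero hs0 ht0), ← w3, isSquare_iff_mul h2' hs0 ht0,
      iff_false_intro htn, iff_false]
    obtain ⟨t', ht'⟩ := odd_card_of_two_ne h2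
    have hsq := isSquare_root D.fix hr h2 hν hs.symm
    rw [hsq]
    rcases Nat.even_or_odd k with hk' | hk'
    · rw [iff_true_intro (hk'.isSquare_pow s), iff_true_intro hk'.add_one]
      simp only [true_iff, true_and]
      omega
    · obtain ⟨i, rfl⟩ := hk'
      rw [pow_succ', Orth.isSquare_mul_iff ((even_two_mul i).isSquare_pow s) (pow_ne_zero _ hs0), hsq,
        iff_false_intro (show ¬ Odd (2 * i + 1 + 1) by rw [Nat.not_odd_iff_even]; exact ⟨i + 1, by ring⟩), false_and,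
        iff_false]
      omega
  have hc := D.count_two E E₀ h2' hr hneg D₀ (hm0 ▸ hν) hK
  exact ⟨fun h => hc.1 (hiff.2 h), fun h => hc.2 fun hin => h (hiff.1 hin)⟩

end Plus

end Cfsg.Agent.Small.OrthAut
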