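import Cfsg.Agent.Lib.Small.OrthAut.Out
import Cfsg.Agent.Lib.Small.OrthAut.SplitCount
import Cfsg.Agent.Lib.Small.OrthAut.FieldMain
import Cfsg.Agent.Lib.Small.ChevAut.OutD4

/-!
The automorphism group of the plus groups: its order, and the outer automorphism group as a direct
product.
-/

set_option autoImplicit false
set_option linter.unusedSectionVars false
set_option linter.style.haveILetI false

namespace Cfsg.Agent.Small.OrthAut

open Module QuadraticMap Matrix
open Cfsg.Agent.Classical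
open Cfsg.Agent.Classical.OCount Cfsg.Agent.Classical.ORefl Cfsg.Agent.Classical.OOmega
open Cfsg.Agent.Small.Orth (GO incl scalarG rho mult SimSetup prodRf innSub omegaSub qPlus NegMem)

universe u

variable {F : Type u} [Field F] [Fintype F]

/-- Isomorphic groups have isomorphic outer automorphism groups. -/
theorem out_congr {A B : Type*} [Group A] [Group B] (e : A ≃* B) : Nonempty (Cfsg.Out A ≃* Cfsg.Out B) := by
  refine ⟨QuotientGroup.congr _ _ (MulAut.congr e) ?_⟩
  refine Subgroup.ext fun β => ⟨?_, ?_⟩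
  · rintro ⟨_, ⟨g, rfl⟩, rfl⟩
    exact ⟨e g, MulEquiv.ext fun x => by simp [MulAut.congr]⟩
  · rintro ⟨g, rfl⟩
    exact ⟨_, ⟨e.symm g, rfl⟩, MulEquiv.ext fun x => by simp [MulAut.congr]⟩

theorem out_plus_four : Nonempty (Cfsg.Out (Cfsg.POmega F (Cfsg.quadFormPlus 4 F)) ≃*
    Cfsg.Out ↥(Cfsg.Lie.chevD4.group F)) := by
  obtain ⟨e⟩ := Cfsg.Agent.Lie.d4_iso_pOmega (F := F)
  exact out_congr e.symm

theorem simple_plus {m : ℕ} (hm : 3 ≤ m) : IsSimpleGroup (Cfsg.POmega F ⇑(qPlus F m)) :=
  simple_standard pnd_empty hm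

theorem gcd_plus (p f : ℕ) [Fact p.Prime] (hf : 1 ≤ f) (m : ℕ) (hm : 1 ≤ m) :
    2 * Nat.gcd 4 ((p ^ f) ^ m - 1) = if p = 2 then 2 else (if Even (m * (p ^ f - 1) / 2) then 8 else 4) := by
  rcases (Fact.out : p.Prime).eq_two_or_odd' with rfl | hp
  · rw [if_pos rfl]
    obtain ⟨k, hk⟩ : ∃ k, f * m = k + 1 := ⟨f * m - 1, by
      have : 0 < f * m := Nat.mul_pos hf hm
      omega⟩
    rw [← pow_mul, hk, pow_succ]
    have h1 : 1 ≤ 2 ^ k := Nat.two_pow_pos k
    rw [show (4 : ℕ) = 2 ^ 2 from rfl, Nat.Coprime.gcd_eq_one]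
    exact Nat.Coprime.pow_left 2 (Nat.coprime_two_left.2 (Nat.odd_iff.2 (by omega)))
  · rw [if_neg (fun h => by rw [h] at hp; exact absurd hp (by decide))]
    have hq : Odd (p ^ f) := hp.pow
    generalize p ^ f = q at hq ⊢
    obtain ⟨k, rfl⟩ := hq
    rw [Nat.add_sub_cancel, show m * (2 * k) / 2 = m * k by
      rw [show m * (2 * k) = 2 * (m * k) by ring, Nat.mul_div_cancel_left _ two_pos]]
    obtain ⟨h1, h3⟩ := Orth.pow_mod_four (q := 2 * k + 1) ⟨k, rfl⟩ m
    have hiff : Even (m * k) ↔ ¬ (Odd m ∧ (2 * k + 1) % 4 = 3) := by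
      rw [Nat.even_mul]
      constructor
      · rintro (h | h) ⟨h', h''⟩
        · exact Nat.not_even_iff_odd.2 h' h
        · obtain ⟨i, rfl⟩ := h; omega
      · intro h
        by_contra hc
        push Not at hc
        obtain ⟨hc1, hc2⟩ := hc
        obtain ⟨i, hi⟩ := Nat.not_even_iff_odd.1 hc2
        exact h ⟨Nat.not_even_iff_odd.1 hc1, by omega⟩
    by_cases hc : Odd m ∧ (2 * k + 1) % 4 = 3
    · rw [if_neg fun e => hiff.1 e hc]
      have := h3.2 hc
      obtain ⟨i, hi⟩ : ∃ i, (2 * k + 1) ^ m - 1 = 4 * i + 2 := ⟨((2 * k + 1) ^ m) / 4, by omega⟩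
      rw [hi, Nat.gcd_rec, show (4 * i + 2) % 4 = 2 by omega]
      rfl
    · rw [if_pos (hiff.2 hc)]
      have := h1.2 hc
      rw [Nat.gcd_eq_left (Nat.dvd_of_mod_eq_zero (by omega))]

/-- The order of the automorphism group. -/
theorem card_mulAut_plus {p f : ℕ} [Fact p.Prime] (hf : 1 ≤ f) (hF : Fintype.card F = p ^ f) {m : ℕ} (hm : 4 ≤ m) :
    Nat.card (MulAut (Cfsg.POmega F (Cfsg.quadFormPlus m F))) =
      (if m = 4 then 3 else 1) * (if p = 2 then 2 else (if Even (m * (p ^ f - 1) / 2) then 8 else 4)) * f *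
        Nat.card (Cfsg.POmega F (Cfsg.quadFormPlus m F)) := by
  by_cases h4 : m = 4
  · subst h4
    obtain ⟨e⟩ := out_plus_four (F := F)
    have hO := (Nat.card_congr e.toEquiv).trans (ChevAut.OutD4.card_out hF hf)
    have key : Nat.card (Cfsg.Out (Cfsg.POmega F ⇑(qPlus F 4))) * Nat.card (Cfsg.POmega F ⇑(qPlus F 4)) =
        Nat.card (MulAut (Cfsg.POmega F ⇑(qPlus F 4))) := by
      haveI := simple_plus (F := F) (m := 4) (by norm_num)
      exact card_out (setup_plus (by norm_num))
    rw [coe_plus] at key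
    rw [← key, hO, if_pos rfl]
    split_ifs with h1 h3
    · ring
    · ring
    · exact absurd ⟨p ^ f - 1, by omega⟩ h3
  · rw [if_neg h4, one_mul]
    obtain ⟨j, rfl⟩ : ∃ j, m = j + 1 := ⟨m - 1, by omega⟩
    have h := card_mulAut_even (setup_plus (F := F) (show 3 ≤ j + 1 by omega)) (noLag_plus (by omega)) (sigma_plus _)
      (mult_plus _)
    have hc := OCount.card_GO_plus j (F := F)
    have hp := card_POmega_plus (F := F) (show 3 ≤ j + 1 by omega)
    rw [Nat.add_sub_cancel] at hp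
    rw [coe_plus] at h
    rw [hc, card_fieldAut hF, mul_assoc 2 (Fintype.card F ^ ((j + 1) * j)), mul_assoc 2, ← hp, hF] at h
    rw [h, ← gcd_plus p f hf (j + 1) (by omega)]
    ring

/-- Adjust a lift of the field generator to a central one. -/
theorem exists_central_lift {G : Type*} [Group G] {a b d τ : G} {f : ℕ} (haa : a * a = 1) (hne : a * b ≠ 1)
    (hab : a * b = b * a) (hbb : b * b = 1) (hda : d * a = b * d) (ha : Commute τ a) (hb : Commute τ b)
    (hd : τ * d * τ⁻¹ = d ∨ τ * d * τ⁻¹ = a * b * d) (hτ : τ ^ f = 1) :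
    ∃ c ∈ ({1, a} : Set G), Commute (c * τ) a ∧ Commute (c * τ) b ∧ Commute (c * τ) d ∧ (c * τ) ^ f = 1 := by
  rcases hd with hd | hd
  · exact ⟨1, Or.inl rfl, by rw [one_mul]; exact ha, by rw [one_mul]; exact hb,
      by rw [one_mul]; exact mul_inv_eq_iff_eq_mul.1 hd, by rw [one_mul]; exact hτ⟩
  refine ⟨a, Or.inr rfl, (Commute.refl a).mul_left ha, (show Commute a b from hab).mul_left hb, ?_, ?_⟩
  · show a * τ * d = d * (a * τ)
    rw [mul_assoc, mul_inv_eq_iff_eq_mul.1 hd, ← mul_assoc, ← mul_assoc, ← mul_assoc, haa, one_mul, ← hda, mul_assoc]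
  · have hpow : ∀ i : ℕ, τ ^ i * d * (τ ^ i)⁻¹ = (a * b) ^ i * d := fun i => by
      induction i with
      | zero => simp
      | succ i ih =>
        have hc : Commute τ ((a * b) ^ i) := (ha.mul_right hb).pow_right i
        rw [pow_succ', show τ * τ ^ i * d * (τ * τ ^ i)⁻¹ = τ * (τ ^ i * d * (τ ^ i)⁻¹) * τ⁻¹ by group, ih,
          ← mul_assoc, hc.eq, mul_assoc ((a * b) ^ i), mul_assoc, mul_inv_eq_iff_eq_mul.1 hd, mul_inv_cancel_right,
          ← mul_assoc, ← pow_succ]
    have h1 := hpow f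
    rw [hτ, inv_one, one_mul, mul_one, right_eq_mul] at h1
    rcases Nat.even_or_odd f with ⟨i, hi⟩ | ⟨i, hi⟩
    · rw [ha.symm.mul_pow, hτ, mul_one, hi, ← two_mul, pow_mul, pow_two, haa, one_pow]
    · rw [hi, pow_succ, pow_mul, pow_two, show a * b * (a * b) = 1 by
        rw [mul_assoc, ← mul_assoc b a b, ← hab, mul_assoc a b b, hbb, mul_one, haa], one_pow, one_mul] at h1
      exact absurd h1 hne

set_option maxHeartbeats 1600000 in
/-- The outer automorphism group of the plus groups in large rank. -/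
theorem out_plus {p f : ℕ} [Fact p.Prime] (hf : 1 ≤ f) (hF : Fintype.card F = p ^ f) {m : ℕ} (hm : 5 ≤ m) :
    Nonempty (Cfsg.Out (Cfsg.POmega F ⇑(qPlus F m)) ≃*
      (↥(GO ⇑(qPlus F m)) ⧸ innSub (qPlus F m)) × Multiplicative (ZMod f)) := by
  haveI : NeZero f := ⟨by omega⟩
  have hL := noLag_plus (F := F) hm
  have hm3 : 3 ≤ m := by omega
  have T := setup_plus (F := F) hm3
  obtain ⟨eσ⟩ := PSLn.fieldAut_equiv hF
  obtain ⟨t0, ht0⟩ : ∃ t0 : RingAut F →* Cfsg.Out (Cfsg.POmega F ⇑(qPlus F m)), ∀ σ,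
      t0 σ = outHom _ (ofSemi (coordSemi σ (coord_plus σ))) :=
    ⟨(outHom (qPlus F m)).comp (MonoidHom.mk' (fun σ => ofSemi (coordSemi σ (coord_plus σ)))
      fun σ τ => Subtype.ext (Prod.ext (Equiv.ext fun _ => rfl) rfl)), fun _ => rfl⟩
  obtain ⟨φ0, hφ0⟩ : ∃ φ0 : RingAut F, φ0 = eσ.symm (Multiplicative.ofAdd (1 : ZMod f)) := ⟨_, rfl⟩
  have hpow : φ0 ^ f = 1 := by
    rw [hφ0, ← map_pow, ← ofAdd_nsmul]
    simp
  have key : ∃ κ : ↥(GO ⇑(qPlus F m)) ⧸ innSub (qPlus F m), (∀ k, Commute (simOut _ k) (simOut _ κ * t0 φ0)) ∧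
      (simOut _ κ * t0 φ0) ^ f = 1 := by
    by_cases h2 : (2 : F) = 0
    · refine ⟨1, fun k => ?_, by rw [map_one, one_mul, ← map_pow, hpow, map_one]⟩
      rw [map_one, one_mul]
      refine commute_of_card_two (outSigma T hL).ker ?_ (range_simOut T hL ▸ ⟨k, rfl⟩) _
      rw [← range_simOut T hL, ← Nat.card_congr (MonoidHom.ofInjective (simOut_injective (Q := qPlus F m))).toEquiv]
      haveI := simple_plus (F := F) hm3
      have hp : p = 2 := by
        haveI : CharP F p := charP_of_card_eq_prime_pow hF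
        exact ((Nat.prime_dvd_prime_iff_eq (Fact.out : p.Prime) Nat.prime_two).1
          ((CharP.cast_eq_zero_iff F p 2).1 (by exact_mod_cast h2)))
      have hcard : Nat.card (Cfsg.Out (Cfsg.POmega F ⇑(qPlus F m))) = 2 * f := card_out_eq T (by
        have h := card_mulAut_plus hf hF (show 4 ≤ m by omega)
        rw [if_neg (show m ≠ 4 by omega), if_pos hp, one_mul] at h
        rwa [← coe_plus m] at h)
      rw [card_out_ext T hL (sigma_plus m), card_fieldAut hF] at hcard
      exact mul_right_cancel₀ (show f ≠ 0 by omega) hcard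
    · have S := (evenData_plus (F := F) hm3).sim h2
      have hodd := odd_card_of_two_ne h2
      by_cases hneg : NegMem (qPlus F m)
      swap
      · refine ⟨1, fun k => ?_, by rw [map_one, one_mul, ← map_pow, hpow, map_one]⟩
        rw [map_one, one_mul, ht0]
        exact commute_simOut S hneg _ k
      obtain ⟨D, hD, hDd⟩ := S.exists_D
      obtain ⟨a, b, fr⟩ := S.exists_frame hneg D hD
      obtain ⟨l, hl⟩ : ∃ l, l = coordSemi φ0 (coord_plus (F := F) (m := m) φ0) := ⟨_, rfl⟩
      -- the field automorphism acts on the classes of isometries trivially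
      have hiso : ∀ g : ↥(GO ⇑(qPlus F m)), S.multSign g = 1 →
          Commute (t0 φ0) (simOut _ (QuotientGroup.mk g)) := by
        intro g hg
        obtain ⟨c, h, rfl⟩ := S.decomp g ((S.multSign_eq_one g).1 hg)
        obtain ⟨vs, hvs, hM⟩ := Orth.exists_list_mat rfl S.pnd S.gen h
        obtain ⟨h', hh'⟩ := Orth.exists_word_mat (Q := qPlus F m) rfl (vs.map fun v i => φ0 (v i))
        have hne : ∀ v ∈ vs.map (fun v i => φ0 (v i)), qPlus F m v ≠ 0 := fun v hv => by
          obtain ⟨w, hw, rfl⟩ := List.mem_map.1 hv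
          rw [coord_plus]
          exact (map_ne_zero φ0).2 (hvs w hw)
        have hrefl : ∀ (us : List (Fin m ⊕ Fin m → F)), (∀ v ∈ us, qPlus F m v ≠ 0) → ∀ x,
            (prodRf (qPlus F m) (us.map fun v i => φ0 (v i))).1 (fun i => φ0 (x i)) =
              fun i => φ0 ((prodRf (qPlus F m) us).1 x i) := by
          intro us hus x
          induction us with
          | nil => rw [List.map_nil, Orth.prodRf_nil]; rfl
          | cons v us ih =>
            rw [List.map_cons, Orth.prodRf_cons, Orth.prodRf_cons]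
            show refl (qPlus F m) (fun i => φ0 (v i)) ((prodRf (qPlus F m) (us.map fun v i => φ0 (v i))).1
              (fun i => φ0 (x i))) = fun i => φ0 (refl (qPlus F m) v ((prodRf (qPlus F m) us).1 x) i)
            rw [ih fun w hw => hus w (List.mem_cons_of_mem _ hw), refl_apply, refl_apply, polar, polar,
              show ∀ y z : Fin m ⊕ Fin m → F, ((fun i => φ0 (y i)) + fun i => φ0 (z i)) = fun i => φ0 ((y + z) i) from
                fun y z => funext fun i => (map_add φ0 _ _).symm,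
              coord_plus, coord_plus, coord_plus]
            funext i
            simp
        have hconj : ofSemi l * goHom _ (incl ⇑(qPlus F m) h) * (ofSemi l)⁻¹ = goHom _ (incl ⇑(qPlus F m) h') := by
          refine mul_inv_eq_of_eq_mul (Subtype.ext (Prod.ext (Equiv.ext fun x => ?_) ?_))
          · show l.L ((h.1.1) *ᵥ x) = h'.1.1 *ᵥ l.L x
            rw [hl]
            show (fun i => φ0 ((h.1.1 *ᵥ x) i)) = h'.1.1 *ᵥ fun i => φ0 (x i)
            rw [hh', hM, hrefl vs hvs]
          · exact (mul_one _).trans (one_mul _).symm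
        have hsame : (QuotientGroup.mk (incl ⇑(qPlus F m) h') : ↥(GO ⇑(qPlus F m)) ⧸ innSub (qPlus F m)) =
            QuotientGroup.mk (incl ⇑(qPlus F m) h) := by
          refine S.coset_eq hneg h' h _ vs hne hvs hh' hM (by rw [List.length_map]; exact Even.add_self _) ?_
          rw [List.map_map, show ((fun v => qPlus F m v) ∘ fun v i => φ0 (v i)) = fun v => φ0 (qPlus F m v) from
            funext fun v => coord_plus φ0 v, show (vs.map fun v => φ0 (qPlus F m v)).prod =
              φ0 (vs.map fun v => qPlus F m v).prod by rw [map_list_prod, List.map_map]; rfl]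
          obtain ⟨P, hP⟩ : ∃ P, P = (vs.map fun v => qPlus F m v).prod := ⟨_, rfl⟩
          rw [← hP]
          have hP0 : P ≠ 0 := hP ▸ Orth.values_ne hvs
          rw [isSquare_iff_mul h2 ((map_ne_zero φ0).2 hP0) hP0]
          exact ⟨fun ⟨r, hr⟩ => ⟨φ0.symm r, by rw [← map_mul, ← hr, RingEquiv.symm_apply_apply]⟩, fun hs => hs.map φ0⟩
        have he : (QuotientGroup.mk (scalarG (qPlus F m) c * incl ⇑(qPlus F m) h) :
            ↥(GO ⇑(qPlus F m)) ⧸ innSub (qPlus F m)) = QuotientGroup.mk (incl ⇑(qPlus F m) h) := by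
          rw [QuotientGroup.mk_mul, (QuotientGroup.eq_one_iff _).2 (scalar_mem_innSub c), one_mul]
        rw [he, ht0, simOut_mk, ← hl]
        show _ * _ = _ * _
        rw [← mul_inv_eq_iff_eq_mul, ← map_inv, ← map_mul, ← map_mul, hconj, ← simOut_mk, hsame, simOut_mk]
      -- a frame whose first class is that of a reflection
      obtain ⟨r, u, hu, hr⟩ := S.exists_refl (c := 1) one_ne_zero
      have hR1 : S.multSign (incl ⇑(qPlus F m) r) = 1 := (S.multSign_eq_one _).2 (by
        rw [S.mult_incl, Units.val_one]; exact IsSquare.one)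
      have hR2 : S.delta (incl ⇑(qPlus F m) r) ≠ 1 := fun e => by
        have := (S.delta_incl r [u] (by simp [hu]) hr).1 e
        simp at this
      obtain ⟨a₁, b₁, fr₁, ha₁⟩ : ∃ a₁ b₁, Orth.Frame S D a₁ b₁ ∧
          (QuotientGroup.mk (incl ⇑(qPlus F m) r) : ↥(GO ⇑(qPlus F m)) ⧸ innSub (qPlus F m)) = a₁ := by
        rcases fr.odd_class _ hR1 hR2 with e | e
        · exact ⟨a, b, fr, e⟩
        · exact ⟨b, a, ⟨fr.bb, fr.aa, fr.comm.symm, fun e' => fr.ne (fr.comm.trans e'), fr.conjB, fr.conjA,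
            fun g h1 h3 => fr.comm ▸ fr.even_class g h1 h3, fun g h1 h3 => (fr.odd_class g h1 h3).symm⟩, e⟩
      have hb₁ : b₁ = QuotientGroup.mk (D * incl ⇑(qPlus F m) r * D⁻¹) := by
        rw [QuotientGroup.mk_mul, QuotientGroup.mk_mul, QuotientGroup.mk_inv, ha₁, fr₁.conjA, mul_inv_cancel_right]
      have hA : Commute (t0 φ0) (simOut _ a₁) := ha₁ ▸ hiso _ hR1
      have hB : Commute (t0 φ0) (simOut _ b₁) := by
        rw [hb₁]
        exact hiso _ (by rw [map_mul, map_mul, map_inv, mul_right_comm, mul_inv_cancel, one_mul, hR1])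
      obtain ⟨D', h1, h3, hD'⟩ := conj_simOut S l D
      have hdd : (QuotientGroup.mk D' : ↥(GO ⇑(qPlus F m)) ⧸ innSub (qPlus F m)) = QuotientGroup.mk D ∨
          QuotientGroup.mk D' = a₁ * b₁ * QuotientGroup.mk D := by
        rcases fr₁.even_class (D' * D⁻¹) (by rw [map_mul, map_inv, h1, mul_inv_cancel])
            (by rw [map_mul, map_inv, h3, mul_inv_cancel]) with e | e <;>
          rw [QuotientGroup.mk_mul, QuotientGroup.mk_inv, mul_inv_eq_iff_eq_mul] at e
        · exact Or.inl (by rwa [one_mul] at e)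
        · exact Or.inr e
      have hτd : t0 φ0 * simOut _ (QuotientGroup.mk D) * (t0 φ0)⁻¹ = simOut _ (QuotientGroup.mk D) ∨
          t0 φ0 * simOut _ (QuotientGroup.mk D) * (t0 φ0)⁻¹ =
            simOut _ a₁ * simOut _ b₁ * simOut _ (QuotientGroup.mk D) := by
        rw [mul_inv_eq_iff_eq_mul, mul_inv_eq_iff_eq_mul, ← map_mul, ← map_mul,
          show t0 φ0 = outHom _ (ofSemi l) by rw [ht0, hl], hD']
        rcases hdd with e | e <;> rw [e]
        · exact Or.inl rfl
        · exact Or.inr rfl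
      obtain ⟨c, hc, hca, hcb, hcd, hcf⟩ := exists_central_lift (a := simOut _ a₁) (b := simOut _ b₁)
        (d := simOut _ (QuotientGroup.mk D)) (τ := t0 φ0) (f := f)
        (by rw [← map_mul, fr₁.aa, map_one])
        (fun e => fr₁.ne (simOut_injective (by rw [map_mul, e, map_one])))
        (by rw [← map_mul, ← map_mul, fr₁.comm]) (by rw [← map_mul, fr₁.bb, map_one])
        (by rw [← map_mul, ← map_mul, fr₁.conjA]) hA hB hτd (by rw [← map_pow, hpow, map_one])
      obtain ⟨κ, rfl⟩ : ∃ κ, simOut _ κ = c := by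
        rcases hc with rfl | rfl
        · exact ⟨1, map_one _⟩
        · exact ⟨a₁, rfl⟩
      refine ⟨κ, fun k => ?_, hcf⟩
      have hgen₁ : ∀ g, S.multSign g = 1 → Commute (simOut _ κ * t0 φ0) (simOut _ (QuotientGroup.mk g)) := by
        intro g hg
        by_cases hdl : S.delta g = 1
        · rcases fr₁.even_class g hg hdl with h | h <;> rw [h]
          · rw [map_one]; exact Commute.one_right _
          · rw [map_mul]; exact hca.mul_right hcb
        · rcases fr₁.odd_class g hg hdl with h | h <;> rw [h]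
          exacts [hca, hcb]
      obtain ⟨g, rfl⟩ := QuotientGroup.mk_surjective k
      refine Commute.symm ?_
      by_cases hg : S.multSign g = 1
      · exact hgen₁ g hg
      · rw [show g = g * D⁻¹ * D by group, QuotientGroup.mk_mul, map_mul]
        exact (hgen₁ _ (S.sign_mul_inv hg hD)).mul_right hcd
  obtain ⟨κ, hκ, hκf⟩ := key
  refine split_central (eσ.toMonoidHom.comp (outSigma T hL)) (simOut (qPlus F m)) simOut_injective ?_
    (cycHom _ hκf) (fun y => ?_) fun k y => ?_
  · rw [range_simOut T hL]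
    ext x
    simp
  · obtain ⟨i, hi⟩ := ZMod.intCast_surjective y.toAdd
    rw [show y = Multiplicative.ofAdd ((i : ℤ) : ZMod f) by rw [hi]; rfl, cycHom_apply, map_zpow]
    have h1 : outSigma T hL (simOut (qPlus F m) κ * t0 φ0) = φ0 := by
      rw [map_mul, MonoidHom.mem_ker.1 (range_simOut T hL ▸ ⟨κ, rfl⟩ : simOut (qPlus F m) κ ∈ _), one_mul, ht0,
        outSigma_apply]
      rfl
    show eσ (outSigma T hL (simOut (qPlus F m) κ * t0 φ0)) ^ i = _
    rw [h1, hφ0, MulEquiv.apply_symm_apply, ← ofAdd_zsmul, zsmul_one]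
  · obtain ⟨i, hi⟩ := cycHom_mem _ hκf y
    rw [hi]
    exact (hκ k).zpow_right i

end Cfsg.Agent.Small.OrthAut
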