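import Cfsg.Agent.Lib.Small.OrthAut.Out

/-!
How semisimilitudes act on the similitudes modulo the inner automorphisms: the two signs are
preserved.  Even dimension, odd characteristic.
-/

set_option autoImplicit false
set_option linter.unusedSectionVars false
set_option linter.style.haveILetI false

namespace Cfsg.Agent.Small.OrthAut

open Module QuadraticMap Matrix
open Cfsg.Agent.Classical
open Cfsg.Agent.Classical.OCount Cfsg.Agent.Classical.ORefl Cfsg.Agent.Classical.OOmega
open Cfsg.Agent.Small.Orth (GO incl innSub omegaSub rho SimSetup NegMem mult)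

variable {F : Type*} [Field F] [Finite F] {ι : Type} [Fintype ι] [DecidableEq ι] {Q : QuadraticForm F (ι → F)}
  {N : ℕ}

/-- Conjugation by a semisimilitude preserves the signs. -/
theorem sign_conj (S : SimSetup Q N) (l : Semi Q) (g g' : ↥(GO ⇑Q))
    (h : ∀ x, g'.1.1 *ᵥ l.L x = l.L (g.1.1 *ᵥ x)) :
    S.multSign g' = S.multSign g ∧ S.delta g' = S.delta g := by
  have hm : (mult g' : F) = l.σ (mult g : F) := S.mult_eq g' fun v => by
    obtain ⟨x, rfl⟩ := l.L.surjective v
    rw [h, l.map_q, l.map_q, Orth.mult_spec, map_mul, mul_left_comm]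
  have hsingle : ∀ i : ι, (fun j => l.σ ((Pi.single i (1 : F) : ι → F) j)) = Pi.single i 1 := fun i => funext fun j => by
    by_cases hj : j = i
    · subst hj; simp
    · simp [hj]
  have hM : g'.1.1 * l.matrix = l.matrix * (g.1.1.map l.σ) := Matrix.ext_of_mulVec_single fun i => by
    rw [← Matrix.mulVec_mulVec, ← Matrix.mulVec_mulVec, ← hsingle i, l.matrix_map, h, ← l.matrix_map]
    congr 1
    funext j
    rw [hsingle i]
    simp [Matrix.mulVec, dotProduct, Pi.single_apply]
  have hdet : g'.1.1.det = l.σ g.1.1.det := by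
    have h1 := congrArg Matrix.det hM
    rw [Matrix.det_mul, Matrix.det_mul, mul_comm] at h1
    have h2 : l.matrix.det ≠ 0 := by
      rw [← l.coe_gl]
      exact ((Matrix.isUnit_iff_isUnit_det _).1 (Units.isUnit l.gl)).ne_zero
    rw [mul_left_cancel₀ h2 h1, RingEquiv.map_det]
    rfl
  refine ⟨?_, ?_⟩
  · by_cases hs : IsSquare (mult g : F)
    · rw [(S.multSign_eq_one g).2 hs, (S.multSign_eq_one g').2 (hm ▸ hs.map l.σ)]
    · have hs' : ¬ IsSquare (mult g' : F) := fun k => hs (by
        rw [hm] at k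
        have k' := k.map l.σ.symm
        rwa [RingEquiv.symm_apply_apply] at k')
      exact ((Int.units_eq_one_or _).resolve_left fun e => hs' ((S.multSign_eq_one g').1 e)).trans
        ((Int.units_eq_one_or _).resolve_left fun e => hs ((S.multSign_eq_one g).1 e)).symm
  · have key : S.delta g' = 1 ↔ S.delta g = 1 := by
      rw [S.delta_eq_one, S.delta_eq_one, hdet, hm, ← map_pow]
      exact l.σ.injective.eq_iff
    rcases Int.units_eq_one_or (S.delta g) with e | e
    · rw [e, key.2 e]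
    · refine ((Int.units_eq_one_or (S.delta g')).resolve_left fun e' => ?_).trans e.symm
      rw [key.1 e'] at e
      exact absurd e (by decide)

/-- The conjugate of a similitude class by a semisimilitude. -/
theorem conj_simOut (S : SimSetup Q N) (l : Semi Q) (g : ↥(GO ⇑Q)) :
    ∃ g' : ↥(GO ⇑Q), S.multSign g' = S.multSign g ∧ S.delta g' = S.delta g ∧
      outHom Q (ofSemi l) * simOut Q (QuotientGroup.mk g) = simOut Q (QuotientGroup.mk g') * outHom Q (ofSemi l) := by
  obtain ⟨g', hg'⟩ : ofSemi l * goHom Q g * (ofSemi l)⁻¹ ∈ (goHom Q).range := by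
    rw [range_goHom, MonoidHom.mem_ker, map_mul, map_mul, map_inv,
      MonoidHom.mem_ker.1 (show goHom Q g ∈ (sigG Q).ker from range_goHom (Q := Q) ▸ ⟨g, rfl⟩), mul_one, mul_inv_cancel]
  have h : goHom Q g' * ofSemi l = ofSemi l * goHom Q g := by rw [hg', inv_mul_cancel_right]
  obtain ⟨h1, h2⟩ := sign_conj S l g g' fun x => congrArg (fun a : ↥(Gam Q) => a.1.1 x) h
  exact ⟨g', h1, h2, by rw [simOut_mk, simOut_mk, ← map_mul, ← map_mul, h]⟩

/-- Without `-1` in `Ω` the classes are given by the signs. -/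
theorem mk_eq_of_signs (S : SimSetup Q N) (hneg : ¬ NegMem Q) {g g' : ↥(GO ⇑Q)}
    (h1 : S.multSign g = S.multSign g') (h2 : S.delta g = S.delta g') :
    (QuotientGroup.mk g : ↥(GO ⇑Q) ⧸ innSub Q) = QuotientGroup.mk g' := by
  rw [QuotientGroup.eq, Subgroup.mem_comap, ← S.special_eq_inn hneg, S.rho_mem_special]
  exact ⟨by rw [map_mul, map_inv, h1, inv_mul_cancel], by rw [map_mul, map_inv, h2, inv_mul_cancel]⟩

/-- Without `-1` in `Ω` the semisimilitudes centralise the similitude classes. -/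
theorem commute_simOut (S : SimSetup Q N) (hneg : ¬ NegMem Q) (l : Semi Q) (k : ↥(GO ⇑Q) ⧸ innSub Q) :
    Commute (simOut Q k) (outHom Q (ofSemi l)) := by
  obtain ⟨g, rfl⟩ := QuotientGroup.mk_surjective k
  obtain ⟨g', h1, h2, h⟩ := conj_simOut S l g
  rw [mk_eq_of_signs S hneg h1 h2] at h
  exact h.symm

/-- The squares of semisimilitudes centralise the similitude classes. -/
theorem commute_sq_simOut (S : SimSetup Q N) (l : Semi Q) (k : ↥(GO ⇑Q) ⧸ innSub Q) :
    Commute (simOut Q k) (outHom Q (ofSemi l) ^ 2) := by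
  obtain ⟨t, ht⟩ : ∃ t, t = outHom Q (ofSemi l) := ⟨_, rfl⟩
  by_cases hneg : NegMem Q
  swap
  · exact (commute_simOut S hneg l k).pow_right 2
  obtain ⟨D, hD, -⟩ := S.exists_D
  obtain ⟨a, b, fr⟩ := S.exists_frame hneg D hD
  have hz : ∀ g g' : ↥(GO ⇑Q), S.multSign g' = S.multSign g → S.delta g' = S.delta g →
      (QuotientGroup.mk g' : ↥(GO ⇑Q) ⧸ innSub Q) = QuotientGroup.mk g ∨
        (QuotientGroup.mk g' : ↥(GO ⇑Q) ⧸ innSub Q) = QuotientGroup.mk g * (a * b) := by
    intro g g' h1 h2
    rcases fr.even_class (g⁻¹ * g') (by rw [map_mul, map_inv, h1, inv_mul_cancel])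
      (by rw [map_mul, map_inv, h2, inv_mul_cancel]) with h | h <;>
      rw [QuotientGroup.mk_mul, QuotientGroup.mk_inv, inv_mul_eq_iff_eq_mul] at h
    · exact Or.inl (h.trans (mul_one _))
    · exact Or.inr h
  have habab : a * b * (a * b) = 1 := by
    rw [show a * b * (a * b) = a * b * (b * a) by rw [← fr.comm], show a * b * (b * a) = a * (b * b) * a by group,
      fr.bb, mul_one, fr.aa]
  have hcl : ∀ k : ↥(GO ⇑Q) ⧸ innSub Q,
      t * simOut Q k * t⁻¹ = simOut Q k ∨ t * simOut Q k * t⁻¹ = simOut Q (k * (a * b)) := by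
    intro k
    obtain ⟨g, rfl⟩ := QuotientGroup.mk_surjective k
    obtain ⟨g', h1, h2, h⟩ := conj_simOut S l g
    rw [ht, h, mul_inv_cancel_right]
    rcases hz g g' h1 h2 with e | e <;> rw [e]
    exacts [Or.inl rfl, Or.inr rfl]
  have hfix : t * simOut Q (a * b) * t⁻¹ = simOut Q (a * b) := by
    refine (hcl _).resolve_right fun h => ?_
    rw [habab, map_one, conj_eq_one_iff] at h
    exact fr.ne (simOut_injective (h.trans (map_one _).symm))
  have key : t ^ 2 * simOut Q k * (t ^ 2)⁻¹ = simOut Q k := by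
    rw [show t ^ 2 * simOut Q k * (t ^ 2)⁻¹ = t * (t * simOut Q k * t⁻¹) * t⁻¹ by rw [pow_two]; group]
    rcases hcl k with h | h <;> rw [h]
    · rw [h]
    · rw [map_mul, show ∀ x y : Cfsg.Out (Cfsg.POmega F ⇑Q), t * (x * y) * t⁻¹ = t * x * t⁻¹ * (t * y * t⁻¹) from
        fun x y => by group, h, hfix, ← map_mul, mul_assoc, habab, mul_one]
  rw [← ht]
  exact (mul_inv_eq_iff_eq_mul.1 key).symm

end Cfsg.Agent.Small.OrthAut
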