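import Cfsg.Agent.Lib.Small.OrthAut.FieldMain
import Cfsg.Agent.Lib.Small.LocalBalance

/-!
The centraliser of a field or graph-field automorphism contains the group over the fixed field, and
nothing but the powers of the automorphism centralises that group; the resulting local balance
criterion.
-/

set_option autoImplicit false
set_option linter.unusedSectionVars false
set_option linter.style.haveILetI false

namespace Cfsg.Agent.Small.OrthAut

open Module QuadraticMap Matrix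
open Cfsg.Agent.Classical
open Cfsg.Agent.Classical.OCount Cfsg.Agent.Classical.ORefl Cfsg.Agent.Classical.OOmega
open Cfsg.Agent.Small.Orth (GO incl scalarG rho innSub)
open scoped commutatorElement

universe u v

variable {F : Type u} [Field F] [Fintype F] {F₀ : Type v} [Field F₀] [Fintype F₀] {σ : RingAut F} {j : F₀ →+* F}
  {ι : Type} [Fintype ι] [DecidableEq ι] {κ : Type} [Fintype κ] [DecidableEq κ]
  {Q : QuadraticForm F (ι → F)}

/-- Matrices over the big field commuting with rational matrices that only scalars centralise are scalars. -/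
theorem scalar_of_rational (j : F₀ →+* F) (S : Set (Matrix κ κ F₀))
    (h : ∀ M : Matrix κ κ F₀, (∀ A ∈ S, M * A = A * M) → ∃ d : F₀, M = d • (1 : Matrix κ κ F₀))
    (M : Matrix κ κ F) (hM : ∀ A ∈ S, M * A.map j = A.map j * M) :
    ∃ d : F, M = d • (1 : Matrix κ κ F) := by
  letI : Algebra F₀ F := j.toAlgebra
  have hmul : ∀ (φ : Module.Dual F₀ F) (c : F₀) (x : F), φ (x * j c) = φ x * c := fun φ c x => by
    rw [show x * j c = c • x by rw [Algebra.smul_def, mul_comm]; rfl, map_smul, smul_eq_mul, mul_comm]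
  have hphi : ∀ φ : Module.Dual F₀ F, ∃ d : F₀, M.map φ = d • (1 : Matrix κ κ F₀) := fun φ => by
    refine h _ fun A hA => Matrix.ext fun a b => ?_
    have e := congrArg φ (congrFun (congrFun (hM A hA) a) b)
    simp only [Matrix.mul_apply, map_sum, Matrix.map_apply] at e
    simp only [Matrix.mul_apply, Matrix.map_apply]
    calc ∑ k, φ (M a k) * A k b = ∑ k, φ (M a k * j (A k b)) :=
          Finset.sum_congr rfl fun k _ => (hmul φ _ _).symm
      _ = ∑ k, φ (j (A a k) * M k b) := e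
      _ = ∑ k, A a k * φ (M k b) :=
          Finset.sum_congr rfl fun k _ => by rw [mul_comm, hmul, mul_comm]
  have hoff : ∀ a b, a ≠ b → M a b = 0 := fun a b hab =>
    (Module.forall_dual_apply_eq_zero_iff F₀ _).1 fun φ => by
      obtain ⟨d, hd⟩ := hphi φ
      simpa [Matrix.one_apply_ne hab] using congrFun (congrFun hd a) b
  rcases isEmpty_or_nonempty κ with he | ⟨⟨a₀⟩⟩
  · exact ⟨0, Matrix.ext fun a => he.elim a⟩
  refine ⟨M a₀ a₀, Matrix.ext fun a b => ?_⟩
  rw [Matrix.smul_apply, smul_eq_mul]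
  rcases eq_or_ne a b with rfl | hab
  · rw [Matrix.one_apply_eq, mul_one, ← sub_eq_zero]
    refine (Module.forall_dual_apply_eq_zero_iff F₀ _).1 fun φ => ?_
    obtain ⟨d, hd⟩ := hphi φ
    have h1 := congrFun (congrFun hd a) a
    have h2 := congrFun (congrFun hd a₀) a₀
    simp at h1 h2
    rw [map_sub, h1, h2, sub_self]
  · rw [Matrix.one_apply_ne hab, mul_zero, hoff a b hab]

/-- An isometry of the rational form has multiplier one. -/
theorem mult_incl_eq_one {Q₀ : QuadraticForm F₀ (κ → F₀)} (hne : ∃ y, Q₀ y ≠ 0)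
    (h : ↥(Cfsg.isometryGroup F₀ ⇑Q₀)) : Orth.mult (incl ⇑Q₀ h) = 1 := by
  obtain ⟨y, hy⟩ := hne
  refine Units.ext (mul_right_cancel₀ hy ?_)
  rw [← Orth.mult_spec, Units.val_one, one_mul]
  exact h.2 y y

section Std

variable {R : Type} [Fintype R] [DecidableEq R] {m : ℕ} {ε : κ ≃ (Fin m ⊕ Fin m) ⊕ R}
  {P : QuadraticForm F₀ (R → F₀)}

theorem omega_std_perfect (hP : PND P) (hm : 3 ≤ m) : commutator ↥(Cfsg.Omega F₀ ⇑(formOf m ε P)) = ⊤ := by
  apply Subgroup.map_injective (Cfsg.Omega F₀ ⇑(formOf m ε P)).subtype_injective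
  rw [commutator_def, Subgroup.map_commutator, ← MonoidHom.range_eq_map, Subgroup.range_subtype,
    omega_eq_map, ← Subgroup.map_commutator, commutator_perfect (formOf_pnd hP) (stdPairs ε P hm)]

/-- The Siegel transformations as elements of `Ω`. -/
theorem exists_siegel_omega (hP : PND P) (hm : 3 ≤ m) {a v : κ → F₀} (ha : (formOf m ε P) a = 0)
    (hv : polar (formOf m ε P) a v = 0) :
    ∃ s : ↥(Cfsg.Omega F₀ ⇑(formOf m ε P)), ∀ x, ((s : ↥(Cfsg.isometryGroup F₀ ⇑(formOf m ε P))) : GL κ F₀).1 *ᵥ x = siegel ha hv x := by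
  refine ⟨⟨toMat (formOf m ε P) ⟨siegel ha hv, siegel_mem ha hv⟩, ?_⟩, fun x => toMat_apply _ x⟩
  rw [omega_eq_map]
  exact ⟨_, el_mem (formOf_pnd hP) (stdPairs ε P hm) ha hv, rfl⟩

theorem centralizer_omega_std (hP : PND P) (hm : 3 ≤ m) (M : Matrix κ κ F₀)
    (hM : ∀ s : ↥(Cfsg.Omega F₀ ⇑(formOf m ε P)), M * ((s : ↥(Cfsg.isometryGroup F₀ ⇑(formOf m ε P))) : GL κ F₀).1 =
      ((s : ↥(Cfsg.isometryGroup F₀ ⇑(formOf m ε P))) : GL κ F₀).1 * M) :
    ∃ d : F₀, M = d • (1 : Matrix κ κ F₀) := by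
  obtain ⟨d, hd⟩ := Orth.scalar_of_commute (Orth.hfam_formOf ε P) hm (Matrix.mulVecLin M) fun a v ha hv x => by
    obtain ⟨s, hs⟩ := exists_siegel_omega hP hm ha hv
    have h1 := congrArg (fun A : Matrix κ κ F₀ => A *ᵥ x) (hM s)
    simp only [← Matrix.mulVec_mulVec, hs] at h1
    exact h1
  refine ⟨d, Matrix.ext_of_mulVec_single fun i => ?_⟩
  rw [Matrix.smul_mulVec, Matrix.one_mulVec]
  exact hd _

/-- A one-parameter family of rational elements depending affinely on the parameter. -/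
theorem exists_linear_family (hP : PND P) (hm : 3 ≤ m) :
    ∃ N : Matrix κ κ F₀, N ≠ 0 ∧ ∀ c : F₀, ∃ s : ↥(Cfsg.Omega F₀ ⇑(formOf m ε P)),
      ((s : ↥(Cfsg.isometryGroup F₀ ⇑(formOf m ε P))) : GL κ F₀).1 = 1 + c • N := by
  obtain ⟨T, -⟩ : ∃ T : ThreePairs (formOf m ε P), T = stdPairs ε P hm := ⟨_, rfl⟩
  have hc : ∀ c : F₀, polar (formOf m ε P) T.e (c • T.w) = 0 := fun c => by rw [polar_smul_right, T.ew, smul_zero]
  obtain ⟨s₁, hs₁⟩ := exists_siegel_omega hP hm T.hp.1 (hc 1)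
  refine ⟨((s₁ : ↥(Cfsg.isometryGroup F₀ ⇑(formOf m ε P))) : GL κ F₀).1 - 1, fun h0 => ?_, fun c => ?_⟩
  · have h1 := congrArg (fun A : Matrix κ κ F₀ => A *ᵥ T.f) h0
    simp only [Matrix.sub_mulVec, Matrix.one_mulVec, Matrix.zero_mulVec, hs₁, siegel_apply, one_smul] at h1
    rw [T.hp.2.2, polar_comm (formOf m ε P) T.w T.f, T.fw, T.hq.1, one_smul] at h1
    simp at h1
    exact (frame_ne T).2.2.1 h1
  · obtain ⟨s, hs⟩ := exists_siegel_omega hP hm T.hp.1 (hc c)
    refine ⟨s, Matrix.ext_of_mulVec_single fun i => ?_⟩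
    rw [Matrix.add_mulVec, Matrix.smul_mulVec, Matrix.sub_mulVec, Matrix.one_mulVec, hs, hs₁,
      siegel_apply, siegel_apply]
    simp only [one_smul, polar_smul_left, QuadraticMap.map_smul, T.hq.1, smul_eq_mul]
    module

variable (D : Desc Q (formOf m ε P) σ j) (hne : ∃ y, (formOf m ε P) y ≠ 0)

/-- The rational isometries. -/
noncomputable def Desc.embI : ↥(Cfsg.isometryGroup F₀ ⇑(formOf m ε P)) →* ↥(Cfsg.isometryGroup F ⇑Q) :=
  ((Units.map D.embMat).comp (Cfsg.isometryGroup F₀ ⇑(formOf m ε P)).subtype).codRestrict _ fun h v _ => by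
    have e := D.emb_sim (incl ⇑(formOf m ε P) h) v
    rw [mult_incl_eq_one hne, Units.val_one, map_one, one_mul] at e
    exact e

theorem Desc.incl_embI (h : ↥(Cfsg.isometryGroup F₀ ⇑(formOf m ε P))) : incl ⇑Q (D.embI hne h) = D.emb (incl ⇑(formOf m ε P) h) :=
  Subtype.ext rfl

/-- The rational part of `Ω`. -/
noncomputable def Desc.embO : ↥(Cfsg.Omega F₀ ⇑(formOf m ε P)) →* ↥(Cfsg.Omega F ⇑Q) :=
  ((D.embI hne).comp (Cfsg.Omega F₀ ⇑(formOf m ε P)).subtype).codRestrict _ fun s => by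
    have h : (Cfsg.Omega F₀ ⇑(formOf m ε P)).map (D.embI hne) ≤ Cfsg.Omega F ⇑Q := by
      unfold Cfsg.Omega
      rw [commutator_def, commutator_def, Subgroup.map_commutator]
      exact Subgroup.commutator_mono le_top le_top
    exact h ⟨s, s.2, rfl⟩

/-- The rational part of `PΩ`. -/
noncomputable def Desc.embP : ↥(Cfsg.Omega F₀ ⇑(formOf m ε P)) →* Cfsg.POmega F ⇑Q :=
  (QuotientGroup.mk' _).comp (D.embO hne)

theorem Desc.conj_embP (s : ↥(Cfsg.Omega F₀ ⇑(formOf m ε P))) :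
    MulAut.conj (D.embP hne s) = rho ⇑Q (D.emb (incl ⇑(formOf m ε P) s.1)) := by
  rw [← D.incl_embI hne]
  exact (Orth.rho_omega (D.embO hne s)).symm

variable (S : Setup Q) (S₀ : Setup (formOf m ε P)) [IsSimpleGroup (Cfsg.POmega F ⇑Q)]

include S in
theorem Desc.x_embP (s : ↥(Cfsg.Omega F₀ ⇑(formOf m ε P))) : D.x (D.embP hne s) = D.embP hne s := by
  apply conj_injective S
  have h := (D.commute_rho_emb (incl ⇑(formOf m ε P) s.1)).eq
  rw [← D.conj_embP hne] at h
  refine MulEquiv.ext fun z => ?_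
  have h1 := congrArg (fun β : MulAut (Cfsg.POmega F ⇑Q) => β (D.x⁻¹ z)) h
  simp only [MulAut.mul_apply, MulAut.conj_apply, MulAut.apply_inv_self, map_mul, map_inv] at h1 ⊢
  exact h1.symm

include S S₀ in
theorem Desc.embP_ne_one [IsSimpleGroup (Cfsg.POmega F₀ ⇑(formOf m ε P))] :
    ∃ s : ↥(Cfsg.Omega F₀ ⇑(formOf m ε P)), D.embP hne s ≠ 1 := by
  obtain ⟨x, hx⟩ := exists_ne (1 : Cfsg.POmega F₀ ⇑(formOf m ε P))
  obtain ⟨s, rfl⟩ := QuotientGroup.mk_surjective x
  refine ⟨s, fun h => hx (conj_injective S₀ ?_)⟩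
  rw [map_one]
  refine (Orth.rho_omega s).symm.trans ((D.rho_emb_eq_one S S₀ _).1 ?_)
  rw [← D.conj_embP hne, h, map_one]

include S S₀ in
theorem Desc.center_le_ker_embP {z : ↥(Cfsg.Omega F₀ ⇑(formOf m ε P))} (hz : z ∈ Subgroup.center ↥(Cfsg.Omega F₀ ⇑(formOf m ε P))) : D.embP hne z = 1 := by
  apply conj_injective S
  rw [map_one, D.conj_embP hne]
  refine (D.rho_emb_eq_one S S₀ _).2 ((Orth.rho_omega z).trans ?_)
  rw [(QuotientGroup.eq_one_iff z).2 hz, map_one]

include S in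
/-- The rational group is normalised by the fixed points. -/
theorem Desc.embP_norm {n : Cfsg.POmega F ⇑Q} (hn : D.x n = n) (s : ↥(Cfsg.Omega F₀ ⇑(formOf m ε P))) :
    n * D.embP hne s * n⁻¹ ∈ (D.embP hne).range := by
  obtain ⟨w, rfl⟩ := QuotientGroup.mk_surjective n
  have hc : Commute (rho ⇑Q (incl ⇑Q w.1)) D.x := by
    rw [Orth.rho_omega]
    refine MulEquiv.ext fun z => ?_
    simp only [MulAut.mul_apply, MulAut.conj_apply, map_mul, map_inv, hn]
  obtain ⟨u, h, hh⟩ := D.descend S hne _ hc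
  refine ⟨Orth.derivedAut _ (Orth.isoConj ⇑(formOf m ε P) h) s, ?_⟩
  have e : rho ⇑Q (incl ⇑Q w.1) = rho ⇑Q (D.emb h) := by rw [hh, map_mul, Desc.rho_scalarG, one_mul]
  rw [show (QuotientGroup.mk w : Cfsg.POmega F ⇑Q) * D.embP hne s * (QuotientGroup.mk w)⁻¹ =
    rho ⇑Q (incl ⇑Q w.1) (D.embP hne s) by rw [Orth.rho_omega, MulAut.conj_apply], e]
  refine (Orth.rho_mk (D.emb h) (D.embO hne s) (D.embO hne (Orth.derivedAut _ (Orth.isoConj ⇑(formOf m ε P) h) s)) ?_).symm
  show Units.map (D.embMat : _ →* _) (h.1 * s.1.1 * h.1⁻¹) =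
    Units.map (D.embMat : _ →* _) h.1 * Units.map (D.embMat : _ →* _) s.1.1 * (Units.map (D.embMat : _ →* _) h.1)⁻¹
  rw [map_mul, map_mul, map_inv]

include S in
/-- A semisimilitude fixing the rational group commutes with it. -/
theorem Desc.commute_of_fix (hP : PND P) (hm : 3 ≤ m) (a : ↥(Gam Q))
    (h : ∀ s, autHom Q a (D.embP hne s) = D.embP hne s) (s : ↥(Cfsg.Omega F₀ ⇑(formOf m ε P))) :
    Commute a (goHom Q (D.emb (incl ⇑(formOf m ε P) s.1))) := by
  let g : ↥(Cfsg.Omega F₀ ⇑(formOf m ε P)) →* ↥(Gam Q) := ((goHom Q).comp (D.emb.comp (incl ⇑(formOf m ε P)))).comp (Cfsg.Omega F₀ ⇑(formOf m ε P)).subtype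
  have hker : ∀ t, a * g t * a⁻¹ * (g t)⁻¹ ∈ (autHom Q).ker := fun t => by
    rw [MonoidHom.mem_ker, map_mul, map_mul, map_mul, map_inv, map_inv,
      show autHom Q (g t) = MulAut.conj (D.embP hne t) by rw [D.conj_embP hne]; exact autHom_goHom _]
    refine MulEquiv.ext fun z => ?_
    simp [h, mul_assoc]
  have hcomm : ∀ k ∈ (autHom Q).ker, ∀ b : ↥(Gam Q), b.1.2 = 1 → k * b = b * k := fun k hk b hb => by
    obtain ⟨hk1, c, -, hc⟩ := (mem_ker_autHom S k).1 hk
    refine Subtype.ext (Prod.ext (Equiv.ext fun y => ?_) ?_)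
    · show k.1.1 (b.1.1 y) = b.1.1 (k.1.1 y)
      rw [hc, hc, b.2.2.1, hb]
      rfl
    · show k.1.2 * b.1.2 = b.1.2 * k.1.2
      rw [hk1, hb]
  letI : CommGroup ↥(autHom Q).ker :=
    { (inferInstance : Group ↥(autHom Q).ker) with
      mul_comm := fun k b => Subtype.ext (hcomm k.1 k.2 b.1 ((mem_ker_autHom S b.1).1 b.2).1) }
  let δ : ↥(Cfsg.Omega F₀ ⇑(formOf m ε P)) →* ↥(autHom Q).ker := MonoidHom.mk' (fun t => ⟨_, hker t⟩) fun t t' => Subtype.ext (by
    show a * g (t * t') * a⁻¹ * (g (t * t'))⁻¹ = a * g t * a⁻¹ * (g t)⁻¹ * (a * g t' * a⁻¹ * (g t')⁻¹)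
    have e := hcomm _ (hker t') (g t) rfl
    calc a * g (t * t') * a⁻¹ * (g (t * t'))⁻¹
        = a * g t * a⁻¹ * ((a * g t' * a⁻¹ * (g t')⁻¹) * (g t)⁻¹) := by rw [map_mul]; group
      _ = a * g t * a⁻¹ * ((g t)⁻¹ * (a * g t' * a⁻¹ * (g t')⁻¹)) := by
          rw [show (a * g t' * a⁻¹ * (g t')⁻¹) * (g t)⁻¹ = (g t)⁻¹ * (a * g t' * a⁻¹ * (g t')⁻¹) from
            hcomm _ (hker t') (g t)⁻¹ (by rw [Subgroup.coe_inv, Prod.snd_inv]; exact inv_one)]
      _ = _ := by group)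
  have hk := Abelianization.commutator_subset_ker δ
  rw [omega_std_perfect hP hm] at hk
  have h1 : a * g s * a⁻¹ * (g s)⁻¹ = 1 :=
    congrArg Subtype.val (MonoidHom.mem_ker.1 (hk (Subgroup.mem_top s)))
  rw [mul_inv_eq_one, mul_inv_eq_iff_eq_mul] at h1
  exact h1

include S in
/-- Only the powers of the automorphism fix the rational group. -/
theorem Desc.fix_embP_mem (hP : PND P) (hm : 3 ≤ m) (a : ↥(Gam Q))
    (h : ∀ s, autHom Q a (D.embP hne s) = D.embP hne s) : autHom Q a ∈ Subgroup.zpowers D.x := by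
  classical
  -- coordinates
  have coord : ∀ b : ↥(Gam Q), (∀ s : ↥(Cfsg.Omega F₀ ⇑(formOf m ε P)), Commute b (goHom Q (D.emb (incl ⇑(formOf m ε P) s.1)))) →
      ∀ (s : ↥(Cfsg.Omega F₀ ⇑(formOf m ε P))) (z : κ → F),
        D.T.symm (b.1.1 (D.T (s.1.1.1.map j *ᵥ z))) = s.1.1.1.map j *ᵥ D.T.symm (b.1.1 (D.T z)) := by
    intro b hb s z
    have e := congrArg (fun c : ↥(Gam Q) => c.1.1 (D.T z)) (hb s).eq
    change b.1.1 ((D.emb (incl ⇑(formOf m ε P) s.1) : GL ι F).1 *ᵥ D.T z) =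
      (D.emb (incl ⇑(formOf m ε P) s.1) : GL ι F).1 *ᵥ b.1.1 (D.T z) at e
    rw [D.emb_T, ← D.T.apply_symm_apply (b.1.1 (D.T z)), D.emb_T] at e
    rw [show (incl ⇑(formOf m ε P) s.1 : GL κ F₀).1 = s.1.1.1 from rfl] at e
    rw [e, D.T.symm_apply_apply]
  have hadd : ∀ (b : ↥(Gam Q)) (z w : κ → F),
      D.T.symm (b.1.1 (D.T (z + w))) = D.T.symm (b.1.1 (D.T z)) + D.T.symm (b.1.1 (D.T w)) := fun b z w => by
    rw [map_add, b.2.1, map_add]
  have hsmul : ∀ (b : ↥(Gam Q)) (c : F) (z : κ → F),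
      D.T.symm (b.1.1 (D.T (c • z))) = b.1.2 c • D.T.symm (b.1.1 (D.T z)) := fun b c z => by
    rw [map_smul, b.2.2.1, map_smul]
  have hinj : ∀ (b : ↥(Gam Q)) (z : κ → F), D.T.symm (b.1.1 (D.T z)) = 0 → z = 0 := fun b z hz => by
    have h0 : b.1.1 0 = 0 := by simpa using b.2.1 0 0
    rw [LinearEquiv.map_eq_zero_iff, ← h0] at hz
    exact D.T.map_eq_zero_iff.1 (b.1.1.injective hz)
  have hc := D.commute_of_fix hne S hP hm a h
  -- the field automorphism fixes the rational field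
  have hτ : ∀ c : F₀, a.1.2 (j c) = j c := by
    obtain ⟨N, hN0, hN⟩ := exists_linear_family (ε := ε) (P := P) hP hm
    obtain ⟨b, hb⟩ : ∃ b, N.map j *ᵥ Pi.single b 1 ≠ 0 := by
      by_contra hh
      push Not at hh
      refine hN0 (Matrix.ext fun p b => j.injective ?_)
      have := congrFun (hh b) p
      rw [Matrix.zero_apply, map_zero]
      simpa using this
    intro c
    obtain ⟨w, hw⟩ : ∃ w, w = N.map j *ᵥ Pi.single b (1 : F) := ⟨_, rfl⟩
    rw [← hw] at hb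
    obtain ⟨L, hL⟩ : ∃ L, L = D.T.symm (a.1.1 (D.T (Pi.single b 1))) := ⟨_, rfl⟩
    have key : ∀ d : F₀, a.1.2 (j d) • D.T.symm (a.1.1 (D.T w)) = j d • (N.map j *ᵥ L) := fun d => by
      obtain ⟨s, hs⟩ := hN d
      have e := coord a hc s (Pi.single b 1)
      rw [hs, Matrix.map_add _ (map_add j), Matrix.map_one _ (map_zero j) (map_one j),
        show (d • N).map j = j d • N.map j from Matrix.ext fun p q => map_mul j _ _,
        Matrix.add_mulVec, Matrix.add_mulVec, Matrix.one_mulVec, Matrix.one_mulVec, Matrix.smul_mulVec,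
        Matrix.smul_mulVec, hadd, hsmul, ← hw, ← hL] at e
      exact add_left_cancel e
    have h1 := key 1
    rw [map_one, map_one, one_smul, one_smul] at h1
    have h2 := key c
    rw [← h1] at h2
    exact smul_left_injective F (fun h0 => hb (hinj a w h0)) h2
  obtain ⟨k, hk⟩ := LocalBalance.mem_zpowers_of_fixes σ a.1.2 fun y hy => by
    obtain ⟨c, rfl⟩ := (D.fix y).1 hy
    exact hτ c
  -- the linear part
  obtain ⟨b, hbdef⟩ : ∃ b, b = a * (ofSemi D.semi ^ k)⁻¹ := ⟨_, rfl⟩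
  have hb1 : b.1.2 = 1 := by
    show sigG Q b = 1
    rw [hbdef, map_mul, map_inv, map_zpow, mul_inv_eq_one]
    exact hk.symm
  have hbc : ∀ s : ↥(Cfsg.Omega F₀ ⇑(formOf m ε P)), Commute b (goHom Q (D.emb (incl ⇑(formOf m ε P) s.1))) := fun s => by
    rw [hbdef]
    exact (hc s).mul_left ((D.commute_emb _).symm.zpow_left k).inv_left
  obtain ⟨M, hMdef⟩ : ∃ M : Matrix κ κ F,
      M = Matrix.of fun p q => D.T.symm (b.1.1 (D.T (Pi.single q 1))) p := ⟨_, rfl⟩
  have hM : ∀ z, D.T.symm (b.1.1 (D.T z)) = M *ᵥ z := by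
    intro z
    let L : (κ → F) →ₗ[F] (κ → F) :=
      { toFun := fun z => D.T.symm (b.1.1 (D.T z))
        map_add' := hadd b
        map_smul' := fun c z => by rw [hsmul, hb1]; rfl }
    have hLM : M = LinearMap.toMatrix' L := Matrix.ext fun p q => by
      rw [hMdef, LinearMap.toMatrix'_apply]
      rfl
    rw [hLM, LinearMap.toMatrix'_mulVec]
    rfl
  obtain ⟨d, hd⟩ := scalar_of_rational j (Set.range fun s : ↥(Cfsg.Omega F₀ ⇑(formOf m ε P)) => s.1.1.1)
    (fun M₀ hM₀ => centralizer_omega_std hP hm M₀ fun s => hM₀ _ ⟨s, rfl⟩) M (by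
      rintro _ ⟨s, rfl⟩
      refine Matrix.ext_of_mulVec_single fun i => ?_
      rw [← Matrix.mulVec_mulVec, ← Matrix.mulVec_mulVec, ← hM, ← hM]
      exact coord b hbc s _)
  have hker : b ∈ (autHom Q).ker := by
    obtain ⟨T₀⟩ := (⟨stdPairs ε P hm⟩ : Nonempty (ThreePairs (formOf m ε P)))
    have hd0 : d ≠ 0 := fun e0 => by
      have h0 := hinj b (j ∘ T₀.e) (by rw [hM, hd, e0, zero_smul, Matrix.zero_mulVec])
      exact (frame_ne T₀).1 (funext fun p => j.injective (by simpa using congrFun h0 p))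
    refine (mem_ker_autHom S b).2 ⟨hb1, d, hd0, fun y => ?_⟩
    have e := hM (D.T.symm y)
    rw [D.T.apply_symm_apply, hd, Matrix.smul_mulVec, Matrix.one_mulVec, ← map_smul] at e
    exact D.T.symm.injective e
  refine ⟨k, ?_⟩
  rw [MonoidHom.mem_ker, hbdef, map_mul, map_inv, map_zpow, mul_inv_eq_one] at hker
  exact hker.symm

include hne S S₀ in
/-- Local balance for the automorphism of a structure. -/
theorem Desc.balance (hP : PND P) (hm : 3 ≤ m) {p : ℕ} [Fact p.Prime] (hσ : orderOf σ = p)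
    (A : Subgroup (MulAut (Cfsg.POmega F ⇑Q))) (hinn : ∀ k, MulAut.conj k ∈ A)
    (hsem : ∀ β : MulAut (Cfsg.POmega F ⇑Q), Commute β D.x → ∃ a, autHom Q a = β)
    (hel : p ∣ Nat.card (MonoidHom.eqLocus D.x.toMonoidHom (MonoidHom.id (Cfsg.POmega F ⇑Q))) →
      ∃ s, orderOf (D.embP hne s) = p) :
    Cfsg.pPrimeCore p ↥(A ⊓ Subgroup.centralizer {D.x}) ≠ ⊥ ↔
      Nat.Coprime p (Nat.card (MonoidHom.eqLocus D.x.toMonoidHom (MonoidHom.id (Cfsg.POmega F ⇑Q)))) := by
  haveI : IsSimpleGroup (Cfsg.POmega F₀ ⇑(formOf m ε P)) := simple_standard hP hm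
  constructor
  · intro hne'
    by_contra hcop
    obtain ⟨s₀, hs₀⟩ := hel ((Nat.Prime.coprime_iff_not_dvd Fact.out).not_left.mp hcop)
    refine hne' (LocalBalance.core_eq_bot A hinn D.x 1 D.x (by simp) fun L hL hn hc => ?_)
    refine LocalBalance.core_trivial' D.x ((D.orderOf_x S).trans hσ) (conj_injective S) (D.embP hne)
      (D.x_embP hne S) (fun n hn => D.embP_norm hne S hn) ?_ ?_ L hL hn hc
    · intro N hN
      have hmap : (N.map (QuotientGroup.mk' (Subgroup.center ↥(Cfsg.Omega F₀ ⇑(formOf m ε P))))).Normal :=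
        hN.map _ (QuotientGroup.mk'_surjective _)
      rcases hmap.eq_bot_or_eq_top with e | e
      · left
        intro z hz
        refine D.center_le_ker_embP hne S S₀ ((QuotientGroup.eq_one_iff z).1 ?_)
        exact Subgroup.mem_bot.1 (e ▸ Subgroup.mem_map_of_mem _ hz)
      · right
        have htop : N = ⊤ := by
          rw [eq_top_iff, ← omega_std_perfect hP hm, commutator_def, Subgroup.commutator_le]
          intro g₁ _ g₂ _
          obtain ⟨n, hn', hz⟩ := (show QuotientGroup.mk' (Subgroup.center ↥(Cfsg.Omega F₀ ⇑(formOf m ε P))) g₁ ∈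
            N.map (QuotientGroup.mk' _) from e ▸ Subgroup.mem_top _)
          have hz' : n⁻¹ * g₁ ∈ Subgroup.center ↥(Cfsg.Omega F₀ ⇑(formOf m ε P)) := QuotientGroup.eq.1 hz
          have e1 : ⁅g₁, g₂⁆ = n * (g₂ * n⁻¹ * g₂⁻¹) := by
            rw [show g₁ = n * (n⁻¹ * g₁) by group, commutatorElement_def]
            generalize n⁻¹ * g₁ = z at hz' ⊢
            have hzc := Subgroup.mem_center_iff.1 hz' g₂
            calc n * z * g₂ * (n * z)⁻¹ * g₂⁻¹ = n * (z * g₂) * z⁻¹ * n⁻¹ * g₂⁻¹ := by group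
              _ = n * (g₂ * z) * z⁻¹ * n⁻¹ * g₂⁻¹ := by rw [hzc]
              _ = _ := by group
          rw [e1]
          exact N.mul_mem hn' (hN.conj_mem _ (N.inv_mem hn') g₂)
        exact ⟨s₀, htop ▸ Subgroup.mem_top _, hs₀⟩
    · intro β hβ hfix
      obtain ⟨a, rfl⟩ := hsem β hβ
      exact D.fix_embP_mem hne S hP hm a hfix
  · intro hcop
    obtain ⟨s, hs⟩ := D.embP_ne_one hne S S₀
    exact LocalBalance.core_ne_bot A hinn D.x (conj_injective S) ⟨_, D.x_embP hne S s, hs⟩ hcop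

include hne S S₀ in
/-- An involution in the rational group. -/
theorem Desc.exists_rational_involution (hP : PND P) (hm : 3 ≤ m) (h2 : (2 : F₀) ≠ 0) :
    ∃ s, orderOf (D.embP hne s) = 2 := by
  obtain ⟨T, -⟩ : ∃ T : ThreePairs (formOf m ε P), T = stdPairs ε P hm := ⟨_, rfl⟩
  have hv₁ : formOf m ε P (T.e + T.f) = 1 := by
    rw [map_two, T.hp.1, T.hp.2.1, T.hp.2.2]; simp
  have hv₂ : formOf m ε P (T.w + T.w') = 1 := by
    rw [map_two, T.hq.1, T.hq.2.1, T.hq.2.2]; simp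
  have h11 : polar (formOf m ε P) (T.e + T.f) (T.e + T.f) = 2 := by
    rw [polar_self_two, hv₁, mul_one]
  have h12 : polar (formOf m ε P) (T.e + T.f) (T.w + T.w') = 0 := by
    simp [polar_add_left, polar_add_right, T.ew, T.ew', T.fw, T.fw']
  have h22 : polar (formOf m ε P) (T.w + T.w') (T.w + T.w') = 2 := by
    rw [polar_self_two, hv₂, mul_one]
  have h21 : polar (formOf m ε P) (T.w + T.w') (T.e + T.f) = 0 := by rw [polar_comm, h12]
  obtain ⟨g, hg⟩ := Orth.exists_word_mat (Q := formOf m ε P) rfl [T.e + T.f, T.w + T.w']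
  have hmem : g ∈ Cfsg.Omega F₀ ⇑(formOf m ε P) := (Orth.mem_omega rfl (formOf_pnd hP) g _ (by
    simp [hv₁, hv₂]) hg).2 ⟨⟨1, rfl⟩, ⟨1, by simp [hv₁, hv₂]⟩⟩
  have hgx : ∀ x, g.1.1 *ᵥ x = x - polar (formOf m ε P) (T.e + T.f) x • (T.e + T.f) -
      polar (formOf m ε P) (T.w + T.w') x • (T.w + T.w') := fun x => by
    rw [hg, Orth.prodRf_cons, Orth.prodRf_cons, Orth.prodRf_nil, mul_one]
    show refl (formOf m ε P) (T.e + T.f) (refl (formOf m ε P) (T.w + T.w') x) = _
    rw [refl_apply, refl_apply, hv₁, hv₂, inv_one, one_mul, one_mul, polar_sub_right, polar_smul_right, h12,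
      smul_zero, sub_zero]
    abel
  refine ⟨⟨g, hmem⟩, orderOf_eq_prime ?_ fun h1 => ?_⟩
  · rw [← map_pow, show (⟨g, hmem⟩ : ↥(Cfsg.Omega F₀ ⇑(formOf m ε P))) ^ 2 = 1 from Subtype.ext (Subtype.ext
      (Units.ext (Matrix.ext_of_mulVec_single fun i => by
        rw [pow_two]
        show (g.1.1 * g.1.1) *ᵥ _ = (1 : Matrix κ κ F₀) *ᵥ _
        rw [← Matrix.mulVec_mulVec, Matrix.one_mulVec, hgx, hgx]
        simp only [polar_sub_right, polar_smul_right, h11, h22, h12, h21, smul_eq_mul]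
        module)))]
    exact map_one _
  · have h2' : rho ⇑(formOf m ε P) (incl ⇑(formOf m ε P) g) = 1 := (D.rho_emb_eq_one S S₀ _).1 (by
      rw [← D.conj_embP hne ⟨g, hmem⟩, h1, map_one])
    rw [← autHom_goHom, ← MonoidHom.mem_ker, mem_ker_autHom S₀] at h2'
    obtain ⟨-, c, -, hc⟩ := h2'
    have e1 := hc T.u
    have e2 := hc (T.e + T.f)
    rw [goHom_apply] at e1 e2
    change g.1.1 *ᵥ _ = _ at e1 e2
    rw [hgx] at e1 e2
    have hu : c = 1 := by
      have := congrArg (fun x => polar (formOf m ε P) x T.z) e1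
      simpa [polar_sub_left, polar_smul_left, polar_add_left, polar_add_right, T.eu, T.fu, T.wu, T.w'u,
        T.hs.2.2, polar_comm (formOf m ε P) T.u] using this.symm
    have := congrArg (fun x => polar (formOf m ε P) (T.e + T.f) x) e2
    simp only [polar_sub_right, polar_smul_right, h11, h12, h21, hu, one_smul, smul_eq_mul] at this
    exact h2 (mul_self_eq_zero.1 (by linear_combination -this))

include hne S S₀ in
/-- Fixed elements of odd prime order give rational elements of that order, when the rational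
similitudes have a power of two as exponent modulo the inner ones. -/
theorem Desc.exists_rational_order (e : ℕ) (he : ∀ h : ↥(GO ⇑(formOf m ε P)), h ^ (2 ^ e) ∈ innSub (formOf m ε P)) {p : ℕ}
    [Fact p.Prime] (hp2 : p ≠ 2)
    (hdvd : p ∣ Nat.card (MonoidHom.eqLocus D.x.toMonoidHom (MonoidHom.id (Cfsg.POmega F ⇑Q)))) :
    ∃ s, orderOf (D.embP hne s) = p := by
  haveI : Finite (Cfsg.POmega F ⇑Q) := Quotient.finite _
  obtain ⟨⟨n, hn⟩, ho⟩ := exists_prime_orderOf_dvd_card' p hdvd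
  replace hn : D.x n = n := hn
  rw [← Subgroup.orderOf_coe] at ho
  obtain ⟨w, rfl⟩ := QuotientGroup.mk_surjective n
  have hc : Commute (rho ⇑Q (incl ⇑Q w.1)) D.x := by
    rw [Orth.rho_omega]
    refine MulEquiv.ext fun z => ?_
    simp only [MulAut.mul_apply, MulAut.conj_apply, map_mul, map_inv, hn]
  obtain ⟨u, h, hh⟩ := D.descend S hne _ hc
  obtain ⟨_, ⟨s, hs, rfl⟩, hrs⟩ := he h
  refine ⟨⟨s, hs⟩, ?_⟩
  have e1 : D.embP hne ⟨s, hs⟩ = (QuotientGroup.mk w : Cfsg.POmega F ⇑Q) ^ (2 ^ e) := by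
    apply conj_injective S
    rw [map_pow, D.conj_embP hne, ← Orth.rho_omega, hh, map_mul, Desc.rho_scalarG, one_mul, ← map_pow,
      ← map_pow, ← mul_inv_eq_one, ← map_inv, ← map_mul, ← map_inv, ← map_mul, D.rho_emb_eq_one S S₀, map_mul,
      map_inv, mul_inv_eq_one]
    exact hrs
  rw [e1, orderOf_pow, show orderOf (QuotientGroup.mk w : Cfsg.POmega F ⇑Q) = p from ho,
    ((Nat.coprime_primes Fact.out Nat.prime_two).mpr hp2).pow_right e |>.gcd_eq_one, Nat.div_one]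

end Std

end Cfsg.Agent.Small.OrthAut
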