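import Cfsg.Agent.Lib.Small.OrthAut.BalanceField

/-!
Local balance for the odd-dimensional orthogonal groups.
-/

set_option autoImplicit false
set_option linter.unusedSectionVars false
set_option linter.style.haveILetI false

namespace Cfsg.Agent.Small.OrthAut

open Module QuadraticMap Matrix
open Cfsg.Agent.Classical
open Cfsg.Agent.Classical.OCount Cfsg.Agent.Classical.ORefl Cfsg.Agent.Classical.OOmega
open Cfsg.Agent.Small.Orth (GO incl scalarG rho innSub)

universe u

variable {F : Type u} [Field F] [Fintype F]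

/-- The automorphism of a coordinate semisimilitude is the field automorphism. -/
theorem isFieldAut_coord {ι : Type} [Fintype ι] [DecidableEq ι] {Q : QuadraticForm F (ι → F)} (σ : F ≃+* F)
    (h : ∀ x : ι → F, Q (fun i => σ (x i)) = σ (Q x)) :
    Cfsg.IsFieldAutPOmegaOf ⇑Q σ (autHom Q (ofSemi (coordSemi σ h))) := by
  intro s s' e
  rw [autHom_ofSemi]
  refine (coordSemi σ h).induced s s' ?_
  rw [coordSemi_gl, inv_one, Units.val_one, Matrix.one_mul, Matrix.mul_one, e]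
  rfl

/-- An automorphism of prime order which is not induced by a similitude. -/
theorem exists_coset_form {ι : Type} [Fintype ι] [DecidableEq ι] {Q : QuadraticForm F (ι → F)}
    (hco : ∀ (σ : F ≃+* F) (x : ι → F), Q (fun i => σ (x i)) = σ (Q x)) (a : ↥(Gam Q)) :
    ∃ g : ↥(GO ⇑Q), a = goHom Q g * ofSemi (coordSemi (sigG Q a) (hco _)) := by
  obtain ⟨g, hg⟩ : a * (ofSemi (coordSemi (sigG Q a) (hco _)))⁻¹ ∈ (goHom Q).range := by
    rw [range_goHom, MonoidHom.mem_ker, map_mul, map_inv]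
    exact mul_inv_cancel _
  exact ⟨g, by rw [hg, inv_mul_cancel_right]⟩

/-- Local balance for `Ω_{2m+1}(q)`. -/
theorem balance_odd {m : ℕ} (hm : 3 ≤ m) (h2 : (2 : F) ≠ 0)
    (A : Subgroup (MulAut (Cfsg.POmega F ⇑(qOdd F m)))) (hinn : ∀ k, MulAut.conj k ∈ A) {p : ℕ} [Fact p.Prime]
    (x : MulAut (Cfsg.POmega F ⇑(qOdd F m))) (hord : orderOf x = p)
    (hnot : ¬ Cfsg.IsSimilarityInducedAutPOmega ⇑(qOdd F m) x) :
    Cfsg.pPrimeCore p ↥(A ⊓ Subgroup.centralizer {x}) ≠ ⊥ ↔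
      (Cfsg.IsFieldAutClassPOmega ⇑(qOdd F m) x ∧ Nat.Coprime p
        (Nat.card ↥(MonoidHom.eqLocus x.toMonoidHom (MonoidHom.id (Cfsg.POmega F ⇑(qOdd F m)))))) := by
  classical
  have S := setup_odd h2 hm
  haveI : IsSimpleGroup (Cfsg.POmega F ⇑(qOdd F m)) := simple_standard (pnd_line h2) hm
  have hL := noLag_qOdd (F := F) h2 m
  obtain ⟨a, ha⟩ := autHom_surjective S hL x
  obtain ⟨g, hg⟩ := exists_coset_form (fun σ => coord_odd σ) a
  have hσ1 : sigG (qOdd F m) a ≠ 1 := fun h => by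
    obtain ⟨g', rfl⟩ : a ∈ (goHom (qOdd F m)).range := by rw [range_goHom]; exact h
    exact hnot ⟨g'.1, g'.2, (Orth.induced_iff g' x).2 (by rw [← ha, autHom_goHom])⟩
  have hσ := orderOf_sig S a Fact.out hσ1 (by rw [ha, hord])
  rw [hg, map_mul, autHom_goHom] at ha
  obtain ⟨F₀, _, _, j, hfix⟩ := exists_fixed_field (sigG (qOdd F m) a)
  obtain ⟨D, hD⟩ := odd_desc h2 hm hfix g ha.symm (hord.trans hσ.symm)
  have h2₀ := two_ne_fixed j h2
  have S₀ := setup_odd (F := F₀) h2₀ hm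
  have hne : ∃ y, qOdd F₀ m y ≠ 0 := by
    obtain ⟨T⟩ := S₀.frame
    obtain ⟨v, hv⟩ := exists_value_of_pair T.hp 1
    exact ⟨v, by rw [hv]; exact one_ne_zero⟩
  have hfield : Cfsg.IsFieldAutClassPOmega ⇑(qOdd F m) x := by
    have hstd : ∀ y, qOdd F m (j ∘ y) = j (qOdd F₀ m y) := fun y => by
      simp [coe_odd, Cfsg.quadFormOdd, map_sum, map_mul, map_add, map_pow]
    obtain ⟨h, -, he⟩ := D.conj_odd_dim (stdDesc hfix hstd)
    rw [stdDesc_x hfix hstd (coord_odd _), ← hD] at he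
    exact ⟨h, _, sigG (qOdd F m) a, hσ1, isFieldAut_coord _ (coord_odd _), he.symm⟩
  subst hD
  rw [and_iff_right hfield]
  refine D.balance (ε := _) (P := lineForm F₀) hne S S₀ (pnd_line h2₀) hm hσ A hinn
    (fun β _ => autHom_surjective S hL β) fun hdvd => ?_
  rcases eq_or_ne p 2 with rfl | hp2
  · exact D.exists_rational_involution hne S S₀ (pnd_line h2₀) hm h2₀
  · refine D.exists_rational_order hne S S₀ 1 (fun h => ?_) hp2 hdvd
    rw [pow_one, pow_two]
    by_cases hh : h ∈ innSub (qOdd F₀ m)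
    · exact mul_mem hh hh
    · exact index_two_odd h2₀ hm hh hh

end Cfsg.Agent.Small.OrthAut
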