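import Cfsg.Agent.Lib.Small.OrthAut.FieldMain

/-!
Field automorphisms of prime order of the minus groups, given through an isomorphism with the group
of another anisotropic plane.
-/

set_option autoImplicit false
set_option linter.unusedSectionVars false
set_option linter.style.haveILetI false

namespace Cfsg.Agent.Small.OrthAut

open Module QuadraticMap Matrix
open Cfsg.Agent.Classical
open Cfsg.Agent.Classical.OCount Cfsg.Agent.Classical.ORefl Cfsg.Agent.Classical.OOmega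
open Cfsg.Agent.Small.Orth (GO incl scalarG rho mult prodRf qPlus qMinus)

universe u v

section Transport

variable {F : Type u} [Field F] [Fintype F] {ι : Type} [Fintype ι] [DecidableEq ι] {Q Q' : QuadraticForm F (ι → F)}
  (L : (ι → F) ≃ₗ[F] (ι → F)) (hL : ∀ v, Q (L v) = Q' v)

/-- Isometric forms have isomorphic isometry groups. -/
def isoTr : ↥(Iso Q') ≃* ↥(Iso Q) where
  toFun g := ⟨L.symm.trans (g.1.trans L), fun x => by
    show Q (L (g.1 (L.symm x))) = Q x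
    rw [hL, g.2, ← hL, L.apply_symm_apply]⟩
  invFun g := ⟨L.trans (g.1.trans L.symm), fun x => by
    show Q' (L.symm (g.1 (L x))) = Q' x
    rw [← hL, L.apply_symm_apply, g.2, hL]⟩
  left_inv g := Subtype.ext (LinearEquiv.ext fun x => by simp)
  right_inv g := Subtype.ext (LinearEquiv.ext fun x => by simp)
  map_mul' g h := Subtype.ext (LinearEquiv.ext fun x => by simp)

/-- The same for the derived groups. -/
noncomputable def derTr : G Q' ≃* G Q :=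
  ((isoTr L hL).subgroupMap (commutator ↥(Iso Q'))).trans
    (MulEquiv.subgroupCongr (map_commutator_equiv (isoTr L hL)))

theorem ap_derTr (g : G Q') (x : ι → F) : ap (derTr L hL g) x = L (ap g (L.symm x)) := rfl

/-- The same modulo the centres. -/
noncomputable def projTr : PG Q' ≃* PG Q :=
  QuotientGroup.congr _ _ (derTr L hL) (by
    refine le_antisymm ?_ fun x hx =>
      ⟨(derTr L hL).symm x, (Subgroup.centerCongr (derTr L hL).symm ⟨x, hx⟩).2, (derTr L hL).apply_symm_apply x⟩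
    rintro _ ⟨y, hy, rfl⟩
    exact (Subgroup.centerCongr (derTr L hL) ⟨y, hy⟩).2)

theorem projTr_pr (g : G Q') : projTr L hL (pr Q' g) = pr Q (derTr L hL g) := rfl

/-- The same for `PΩ`. -/
noncomputable def omegaTr : Cfsg.POmega F ⇑Q' ≃* Cfsg.POmega F ⇑Q :=
  ((pOmegaEquiv Q').symm.trans (projTr L hL)).trans (pOmegaEquiv Q)

/-- Semisimilitudes correspond. -/
theorem omegaTr_autP (l' : Semi Q') (l : Semi Q) (h : ∀ v, l.L (L v) = L (l'.L v)) (y : Cfsg.POmega F ⇑Q') :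
    omegaTr L hL (l'.autP y) = l.autP (omegaTr L hL y) := by
  obtain ⟨z, rfl⟩ := (pOmegaEquiv Q').surjective y
  obtain ⟨g, rfl⟩ := pr_surjective z
  show pOmegaEquiv Q (projTr L hL ((pOmegaEquiv Q').symm (pOmegaEquiv Q' (l'.aut ((pOmegaEquiv Q').symm
      (pOmegaEquiv Q' (pr Q' g))))))) = pOmegaEquiv Q (l.aut ((pOmegaEquiv Q).symm (pOmegaEquiv Q
      (projTr L hL ((pOmegaEquiv Q').symm (pOmegaEquiv Q' (pr Q' g)))))))
  simp only [MulEquiv.symm_apply_apply, l'.aut_pr, projTr_pr, l.aut_pr]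
  refine congrArg _ (congrArg _ (ext_ap fun x => ?_))
  obtain ⟨w, rfl⟩ := l.L.surjective x
  obtain ⟨v, rfl⟩ := L.surjective w
  rw [l.ap_cg_L, ap_derTr, ap_derTr, L.symm_apply_apply, h, L.symm_apply_apply, l'.ap_cg_L, h]

/-- Transport of a structure. -/
def Desc.transport {F₀ : Type v} [Field F₀] [Fintype F₀] {κ : Type} [Fintype κ] [DecidableEq κ]
    {Q₀ : QuadraticForm F₀ (κ → F₀)} {σ : RingAut F} {j : F₀ →+* F} (D : Desc Q' Q₀ σ j) : Desc Q Q₀ σ j where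
  T := D.T.trans L
  c := D.c
  hc := D.hc
  fix := D.fix
  form y := (hL _).trans (D.form y)

theorem Desc.transport_x {F₀ : Type v} [Field F₀] [Fintype F₀] {κ : Type} [Fintype κ] [DecidableEq κ]
    {Q₀ : QuadraticForm F₀ (κ → F₀)} {σ : RingAut F} {j : F₀ →+* F} (D : Desc Q' Q₀ σ j)
    (y : Cfsg.POmega F ⇑Q') : omegaTr L hL (D.x y) = (D.transport L hL).x (omegaTr L hL y) := by
  have h1 : D.x = D.semi.autP := autHom_ofSemi D.semi
  have h3 : (D.transport L hL).x = (D.transport L hL).semi.autP := autHom_ofSemi _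
  rw [h1, h3]
  refine omegaTr_autP L hL _ _ (fun v => ?_) y
  show L (D.T (σ ∘ (D.T.symm (L.symm (L v))))) = L (D.T (σ ∘ D.T.symm v))
  rw [L.symm_apply_apply]

end Transport

section Minus

variable {F : Type u} [Field F] [Fintype F] {m : ℕ} {a b : F}

/-- Any two anisotropic planes are isometric. -/
theorem exists_minus_iso (hab : ∀ z₁ z₂ : F, z₁ ^ 2 + a * z₁ * z₂ + b * z₂ ^ 2 = 0 → z₁ = 0 ∧ z₂ = 0) {a' b' : F}
    (hab' : ∀ z₁ z₂ : F, z₁ ^ 2 + a' * z₁ * z₂ + b' * z₂ ^ 2 = 0 → z₁ = 0 ∧ z₂ = 0) :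
    ∃ L : ((Fin m ⊕ Fin m) ⊕ Fin 2 → F) ≃ₗ[F] ((Fin m ⊕ Fin m) ⊕ Fin 2 → F),
      ∀ v, qMinus m a b (L v) = qMinus m a' b' v := by
  rcases QuadModels.even_model (qMinus m a b) (show 1 ≤ m + 1 by omega)
      (by rw [Module.finrank_fintype_fun_eq_card]; simp; omega)
      (QuadModels.nondegenerate (formOf_pnd (pnd_plane hab))) a' b' hab' with ⟨L, hL⟩ | ⟨L, hL⟩
  · exfalso
    have hU : ∀ z ∈ (Orth.zeroRight F (m + 1)).map L.toLinearMap, Cfsg.quadFormMinus m F a b z = 0 := by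
      rintro _ ⟨w, hw, rfl⟩
      refine (congrFun (coe_minus m a b) _).symm.trans ((hL w).trans ?_)
      rw [← coe_plus]
      exact Orth.zeroRight_singular F w hw
    have h := OEven.minus_model_no_half hab hU
    rw [LinearEquiv.finrank_map_eq, Orth.finrank_zeroRight] at h
    omega
  · exact ⟨L, fun v => (hL v).trans (congrFun (coe_minus m a' b') v).symm⟩

theorem coord_minus {a b : F} (σ : F ≃+* F) (ha : σ a = a) (hb : σ b = b) (x : (Fin m ⊕ Fin m) ⊕ Fin 2 → F) :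
    qMinus m a b (fun i => σ (x i)) = σ (qMinus m a b x) := by
  simp [Orth.qMinus_apply, map_sum, map_mul, map_add, map_pow, ha, hb]

/-- A field automorphism of prime order of the minus group is a structure of odd degree. -/
theorem minus_desc (hm : 3 ≤ m) (hab : ∀ z₁ z₂ : F, z₁ ^ 2 + a * z₁ * z₂ + b * z₂ ^ 2 = 0 → z₁ = 0 ∧ z₂ = 0)
    {a' b' : F} (hab' : ∀ z₁ z₂ : F, z₁ ^ 2 + a' * z₁ * z₂ + b' * z₂ ^ 2 = 0 → z₁ = 0 ∧ z₂ = 0)
    (ψ : Cfsg.POmega F ⇑(qMinus m a b) ≃* Cfsg.POmega F ⇑(qMinus m a' b')) {σ : F ≃+* F}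
    (hσ : σ ≠ RingEquiv.refl F) (ha : σ a' = a') (hb : σ b' = b') {x : MulAut (Cfsg.POmega F ⇑(qMinus m a b))}
    (hφ : Cfsg.IsFieldAutPOmegaOf ⇑(qMinus m a' b') σ ((ψ.symm.trans x).trans ψ)) {r : ℕ} (hr : r.Prime)
    (hxr : orderOf x = r) :
    orderOf (σ : RingAut F) = r ∧ Odd r ∧
      ∀ {F₀ : Type v} [Field F₀] [Fintype F₀] {j : F₀ →+* F}, (∀ y, σ y = y ↔ y ∈ Set.range j) →
        ∃ a₀ b₀ : F₀, (∀ z₁ z₂ : F₀, z₁ ^ 2 + a₀ * z₁ * z₂ + b₀ * z₂ ^ 2 = 0 → z₁ = 0 ∧ z₂ = 0) ∧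
          ∃ D : Desc (qMinus m a b) (qMinus m a₀ b₀) (σ : RingAut F) j, x = D.x := by
  have S := setup_minus hm hab
  have S' := setup_minus hm hab'
  obtain ⟨φ, hφdef⟩ : ∃ φ : MulAut (Cfsg.POmega F ⇑(qMinus m a' b')), φ = (ψ.symm.trans x).trans ψ := ⟨_, rfl⟩
  rw [← hφdef] at hφ
  have hφeq := fieldAut_eq (coord_minus σ ha hb) hφ
  have hφr : orderOf φ = r := by
    rw [← hxr, hφdef]
    exact MulEquiv.orderOf_eq (MulAut.congr ψ) x
  have hord := orderOf_sig S' (ofSemi (coordSemi σ (coord_minus σ ha hb))) hr hσ (hφeq ▸ hφr)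
  have hord' : orderOf (σ : RingAut F) = r := hord
  have hfixed : ∀ {F₁ : Type v} [Field F₁] [Fintype F₁] {j : F₁ →+* F}, (∀ y, σ y = y ↔ y ∈ Set.range j) →
      ∃ a₁ b₁ : F₁, j a₁ = a' ∧ j b₁ = b' ∧
        ∀ z₁ z₂ : F₁, z₁ ^ 2 + a₁ * z₁ * z₂ + b₁ * z₂ ^ 2 = 0 → z₁ = 0 ∧ z₂ = 0 := by
    intro F₁ _ _ j hfix
    obtain ⟨a₁, rfl⟩ := (hfix a').1 ha
    obtain ⟨b₁, rfl⟩ := (hfix b').1 hb
    refine ⟨a₁, b₁, rfl, rfl, fun z₁ z₂ h => ?_⟩
    obtain ⟨h1, h3⟩ := hab' (j z₁) (j z₂) (by simpa [map_add, map_mul, map_pow] using congrArg j h)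
    exact ⟨(map_eq_zero j).1 h1, (map_eq_zero j).1 h3⟩
  have hrodd : Odd r := by
    rcases hr.eq_two_or_odd' with h2 | h
    · exfalso
      obtain ⟨F₁, _, _, j, hfix⟩ := exists_fixed_field (σ : RingAut F)
      obtain ⟨a₁, ha₁⟩ := (hfix a').1 ha
      obtain ⟨b₁, hb₁⟩ := (hfix b').1 hb
      obtain ⟨t, ht⟩ := exists_root_fixed hfix (hord'.trans h2) a₁ b₁
      rw [ha₁, hb₁] at ht
      exact one_ne_zero (hab' t 1 (by linear_combination ht)).2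
    · exact h
  refine ⟨hord', hrodd, fun {F₀} _ _ {j} hfix => ?_⟩
  obtain ⟨a₀, b₀, ha₀, hb₀, hab₀⟩ := hfixed hfix
  obtain ⟨L, hL⟩ := exists_minus_iso (m := m) hab hab'
  have hstd : ∀ y, qMinus m a' b' (j ∘ y) = j (qMinus m a₀ b₀ y) := fun y => by
    rw [← ha₀, ← hb₀]; exact Orth.qMinus_map (σ := j) y
  obtain ⟨D', hD'⟩ : ∃ D' : Desc (qMinus m a' b') (qMinus m a₀ b₀) (σ : RingAut F) j, D' = stdDesc hfix hstd :=
    ⟨_, rfl⟩
  have hD'x : D'.x = φ := by rw [hD', stdDesc_x hfix hstd (coord_minus σ ha hb)]; exact hφeq.symm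
  obtain ⟨D, hD⟩ : ∃ D, D = D'.transport L hL := ⟨_, rfl⟩
  obtain ⟨α, hα⟩ : ∃ α : MulAut (Cfsg.POmega F ⇑(qMinus m a b)), α = ψ.trans (omegaTr L hL) := ⟨_, rfl⟩
  have hconj : α * x * α⁻¹ = D.x := by
    rw [mul_inv_eq_iff_eq_mul]
    refine MulEquiv.ext fun y => ?_
    show α (x y) = D.x (α y)
    have e : φ (ψ y) = ψ (x y) := by
      rw [hφdef]
      show ψ (x (ψ.symm (ψ y))) = ψ (x y)
      rw [ψ.symm_apply_apply]
    rw [hα, MulEquiv.trans_apply, MulEquiv.trans_apply, ← e, ← hD'x, hD, D'.transport_x L hL]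
  obtain ⟨g, hg, -⟩ := coset_of_conj S (noLag_qMinus hab) (ofSemi D.semi) hconj
  obtain ⟨Q₁, D₁, hQ₁, hx₁, -⟩ := D.step S g (by
    rw [show rho _ g * D.x = x from hg.symm, hord', ← hxr]; exact pow_orderOf_eq_one x)
  obtain ⟨A, hA⟩ := classify_minus hab D₁ hQ₁ a₀ b₀ hab₀
  exact ⟨a₀, b₀, hab₀, A, hg.trans (hx₁.trans (congrArg (autHom _) hA.symm))⟩

variable {F₀ : Type v} [Field F₀] [Fintype F₀] {σ : RingAut F} {j : F₀ →+* F} {a₀ b₀ : F₀}

/-- The coset statement. -/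
theorem minus_coset (hm : 3 ≤ m) (hab : ∀ z₁ z₂ : F, z₁ ^ 2 + a * z₁ * z₂ + b * z₂ ^ 2 = 0 → z₁ = 0 ∧ z₂ = 0)
    (hab₀ : ∀ z₁ z₂ : F₀, z₁ ^ 2 + a₀ * z₁ * z₂ + b₀ * z₂ ^ 2 = 0 → z₁ = 0 ∧ z₂ = 0)
    (D : Desc (qMinus m a b) (qMinus m a₀ b₀) σ j) {δ : MulAut (Cfsg.POmega F ⇑(qMinus m a b))}
    (hδ : δ ∈ (evenK (qMinus m a b) (m + 1)).map (rho ⇑(qMinus m a b))) :
    orderOf (δ * D.x) = orderOf σ ↔
      Cfsg.IsConjUnder ((evenK (qMinus m a b) (m + 1)).map (rho ⇑(qMinus m a b))) D.x (δ * D.x) := by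
  have S := setup_minus hm hab
  refine ⟨fun hord => ?_, fun ⟨h, _, he⟩ => by rw [he, orderOf_conj, D.orderOf_x S]⟩
  obtain ⟨d, -, rfl⟩ := hδ
  obtain ⟨Q₁, D₁, hQ₁, hx₁, -⟩ := D.step S d (by rw [← hord]; exact pow_orderOf_eq_one _)
  obtain ⟨A, hA⟩ := classify_minus hab D₁ hQ₁ a₀ b₀ hab₀
  obtain ⟨h, hh, he⟩ := D.conj_adjust A (evenData_minus hm hab) (evenData_minus hm hab₀)
  exact ⟨h, hh, hx₁.trans ((congrArg (autHom _) hA.symm).trans he)⟩

end Minus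

end Cfsg.Agent.Small.OrthAut
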