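import Mathlib
import Cfsg.Agent.Lib.Classical.OrthOmega

/-!
Symmetric bilinear spaces of dimension at least three over a finite field of odd characteristic:
normal subgroups of groups containing the reflections contain products of two commuting reflections,
and only scalars commute with the fourth powers of the products of two reflections.
-/

set_option autoImplicit false
set_option linter.unusedSectionVars false

namespace Cfsg.Agent.Small.OrthAut.GraphCore

open Module

variable {K W : Type*} [Field K] [Finite K] [AddCommGroup W] [Module K W] [FiniteDimensional K W]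
  (B : W →ₗ[K] W →ₗ[K] K)

/-- The hypotheses on the bilinear form. -/
structure Nice : Prop where
  h2 : (2 : K) ≠ 0
  symm : ∀ x y, B x y = B y x
  nd : ∀ x, (∀ y, B x y = 0) → x = 0
  dim : 3 ≤ finrank K W

/-- The reflection. -/
def rfn (v x : W) : W := x - (2 * B v x / B v v) • v

variable {B}

theorem Nice.exists_aniso (H : Nice B) : ∃ v, B v v ≠ 0 := by
  by_contra hc
  push Not at hc
  have h0 : ∀ x : W, x = 0 := fun x => H.nd x fun y => by
    have h := hc (x + y)
    simp only [map_add, LinearMap.add_apply, hc, H.symm y x, zero_add, add_zero] at h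
    exact (mul_eq_zero.1 (show 2 * B x y = 0 by linear_combination h)).resolve_left H.h2
  have : Subsingleton W := ⟨fun x y => (h0 x).trans (h0 y).symm⟩
  have := H.dim
  rw [Module.finrank_zero_of_subsingleton] at this
  omega

/-- An anisotropic vector orthogonal to a given orthogonal pair. -/
theorem Nice.exists_perp (H : Nice B) {v u : W} (hv : B v v ≠ 0) (hu : B u u ≠ 0) (hvu : B v u = 0) :
    ∃ t, B t t ≠ 0 ∧ B v t = 0 ∧ B u t = 0 := by
  by_contra hc
  push Not at hc
  obtain ⟨π, hπ⟩ : ∃ π : W → W, ∀ x, π x = x - (B v x / B v v) • v - (B u x / B u u) • u := ⟨_, fun _ => rfl⟩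
  have hv' : ∀ x, B v (π x) = 0 ∧ B u (π x) = 0 := fun x => by
    constructor <;> simp [hπ, hvu, H.symm u v, div_mul_cancel₀ _ hv, div_mul_cancel₀ _ hu]
  have hq : ∀ x, B (π x) (π x) = 0 := fun x => by
    by_contra h
    exact hc _ h (hv' x).1 (hv' x).2
  have hall : ∀ x, π x = 0 := fun x => H.nd _ fun y => by
    have hadd : π (x + y) = π x + π y := by
      simp only [hπ, map_add, add_div]; module
    have h := hq (x + y)
    rw [hadd] at h
    simp only [map_add, LinearMap.add_apply, hq, H.symm (π y) (π x), zero_add, add_zero] at h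
    have h1 : B (π x) (π y) = 0 := (mul_eq_zero.1
      (show 2 * B (π x) (π y) = 0 by linear_combination h)).resolve_left H.h2
    have h2 : y = π y + (B v y / B v v) • v + (B u y / B u u) • u := by rw [hπ]; module
    rw [h2]
    simp [h1, H.symm _ v, H.symm _ u, (hv' x).1, (hv' x).2]
  have hspan : (⊤ : Submodule K W) ≤ Submodule.span K {v, u} := fun x _ => by
    rw [Submodule.mem_span_pair]
    exact ⟨B v x / B v v, B u x / B u u, by
      have := hall x
      rw [hπ] at this
      linear_combination (norm := module) -this⟩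
  have h1 := Submodule.finrank_mono hspan
  rw [finrank_top] at h1
  classical
  have h2 : finrank K (Submodule.span K ({v, u} : Set W)) ≤ 2 := by
    refine le_trans (finrank_span_le_card _) ?_
    simp only [Set.toFinset_insert, Set.toFinset_singleton]
    exact Finset.card_le_two
  have := H.dim
  omega

/-- An anisotropic vector orthogonal to a given one. -/
theorem Nice.exists_perp_one (H : Nice B) {v : W} (hv : B v v ≠ 0) : ∃ u, B u u ≠ 0 ∧ B v u = 0 := by
  by_contra hc
  push Not at hc
  obtain ⟨π, hπ⟩ : ∃ π : W → W, ∀ x, π x = x - (B v x / B v v) • v := ⟨_, fun _ => rfl⟩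
  have hv' : ∀ x, B v (π x) = 0 := fun x => by simp [hπ, div_mul_cancel₀ _ hv]
  have hq : ∀ x, B (π x) (π x) = 0 := fun x => by
    by_contra h
    exact hc _ h (hv' x)
  have hall : ∀ x, π x = 0 := fun x => H.nd _ fun y => by
    have hadd : π (x + y) = π x + π y := by
      simp only [hπ, map_add, add_div]; module
    have h := hq (x + y)
    rw [hadd] at h
    simp only [map_add, LinearMap.add_apply, hq, H.symm (π y) (π x), zero_add, add_zero] at h
    have h1 : B (π x) (π y) = 0 := (mul_eq_zero.1
      (show 2 * B (π x) (π y) = 0 by linear_combination h)).resolve_left H.h2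
    have h2 : y = π y + (B v y / B v v) • v := by rw [hπ]; module
    rw [h2]
    simp [h1, H.symm _ v, hv' x]
  have hspan : (⊤ : Submodule K W) ≤ Submodule.span K {v} := fun x _ => by
    rw [Submodule.mem_span_singleton]
    exact ⟨B v x / B v v, by
      have := hall x
      rw [hπ] at this
      linear_combination (norm := module) -this⟩
  have h1 := Submodule.finrank_mono hspan
  rw [finrank_top] at h1
  have h2 := finrank_span_le_card (R := K) ({v} : Set W)
  simp at h2
  have := H.dim
  omega

/-- A linear combination of two orthogonal vectors takes every value. -/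
theorem Nice.exists_value (H : Nice B) {v u : W} (hv : B v v ≠ 0) (hu : B u u ≠ 0) (hvu : B v u = 0) (c : K) :
    ∃ p q : K, B (p • v + q • u) (p • v + q • u) = c := by
  obtain ⟨p, q, h⟩ := Cfsg.Agent.Classical.OOmega.exists_rep H.h2 hv hu c
  refine ⟨p, q, ?_⟩
  simp only [map_add, map_smul, LinearMap.add_apply, LinearMap.smul_apply, smul_eq_mul, hvu, H.symm u v]
  linear_combination h

/-- A normal subgroup acting non-centrally contains a product of two commuting reflections. -/
theorem Nice.exists_involution (H : Nice B) {G : Type*} [Group G] (act : G →* (W ≃ₗ[K] W))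
    (hB : ∀ g x y, B (act g x) (act g y) = B x y) (r : W → G)
    (hr : ∀ v, B v v ≠ 0 → ∀ x, act (r v) x = rfn B v x) (hr2 : ∀ v, B v v ≠ 0 → r v * r v = 1)
    (hequiv : ∀ g v, B v v ≠ 0 → g * r v * g⁻¹ = r (act g v))
    (N : Subgroup G) (hN : N.Normal) {m : G} (hm : m ∈ N) (hm1 : ¬ ∀ x, act m x = x) (hm2 : ¬ ∀ x, act m x = -x) :
    ∃ d ∈ N, d * d = 1 ∧ ¬ (∀ x, act d x = x) ∧ ¬ ∀ x, act d x = -x := by
  have hcomm : ∀ a v, a ∈ N → B v v ≠ 0 → r (act a v) * r v ∈ N := fun a v ha hv => by
    have e : a * r v * a⁻¹ * r v = a * (r v * a⁻¹ * (r v)⁻¹) := by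
      rw [inv_eq_of_mul_eq_one_left (hr2 v hv)]; group
    rw [← hequiv a v hv, e]
    exact N.mul_mem ha (hN.conj_mem _ (N.inv_mem ha) _)
  -- two orthogonal vectors finish
  have hfin : ∀ a v, a ∈ N → B v v ≠ 0 → B v (act a v) = 0 →
      ∃ d ∈ N, d * d = 1 ∧ ¬ (∀ x, act d x = x) ∧ ¬ ∀ x, act d x = -x := by
    intro a v ha hv h0
    obtain ⟨w, hw⟩ : ∃ w, w = act a v := ⟨_, rfl⟩
    rw [← hw] at h0
    have hww : B w w ≠ 0 := by rw [hw, hB]; exact hv
    have hfix : act (r v) w = w := by rw [hr v hv, rfn, h0]; simp
    have hcom : r w * r v = r v * r w := by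
      have h1 := hequiv (r v) w hww
      rw [hfix, mul_inv_eq_iff_eq_mul] at h1
      exact h1.symm
    refine ⟨r w * r v, hw ▸ hcomm a v ha hv, ?_, fun h => ?_, fun h => ?_⟩
    · calc r w * r v * (r w * r v) = r w * r v * (r v * r w) := by rw [hcom]
        _ = 1 := by rw [mul_assoc, ← mul_assoc (r v) (r v), hr2 v hv, one_mul, hr2 w hww]
    · have h1 := h v
      rw [map_mul] at h1
      simp only [LinearEquiv.mul_apply, hr v hv, hr w hww, rfn] at h1
      rw [mul_div_assoc, div_self hv, mul_one] at h1
      simp only [map_sub, map_smul, h0, H.symm w v, smul_eq_mul, mul_zero, sub_zero, zero_div, zero_smul] at h1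
      have : (2 : K) • v = 0 := by linear_combination (norm := module) -h1
      exact hv (by rw [(smul_eq_zero.1 this).resolve_left H.h2, map_zero])
    · obtain ⟨t, ht, hvt, hwt⟩ := H.exists_perp hv hww h0
      have h1 := h t
      rw [map_mul] at h1
      simp only [LinearEquiv.mul_apply, hr v hv, hr w hww, rfn, hvt, mul_zero, zero_div, zero_smul,
        sub_zero, hwt] at h1
      have : (2 : K) • t = 0 := by linear_combination (norm := module) h1
      exact ht (by rw [(smul_eq_zero.1 this).resolve_left H.h2, map_zero])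
  -- a moved anisotropic vector
  obtain ⟨v, hv, hmv, hmv'⟩ : ∃ v, B v v ≠ 0 ∧ act m v ≠ v ∧ act m v ≠ -v := by
    by_contra hc
    push Not at hc
    obtain ⟨v₀, hv₀⟩ := H.exists_aniso
    -- all anisotropic vectors share the sign
    have hsame : ∀ (c : K), (c = 1 ∨ c = -1) → ∀ v u, B v v ≠ 0 → B u u ≠ 0 → act m v = c • v → act m u = c • u := by
      intro c hcc v u hv hu hmv
      by_contra hne
      have hmu : act m u = -(c • u) := by
        rcases eq_or_ne (act m u) u with h | h
        · rcases hcc with rfl | rfl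
          · exact absurd (h.trans (one_smul _ u).symm) hne
          · rw [h]; simp
        · rcases hcc with rfl | rfl
          · rw [hc u hu h, one_smul]
          · exact absurd ((hc u hu h).trans (neg_one_smul K u).symm) hne
      have hc1 : c * c = 1 := by rcases hcc with rfl | rfl <;> simp
      have hvu : B v u = 0 := by
        have h := hB m v u
        rw [hmv, hmu] at h
        simp only [map_smul, map_neg, LinearMap.smul_apply, smul_eq_mul] at h
        exact (mul_eq_zero.1 (show 2 * B v u = 0 by linear_combination -h - B v u * hc1)).resolve_left H.h2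
      obtain ⟨t, ht, hvt, hut⟩ := H.exists_perp hv hu hvu
      have hmt : act m t = c • t ∨ act m t = -(c • t) := by
        rcases eq_or_ne (act m t) t with h | h
        · rcases hcc with rfl | rfl
          · left; rw [h, one_smul]
          · right; rw [h]; simp
        · rcases hcc with rfl | rfl
          · right; rw [hc t ht h, one_smul]
          · left; rw [hc t ht h, neg_one_smul]
      -- a combination of a plus and a minus vector
      have key : ∀ a b, B a b = 0 → B a a ≠ 0 → B b b ≠ 0 → act m a = c • a → act m b = -(c • b) →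
          B a a + B b b = 0 := by
        intro a b hab ha hb hma hmb
        by_contra hs
        have hsum : B (a + b) (a + b) ≠ 0 := by
          simp only [map_add, LinearMap.add_apply, hab, H.symm b a, zero_add, add_zero]
          exact hs
        have hb0 : b ≠ 0 := fun h => hb (by rw [h, map_zero])
        have ha0 : a ≠ 0 := fun h => ha (by rw [h, map_zero])
        have hc0 : c ≠ 0 := fun h => one_ne_zero (α := K) (by rw [← hc1, h, mul_zero])
        have hcases : act m (a + b) = c • (a + b) ∨ act m (a + b) = -(c • (a + b)) := by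
          rcases eq_or_ne (act m (a + b)) (a + b) with h | h
          · rcases hcc with rfl | rfl
            · left; rw [h, one_smul]
            · right; rw [h]; simp [add_comm]
          · rcases hcc with rfl | rfl
            · right; rw [hc _ hsum h, one_smul]
            · left; rw [hc _ hsum h, neg_one_smul]
        rw [map_add, hma, hmb] at hcases
        rcases hcases with h | h
        · refine hb0 ((smul_eq_zero.1 (show (2 * c) • b = 0 by
            linear_combination (norm := module) -h)).resolve_left (mul_ne_zero H.h2 hc0))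
        · refine ha0 ((smul_eq_zero.1 (show (2 * c) • a = 0 by
            linear_combination (norm := module) h)).resolve_left (mul_ne_zero H.h2 hc0))
      have h1 := key v u hvu hv hu hmv hmu
      rcases hmt with ht' | ht'
      · have h2 := key t u (by rw [H.symm, hut]) ht hu ht' hmu
        have hsum : B (v + t) (v + t) ≠ 0 := by
          simp only [map_add, LinearMap.add_apply, hvt, H.symm t v, zero_add, add_zero]
          intro h
          exact hv ((mul_eq_zero.1 (show 2 * B v v = 0 by linear_combination h + h1 - h2)).resolve_left H.h2)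
        have h3 := key (v + t) u (by simp [hvu, H.symm t u, hut]) hsum hu (by rw [map_add, hmv, ht', smul_add]) hmu
        simp only [map_add, LinearMap.add_apply, hvt, H.symm t v, zero_add, add_zero] at h3
        exact ht (by linear_combination h3 - h1)
      · have h2 := key v t hvt hv ht hmv ht'
        have hsum : B (u + t) (u + t) ≠ 0 := by
          simp only [map_add, LinearMap.add_apply, hut, H.symm t u, zero_add, add_zero]
          intro h
          exact hv ((mul_eq_zero.1 (show 2 * B v v = 0 by linear_combination h1 + h2 - h)).resolve_left H.h2)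
        have h3 := key v (u + t) (by simp [hvu, hvt]) hv hsum hmv (by rw [map_add, hmu, ht', smul_add, neg_add])
        simp only [map_add, LinearMap.add_apply, hut, H.symm t u, zero_add, add_zero] at h3
        exact ht (by linear_combination h3 - h1)
    have hext : ∀ c : K, (c = 1 ∨ c = -1) → act m v₀ = c • v₀ → ∀ x, act m x = c • x := by
      intro c hcc h0 x
      by_cases hx : B x x = 0
      · obtain ⟨w, hw, hw'⟩ : ∃ w, B w w ≠ 0 ∧ B (x + w) (x + w) ≠ 0 := by
          by_contra hc'
          push Not at hc'
          have e1 := hc' v₀ hv₀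
          have e2 := hc' (-v₀) (by simpa using hv₀)
          simp only [map_add, map_neg, LinearMap.add_apply, LinearMap.neg_apply, hx, H.symm v₀ x] at e1 e2
          exact hv₀ ((mul_eq_zero.1 (show 2 * B v₀ v₀ = 0 by linear_combination e1 + e2)).resolve_left H.h2)
        have e1 := hsame c hcc v₀ _ hv₀ hw' h0
        have e2 := hsame c hcc v₀ w hv₀ hw h0
        rw [map_add, e2, smul_add] at e1
        exact add_right_cancel e1
      · exact hsame c hcc v₀ x hv₀ hx h0
    rcases eq_or_ne (act m v₀) v₀ with h | h
    · exact hm1 fun x => (hext 1 (Or.inl rfl) (by rw [h, one_smul]) x).trans (one_smul _ _)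
    · exact hm2 fun x => (hext (-1) (Or.inr rfl) (by rw [hc v₀ hv₀ h, neg_one_smul]) x).trans (neg_one_smul _ _)
  obtain ⟨w, hw⟩ : ∃ w, w = act m v := ⟨_, rfl⟩
  rw [← hw] at hmv hmv'
  have hww : B w w = B v v := by rw [hw, hB]
  by_cases h0 : B v w = 0
  · exact hfin m v hm hv (hw ▸ h0)
  have hd : r w * r v ∈ N := hw ▸ hcomm m v hm hv
  have hwn : B w w ≠ 0 := hww ▸ hv
  have hdx : ∀ x, B x (act (r w * r v) x) = B x x - 2 / B v v *
      (B v x * B v x + B w x * B w x - 2 * B v w / B v v * B v x * B w x) := fun x => by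
    rw [map_mul, LinearEquiv.mul_apply, hr v hv, hr w hwn]
    simp only [rfn, map_sub, map_smul, smul_eq_mul, hww, H.symm w v, H.symm x v, H.symm x w]
    field_simp
    ring
  by_cases hdeg : B v w * B v w = B v v * B v v
  · -- unipotent
    obtain ⟨ε, hε, hε2⟩ : ∃ ε : K, B v w = ε * B v v ∧ ε * ε = 1 := ⟨B v w / B v v, by rw [div_mul_cancel₀ _ hv],
      by rw [div_mul_div_comm, hdeg, div_self (mul_ne_zero hv hv)]⟩
    obtain ⟨e, he⟩ : ∃ e, e = w - ε • v := ⟨_, rfl⟩
    have he0 : e ≠ 0 := by
      intro h
      rw [he, sub_eq_zero] at h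
      rcases mul_self_eq_one_iff.1 hε2 with rfl | rfl
      · exact hmv (h.trans (one_smul _ _))
      · exact hmv' (h.trans (neg_one_smul _ _))
    obtain ⟨f, hf⟩ : ∃ f, B e f = 1 := by
      by_contra hc
      push Not at hc
      exact he0 (H.nd e fun y => by
        by_contra h
        exact hc ((B e y)⁻¹ • y) (by rw [map_smul, smul_eq_mul, inv_mul_cancel₀ h]))
    have hee : B e e = 0 := by
      rw [he]; simp [hww, H.symm w v, hε]; linear_combination -(B v v) * hε2
    have hev : B e v = 0 := by rw [he]; simp [H.symm w v, hε]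
    obtain ⟨x, hx⟩ : ∃ x, x = f + ((2 / B v v - B f f) / 2) • e := ⟨_, rfl⟩
    have hxx : B x x = 2 / B v v := by
      rw [hx]
      simp only [map_add, map_smul, LinearMap.add_apply, LinearMap.smul_apply, smul_eq_mul, hee, hf, H.symm f e]
      field_simp [H.h2]
      ring
    have hex : B e x = 1 := by rw [hx]; simp [hee, hf]
    have hwx : B w x = ε * B v x + 1 := by
      rw [show w = e + ε • v by rw [he]; abel]; simp [hex]; ring
    refine hfin (r w * r v) x hd (by rw [hxx]; exact div_ne_zero H.h2 hv) ?_
    rw [hdx, hxx, hwx, hε]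
    field_simp
    linear_combination (2 * B v x ^ 2) * hε2
  · -- semisimple
    obtain ⟨u, hu⟩ : ∃ u, u = w - (B v w / B v v) • v := ⟨_, rfl⟩
    have hvu : B v u = 0 := by rw [hu]; simp [div_mul_cancel₀ _ hv]
    have huu : B u u = B v v - B v w * B v w / B v v := by
      rw [hu]; simp [hww, H.symm w v, div_mul_cancel₀ _ hv]; ring
    have huu0 : B u u ≠ 0 := by
      rw [huu, sub_ne_zero, ne_eq, eq_div_iff hv]
      exact fun h => hdeg h.symm
    obtain ⟨τ, hτ⟩ : ∃ τ, τ = 2 * (B v w * B v w) / (B v v * B v v) - 1 := ⟨_, rfl⟩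
    by_cases hτ0 : τ = 0
    · refine hfin (r w * r v) v hd hv ?_
      rw [hdx, H.symm w v]
      field_simp at hτ ⊢
      rw [hτ0] at hτ
      linear_combination -hτ
    obtain ⟨t, ht, hvt, hut⟩ := H.exists_perp hv huu0 hvu
    have hwt : B w t = 0 := by
      rw [show w = u + (B v w / B v v) • v by rw [hu]; abel]; simp [hut, hvt]
    obtain ⟨p, q, hpq⟩ := H.exists_value hv huu0 hvu (-(B t t) / τ)
    obtain ⟨x, hx⟩ : ∃ x, x = p • v + q • u + t := ⟨_, rfl⟩
    have hq1 : B x x = -(B t t) / τ + B t t := by
      rw [← hpq, hx]; simp [hvt, hut, H.symm t v, H.symm t u]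
    refine hfin (r w * r v) x hd ?_ ?_
    · rw [hq1]
      intro h
      field_simp at h
      have hτ1 : τ = 1 := by
        rcases mul_eq_zero.1 (show B t t * (τ - 1) = 0 by linear_combination h) with h' | h'
        · exact absurd h' ht
        · exact sub_eq_zero.1 h'
      apply hdeg
      rw [hτ1] at hτ
      field_simp at hτ
      exact (mul_left_cancel₀ H.h2 (by linear_combination hτ)).symm
    · have hbv : B v x = p * B v v := by rw [hx]; simp [hvu, hvt]
      have hbw : B w x = p * B v w + q * B u u := by
        have hwu : B w u = B u u := by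
          conv_lhs => rw [show w = u + (B v w / B v v) • v by rw [hu]; abel]
          simp [hvu]
        rw [hx]; simp [hwt, hwu, H.symm w v]
      have hP : B (p • v + q • u) (p • v + q • u) = p * p * B v v + q * q * B u u := by
        simp [hvu, H.symm u v]; ring
      rw [hP, huu, eq_div_iff hτ0, hτ] at hpq
      rw [hdx, hq1, hbv, hbw, huu]
      rw [← hq1, hx]
      simp only [map_add, map_smul, LinearMap.add_apply, LinearMap.smul_apply, smul_eq_mul, hvt, hut, H.symm t v,
        H.symm t u, hvu, H.symm u v, huu]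
      field_simp at hpq ⊢
      ring_nf at hpq ⊢
      linear_combination hpq

/-- A singular vector exists. -/
theorem Nice.exists_singular (H : Nice B) : ∃ e, e ≠ 0 ∧ B e e = 0 := by
  obtain ⟨v, hv⟩ := H.exists_aniso
  obtain ⟨u, hu, hvu⟩ := H.exists_perp_one hv
  obtain ⟨t, ht, hvt, hut⟩ := H.exists_perp hv hu hvu
  obtain ⟨p, q, hpq⟩ := H.exists_value hu ht hut (-(B v v))
  refine ⟨v + (p • u + q • t), fun h => hv ?_, ?_⟩
  · have h1 := congrArg (B v) h
    simpa [hvu, hvt] using h1
  · have hy : B v (p • u + q • t) = 0 := by simp [hvu, hvt]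
    generalize p • u + q • t = y at hpq hy ⊢
    simp [hy, H.symm y v, hpq]

/-- The fourth power of a unipotent product of two reflections. -/
theorem Nice.iter_formula (H : Nice B) {e v : W} (he : B e e = 0) (hev : B e v = 0) (hv : B v v ≠ 0) (x : W) :
    (fun y => rfn B (v + e) (rfn B v y))^[4] x =
      x - (8 * B e x / B v v) • v + (8 * (B v x - 4 * B e x) / B v v) • e := by
  have h2 := H.h2
  have h1 : B (v + e) (v + e) = B v v := by simp [he, hev, H.symm v e]
  have hone : ∀ x, rfn B (v + e) (rfn B v x) =
      x - (2 * B e x / B v v) • v + (2 * (B v x - B e x) / B v v) • e := by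
    intro x
    simp only [rfn, h1]
    simp only [map_add, map_sub, map_smul, LinearMap.add_apply, smul_eq_mul, hev, mul_zero, sub_zero]
    match_scalars <;> field_simp <;> ring
  simp only [Function.iterate_succ, Function.iterate_zero, Function.comp_apply, id_eq, hone]
  simp only [map_add, map_sub, map_smul, smul_eq_mul, hev, he, H.symm v e, mul_zero, sub_zero, add_zero]
  match_scalars <;> field_simp <;> ring

/-- A singular vector has an anisotropic vector orthogonal to it and to some singular partner. -/
theorem Nice.exists_frame (H : Nice B) {e : W} (he0 : e ≠ 0) (he : B e e = 0) :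
    ∃ f v, f ≠ 0 ∧ B f f = 0 ∧ B e f = 1 ∧ B v v ≠ 0 ∧ B e v = 0 ∧ B f v = 0 := by
  have h2 := H.h2
  obtain ⟨g, hg⟩ : ∃ g, B e g = 1 := by
    by_contra hc
    push Not at hc
    exact he0 (H.nd e fun y => by
      by_contra h
      exact hc ((B e y)⁻¹ • y) (by rw [map_smul, smul_eq_mul, inv_mul_cancel₀ h]))
  obtain ⟨f, hfdef⟩ : ∃ f, f = g - (B g g / 2) • e := ⟨_, rfl⟩
  have hef : B e f = 1 := by rw [hfdef]; simp [he, hg]
  have hff : B f f = 0 := by rw [hfdef]; simp [he, hg, H.symm g e]; field_simp; ring
  have hf0 : f ≠ 0 := fun h => by rw [h, map_zero] at hef; exact zero_ne_one hef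
  obtain ⟨p, hp'⟩ : ∃ p, p = f + (1 / 2 : K) • e := ⟨_, rfl⟩
  obtain ⟨n, hn⟩ : ∃ n, n = f - (1 / 2 : K) • e := ⟨_, rfl⟩
  have hpp : B p p = 1 := by rw [hp']; simp [he, hef, hff, H.symm f e]; field_simp; ring
  have hnn : B n n = -1 := by rw [hn]; simp [he, hef, hff, H.symm f e]; field_simp; ring
  have hpn : B p n = 0 := by rw [hp', hn]; simp [he, hef, hff, H.symm f e]
  obtain ⟨v, hv, hpv, hnv⟩ := H.exists_perp (v := p) (u := n) (by simp [hpp]) (by simp [hnn]) hpn
  refine ⟨f, v, hf0, hff, hef, hv, ?_, ?_⟩
  · have : B (p - n) v = 0 := by simp [hpv, hnv]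
    rwa [show p - n = e by rw [hp', hn]; match_scalars <;> field_simp <;> ring] at this
  · have : B (p + n) v = 0 := by simp [hpv, hnv]
    rw [show p + n = (2 : K) • f by rw [hp', hn]; match_scalars <;> field_simp <;> ring, map_smul,
      LinearMap.smul_apply, smul_eq_mul] at this
    exact (mul_eq_zero.1 this).resolve_left h2

/-- The moved vectors of the fourth powers span. -/
theorem Nice.span_images (H : Nice B) (S : AddSubgroup W)
    (hS : ∀ v w, B v v ≠ 0 → B w w ≠ 0 → ∀ x, (fun y => rfn B w (rfn B v y))^[4] x - x ∈ S) (x : W) : x ∈ S := by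
  have h2 := H.h2
  have h8 : (8 : K) ≠ 0 := by
    rw [show (8 : K) = 2 * 2 * 2 by norm_num]
    exact mul_ne_zero (mul_ne_zero h2 h2) h2
  have hsing : ∀ e, B e e = 0 → ∀ c : K, c • e ∈ S := by
    intro e he c
    rcases eq_or_ne e 0 with rfl | he0
    · rw [smul_zero]; exact S.zero_mem
    obtain ⟨f, v, -, -, -, hv, hev, -⟩ := H.exists_frame he0 he
    have h := hS v (v + e) hv (by simpa [he, hev, H.symm v e] using hv) ((c / 8) • v)
    rw [H.iter_formula he hev hv] at h
    convert h using 1
    simp only [map_smul, smul_eq_mul, hev, mul_zero, sub_zero, zero_div]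
    match_scalars <;> field_simp <;> ring
  obtain ⟨e, he0, he⟩ := H.exists_singular
  obtain ⟨f, v, -, hff, hef, hv, hev, hfv⟩ := H.exists_frame he0 he
  have key : ∀ v, B v v ≠ 0 → B e v = 0 → B f v = 0 → v ∈ S := by
    intro v hv hev hfv
    obtain ⟨w, hw⟩ : ∃ w, w = v - (B v v / 2) • f + e := ⟨_, rfl⟩
    have hw0 : B w w = 0 := by
      rw [hw]; simp [he, hff, hef, hev, hfv, H.symm f e, H.symm v e, H.symm v f]; field_simp; ring
    have : v = (1 : K) • w + (B v v / 2) • f - (1 : K) • e := by rw [hw]; module
    rw [this]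
    exact S.sub_mem (S.add_mem (hsing w hw0 1) (hsing f hff _)) (hsing e he 1)
  obtain ⟨y, hy⟩ : ∃ y, y = x - B f x • e - B e x • f := ⟨_, rfl⟩
  have hey : B e y = 0 := by rw [hy]; simp [he, hef]
  have hfy : B f y = 0 := by rw [hy]; simp [hff, hef, H.symm f e]
  have hyS : y ∈ S := by
    by_cases hyy : B y y = 0
    · simpa using hsing y hyy 1
    · exact key y hyy hey hfy
  rw [show x = y + B f x • e + B e x • f by rw [hy]; abel]
  exact S.add_mem (S.add_mem hyS (hsing e he _)) (hsing f hff _)

/-- Only scalars commute with the fourth powers of products of two reflections. -/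
theorem Nice.scalar_of_commute (H : Nice B) (τ : K →+* K) (a : W → W) (hadd : ∀ x y, a (x + y) = a x + a y)
    (hsm : ∀ (c : K) x, a (c • x) = τ c • a x) (hinj : ∀ x, a x = 0 → x = 0)
    (hcomm : ∀ v w, B v v ≠ 0 → B w w ≠ 0 → ∀ x,
      a ((fun y => rfn B w (rfn B v y))^[4] x) = (fun y => rfn B w (rfn B v y))^[4] (a x)) :
    (∀ c, τ c = c) ∧ ∃ lam : K, ∀ x, a x = lam • x := by
  have h2 := H.h2
  have h8 : (8 : K) ≠ 0 := by
    rw [show (8 : K) = 2 * 2 * 2 by norm_num]
    exact mul_ne_zero (mul_ne_zero h2 h2) h2
  -- the unipotent products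
  have hiter : ∀ e v, B e e = 0 → B e v = 0 → B v v ≠ 0 → ∀ x, (fun y => rfn B (v + e) (rfn B v y))^[4] x =
      x - (8 * B e x / B v v) • v + (8 * (B v x - 4 * B e x) / B v v) • e := fun _ _ he hev hv => H.iter_formula he hev hv
  have hpair : ∀ e v, B e e = 0 → B e v = 0 → B v v ≠ 0 →
      B (v + e) (v + e) ≠ 0 := fun e v he hev hv => by simpa [he, hev, H.symm v e] using hv
  have a0 : a 0 = 0 := by simpa using hadd 0 0
  have aneg : ∀ x, a (-x) = -a x := fun x => by
    rw [← neg_one_smul K x, hsm, map_neg, map_one, neg_one_smul]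
  have asub : ∀ x y, a (x - y) = a x - a y := fun x y => by rw [sub_eq_add_neg, hadd, aneg, sub_eq_add_neg]
  -- singular vectors are eigenvectors and the action is linear
  have hline : ∀ e, e ≠ 0 → B e e = 0 → ∃ lam : K, a e = lam • e ∧
      ∀ v, B v v ≠ 0 → B e v = 0 → B e (a v) = 0 ∧ B v (a v) = lam * B v v := by
    intro e he0 he
    -- an anisotropic vector in the perp
    obtain ⟨f, hf⟩ : ∃ f, B e f = 1 := by
      by_contra hc
      push Not at hc
      exact he0 (H.nd e fun y => by
        by_contra h
        exact hc ((B e y)⁻¹ • y) (by rw [map_smul, smul_eq_mul, inv_mul_cancel₀ h]))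
    have hind : ∀ v (p q : K), B v v ≠ 0 → B e v = 0 → p • v + q • e = 0 → p = 0 ∧ q = 0 := by
      intro v p q hv hev h
      have h1 := congrArg (B v) h
      simp [hev, H.symm v e] at h1
      have hp : p = 0 := h1.resolve_right hv
      rw [hp, zero_smul, zero_add] at h
      exact ⟨hp, (smul_eq_zero.1 h).resolve_right he0⟩
    have hae : ∀ v, B v v ≠ 0 → B e v = 0 → B e (a e) = 0 ∧ B v (a e) = 0 := by
      intro v hv hev
      have h := hcomm v (v + e) hv (hpair e v he hev hv) e
      rw [hiter e v he hev hv, hiter e v he hev hv, he, H.symm v e, hev] at h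
      simp at h
      obtain ⟨h1, h2'⟩ := hind v (-(8 * B e (a e) / B v v)) (8 * (B v (a e) - 4 * B e (a e)) / B v v) hv hev
        (by linear_combination (norm := module) -h)
      have h3 : B e (a e) = 0 := by
        rw [neg_eq_zero, div_eq_zero_iff, mul_eq_zero] at h1
        exact (h1.resolve_right hv).resolve_left h8
      refine ⟨h3, ?_⟩
      rw [h3, mul_zero, sub_zero, div_eq_zero_iff, mul_eq_zero] at h2'
      exact (h2'.resolve_right hv).resolve_left h8
    obtain ⟨v₀, hv₀, hev₀⟩ : ∃ v, B v v ≠ 0 ∧ B e v = 0 := by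
      obtain ⟨f', v, -, -, -, hv, hev, -⟩ := H.exists_frame he0 he
      exact ⟨v, hv, hev⟩
    have hperp : ∀ v, B e v = 0 → B v (a e) = 0 := by
      intro v hev
      by_cases hv : B v v = 0
      · have h1 := (hae v₀ hv₀ hev₀).2
        have hw : ∃ c : K, c ≠ 0 ∧ B (v + c • v₀) (v + c • v₀) ≠ 0 := by
          by_contra hc
          push Not at hc
          have e1 := hc 1 one_ne_zero
          have e2 := hc (-1) (neg_ne_zero.2 one_ne_zero)
          simp [hv, H.symm v₀ v] at e1 e2
          exact hv₀ ((mul_eq_zero.1 (show 2 * B v₀ v₀ = 0 by linear_combination e1 + e2)).resolve_left h2)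
        obtain ⟨c, -, hw⟩ := hw
        have h3 := (hae _ hw (by simp [hev, hev₀])).2
        simpa [h1] using h3
      · exact (hae v hv hev).2
    have hlam : a e = B f (a e) • e := by
      refine sub_eq_zero.1 (H.nd _ fun y => ?_)
      have h1 := hperp (y - B e y • f) (by simp [hf])
      simp [H.symm (a e) y, H.symm e y] at h1 ⊢
      linear_combination h1
    refine ⟨B f (a e), hlam, fun v hv hev => ?_⟩
    have h := hcomm v (v + e) hv (hpair e v he hev hv) v
    rw [hiter e v he hev hv, hiter e v he hev hv, hev] at h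
    simp only [mul_zero, zero_div, zero_smul, sub_zero] at h
    rw [hadd, hsm, hlam, smul_smul, mul_div_cancel_right₀ _ hv, map_ofNat] at h
    obtain ⟨h1, h3⟩ := hind v (8 * B e (a v) / B v v)
      (8 * B f (a e) - 8 * (B v (a v) - 4 * B e (a v)) / B v v) hv hev (by linear_combination (norm := module) h)
    have h4 : B e (a v) = 0 := by
      rw [div_eq_zero_iff, mul_eq_zero] at h1
      exact (h1.resolve_right hv).resolve_left h8
    refine ⟨h4, ?_⟩
    rw [h4] at h3
    field_simp at h3
    refine mul_left_cancel₀ h8 ?_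
    linear_combination -h3
  obtain ⟨e, he0, he⟩ := H.exists_singular
  obtain ⟨f, v, hf0, hff, hef, hv, hev, hfv⟩ := H.exists_frame he0 he
  obtain ⟨lam, hlam, hlv⟩ := hline e he0 he
  have hτ : ∀ c, τ c = c := by
    intro c
    rcases eq_or_ne c 0 with rfl | hc
    · exact map_zero τ
    rcases eq_or_ne lam 0 with h | h
    · exact absurd (hinj e (by rw [hlam, h, zero_smul])) he0
    · have h1 := (hlv v hv hev).2
      have h3 := (hlv (c • v) (by simp [hc, hv]) (by simp [hev])).2
      rw [hsm] at h3
      simp only [map_smul, LinearMap.smul_apply, smul_eq_mul, h1] at h3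
      exact mul_right_cancel₀ (mul_ne_zero (mul_ne_zero hc h) hv) (by linear_combination h3)
  refine ⟨hτ, lam, ?_⟩
  have hsmul : ∀ (c : K) x, a (c • x) = c • a x := fun c x => by rw [hsm, hτ]
  have key : ∀ v, B v v ≠ 0 → B e v = 0 → B f v = 0 → a v = lam • v ∧ a f = lam • f := by
    intro v hv hev hfv
    obtain ⟨lf, hlf, hlfv⟩ := hline f hf0 hff
    obtain ⟨w, hw⟩ : ∃ w, w = v - (B v v / 2) • f + e := ⟨_, rfl⟩
    have hw0 : B w w = 0 := by
      rw [hw]; simp [he, hff, hef, hev, hfv, H.symm f e, H.symm v e, H.symm v f]; field_simp; ring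
    have hwn : w ≠ 0 := fun h0 => hv (by
      have h3 := congrArg (B v) (hw ▸ h0)
      simpa [H.symm v e, H.symm v f, hev, hfv] using h3)
    obtain ⟨μ, hμ, -⟩ := hline w hwn hw0
    rw [hw, hadd, asub, hsmul, hlf, hlam] at hμ
    have e1 := congrArg (B e) hμ
    have e2 := congrArg (B f) hμ
    simp [he, hff, hef, hev, hfv, (hlv v hv hev).1, (hlfv v hv hfv).1, H.symm f e] at e1 e2
    have hlfμ : lf = μ := by
      have hv2 : B v v / 2 ≠ 0 := div_ne_zero hv h2
      exact mul_left_cancel₀ hv2 (by linear_combination e1)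
    subst e2
    refine ⟨?_, by rw [hlf, hlfμ]⟩
    rw [hlfμ] at hμ
    linear_combination (norm := module) hμ
  intro x
  obtain ⟨y, hy⟩ : ∃ y, y = x - B f x • e - B e x • f := ⟨_, rfl⟩
  have hey : B e y = 0 := by rw [hy]; simp [he, hef]
  have hfy : B f y = 0 := by rw [hy]; simp [hff, hef, H.symm f e]
  have hay : a y = lam • y := by
    by_cases hyy : B y y = 0
    · obtain ⟨c, hc⟩ : ∃ c : K, B (y + c • v) (y + c • v) ≠ 0 := by
        by_contra hc
        push Not at hc
        have e1 := hc 1
        have e2 := hc (-1)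
        simp [hyy, H.symm v y] at e1 e2
        exact hv ((mul_eq_zero.1 (show 2 * B v v = 0 by linear_combination e1 + e2)).resolve_left h2)
      have h3 := (key _ hc (by simp [hey, hev]) (by simp [hfy, hfv])).1
      rw [hadd, hsmul, (key v hv hev hfv).1, smul_add] at h3
      exact add_right_cancel (h3.trans (by rw [smul_comm c lam v]))
    · exact (key y hyy hey hfy).1
  calc a x = a (y + B f x • e + B e x • f) := by rw [hy]; congr 1; abel
    _ = lam • x := by rw [hadd, hadd, hsmul, hsmul, hay, hlam, (key v hv hev hfv).2, hy]; module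

end Cfsg.Agent.Small.OrthAut.GraphCore
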