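import Cfsg.Agent.Lib.Small.LocalBalance
import Cfsg.Agent.Lib.Small.OrthAut.BalanceField
import Cfsg.Agent.Lib.Small.Orth.SimRoot
import Cfsg.Agent.Lib.Small.OrthAut.GraphAbstract

/-!
The centraliser of an involutory graph automorphism of an even-dimensional orthogonal group in odd
characteristic has trivial odd core.
-/

set_option autoImplicit false
set_option linter.unusedSectionVars false
set_option linter.style.haveILetI false

namespace Cfsg.Agent.Small.OrthAut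

open Module QuadraticMap Matrix
open Cfsg.Agent.Classical
open Cfsg.Agent.Classical.OCount Cfsg.Agent.Classical.ORefl Cfsg.Agent.Classical.OOmega
open Cfsg.Agent.Small.Orth (GO incl scalarG rho mult SimSetup prodRf)

variable {F : Type*} [Field F] [Fintype F] {ι : Type} [Fintype ι] [DecidableEq ι] {Q : QuadraticForm F (ι → F)} {N : ℕ}

/-- The isometries commuting with a similitude. -/
def centSub (g : ↥(GO ⇑Q)) : Subgroup ↥(Cfsg.isometryGroup F ⇑Q) :=
  (Subgroup.centralizer {(g : GL ι F)}).comap (Cfsg.isometryGroup F ⇑Q).subtype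

theorem centSub_comm (g : ↥(GO ⇑Q)) (h : ↥(centSub g)) (x : ι → F) :
    h.1.1.1 *ᵥ (g.1.1 *ᵥ x) = g.1.1 *ᵥ (h.1.1.1 *ᵥ x) := by
  have e : (h.1 : GL ι F) * g.1 = g.1 * h.1 := Subgroup.mem_centralizer_singleton_iff.1 h.2
  rw [Matrix.mulVec_mulVec, Matrix.mulVec_mulVec, ← Units.val_mul, ← Units.val_mul, e]

theorem centSub_ext (g : ↥(GO ⇑Q)) {h k : ↥(centSub g)} (e : ∀ x, h.1.1.1 *ᵥ x = k.1.1.1 *ᵥ x) : h = k :=
  Subtype.ext (Subtype.ext (Units.ext (Matrix.ext_of_mulVec_single fun i => e _)))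

theorem centSub_mul (g : ↥(GO ⇑Q)) (h k : ↥(centSub g)) (x : ι → F) :
    (h * k).1.1.1 *ᵥ x = h.1.1.1 *ᵥ (k.1.1.1 *ᵥ x) := by
  rw [Matrix.mulVec_mulVec, ← Units.val_mul]; rfl

theorem centSub_one (g : ↥(GO ⇑Q)) (x : ι → F) : (1 : ↥(centSub g)).1.1.1 *ᵥ x = x := Matrix.one_mulVec x

theorem isometry_sq_mem_omega (S : SimSetup Q N) (h : ↥(Cfsg.isometryGroup F ⇑Q)) :
    h * h ∈ Cfsg.Omega F ⇑Q := by
  obtain ⟨vs, hvs, hM⟩ := Orth.exists_list_mat rfl S.pnd S.gen h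
  refine (Orth.mem_omega rfl S.pnd (h * h) (vs ++ vs)
    (fun v hv => (List.mem_append.1 hv).elim (hvs v) (hvs v)) fun x => ?_).2 ⟨?_, ?_⟩
  · rw [Subgroup.coe_mul, Units.val_mul, ← Matrix.mulVec_mulVec, hM, hM, Orth.prodRf_append]
    rfl
  · rw [List.length_append]; exact ⟨_, rfl⟩
  · rw [List.map_append, List.prod_append]; exact ⟨_, rfl⟩

section Component

variable {g : ↥(GO ⇑Q)} {K W : Type*} [Field K] [Finite K] [AddCommGroup W] [Module K W] [FiniteDimensional K W]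
  {B : W →ₗ[K] W →ₗ[K] K} (H : GraphCore.Nice B) (ι₀ : W →+ (ι → F)) (p : (ι → F) →+ W)
  (hpι : ∀ w, p (ι₀ w) = w) (act : ↥(centSub g) →* (W ≃ₗ[K] W))
  (hact : ∀ h w, h.1.1.1 *ᵥ ι₀ w = ι₀ (act h w)) (hp : ∀ h x, p (h.1.1.1 *ᵥ x) = act h (p x))
  (hB : ∀ h x y, B (act h x) (act h y) = B x y) (r : W → ↥(centSub g))
  (hr : ∀ v, B v v ≠ 0 → ∀ x, (r v).1.1.1 *ᵥ x = x - ι₀ ((2 * B v (p x) / B v v) • v))

include hpι hp hr in
theorem comp_act_refl {v : W} (hv : B v v ≠ 0) (w : W) : act (r v) w = GraphCore.rfn B v w := by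
  have h := congrArg p (hr v hv (ι₀ w))
  rw [hp, map_sub, hpι, hpι] at h
  exact h

include H hpι hact hp hB hr in
/-- Normal subgroups acting non-centrally on a component contain suitable involutions. -/
theorem comp_involution (Nn : Subgroup ↥(centSub g)) (hN : Nn.Normal) {m : ↥(centSub g)} (hm : m ∈ Nn)
    (hm1 : ¬ ∀ x, act m x = x) (hm2 : ¬ ∀ x, act m x = -x) :
    ∃ d ∈ Nn, d * d = 1 ∧ ¬ (∀ x, act d x = x) ∧ ¬ ∀ x, act d x = -x := by
  refine H.exists_involution act hB r (fun v hv => comp_act_refl ι₀ p hpι act hp r hr hv) (fun v hv => ?_)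
    (fun h v hv => ?_) Nn hN hm hm1 hm2
  · refine centSub_ext g fun x => ?_
    rw [centSub_mul, centSub_one, hr v hv, hr v hv, map_sub, hpι]
    simp only [map_sub, map_smul, smul_eq_mul]
    rw [sub_sub, ← map_add, ← add_smul, sub_eq_self]
    refine (congrArg ι₀ ?_).trans (map_zero ι₀)
    convert zero_smul K v using 2
    field_simp
    ring
  · rw [mul_inv_eq_iff_eq_mul]
    refine centSub_ext g fun x => ?_
    have hv' : B (act h v) (act h v) ≠ 0 := by rwa [hB]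
    rw [centSub_mul, centSub_mul, hr v hv, hr _ hv', Matrix.mulVec_sub, hact, map_smul, hp, hB, hB]

include H hpι hact hp hr in
/-- A semisimilitude commuting with the fourth powers stabilises a component and acts on it by a scalar. -/
theorem comp_scalar (a : ↥(Gam Q))
    (hfix : ∀ h : ↥(centSub g), ∀ x, a.1.1 ((h * h * (h * h)).1.1.1 *ᵥ x) = (h * h * (h * h)).1.1.1 *ᵥ a.1.1 x)
    (τ : K →+* K) (hsm : ∀ (k : K) w, p (a.1.1 (ι₀ (k • w))) = τ k • p (a.1.1 (ι₀ w))) :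
    (∀ k, τ k = k) ∧ ∃ lam : K, ∀ w, a.1.1 (ι₀ w) = ι₀ (lam • w) := by
  have a0 : a.1.1 0 = 0 := by simpa using a.2.1 0 0
  let aH : (ι → F) →+ (ι → F) := AddMonoidHom.mk' (⇑a.1.1) a.2.1
  -- the powers on the component
  have hword : ∀ v w, B v v ≠ 0 → B w w ≠ 0 → ∀ u,
      act ((r w * r v) * (r w * r v) * ((r w * r v) * (r w * r v))) u =
        (fun y => GraphCore.rfn B w (GraphCore.rfn B v y))^[4] u := by
    intro v w hv hw u
    simp only [map_mul, LinearEquiv.mul_apply, comp_act_refl ι₀ p hpι act hp r hr hv,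
      comp_act_refl ι₀ p hpι act hp r hr hw, Function.iterate_succ, Function.iterate_zero, Function.comp_apply,
      id_eq]
  -- the component is stable
  have hmove : ∀ v, B v v ≠ 0 → ∀ x, ∃ u, (r v).1.1.1 *ᵥ x - x = ι₀ u := fun v hv x =>
    ⟨-((2 * B v (p x) / B v v) • v), by rw [hr v hv, map_neg]; abel⟩
  have hmove4 : ∀ v w, B v v ≠ 0 → B w w ≠ 0 → ∀ x, ∃ u,
      ((r w * r v) * (r w * r v) * ((r w * r v) * (r w * r v))).1.1.1 *ᵥ x - x = ι₀ u := by
    intro v w hv hw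
    have hcomp : ∀ h k : ↥(centSub g), (∀ x, ∃ u, h.1.1.1 *ᵥ x - x = ι₀ u) → (∀ x, ∃ u, k.1.1.1 *ᵥ x - x = ι₀ u) →
        ∀ x, ∃ u, (h * k).1.1.1 *ᵥ x - x = ι₀ u := fun h k hh hk x => by
      obtain ⟨u, hu⟩ := hh (k.1.1.1 *ᵥ x)
      obtain ⟨u', hu'⟩ := hk x
      exact ⟨u + u', by rw [centSub_mul, map_add, ← hu, ← hu']; abel⟩
    have h1 := hcomp _ _ (hmove w hw) (hmove v hv)
    exact hcomp _ _ (hcomp _ _ h1 h1) (hcomp _ _ h1 h1)
  have hstab : ∀ w, ι₀ (p (a.1.1 (ι₀ w))) = a.1.1 (ι₀ w) := fun w => by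
    have hmem : w ∈ ι₀.range.comap (aH.comp ι₀) := H.span_images _ (fun v w' hv hw' u => by
      obtain ⟨u', hu'⟩ := hmove4 v w' hv hw' (a.1.1 (ι₀ u))
      refine ⟨u', ?_⟩
      rw [map_sub, ← hu', ← hfix, hact, hword v w' hv hw']
      rfl) w
    obtain ⟨u, hu⟩ := hmem
    have hu' : ι₀ u = a.1.1 (ι₀ w) := hu
    rw [← hu', hpι]
  obtain ⟨hτ, lam, hlam⟩ := H.scalar_of_commute τ (fun w => p (a.1.1 (ι₀ w)))
    (fun x y => by rw [map_add, a.2.1, map_add]) hsm (fun w hw => by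
      have h1 : a.1.1 (ι₀ w) = a.1.1 0 := by rw [← hstab w, hw, map_zero, a0]
      rw [← hpι w, a.1.1.injective h1, map_zero]) (fun v w hv hw u => by
      show p (a.1.1 (ι₀ _)) = (fun y => GraphCore.rfn B w (GraphCore.rfn B v y))^[4] (p (a.1.1 (ι₀ u)))
      rw [← hword v w hv hw, ← hword v w hv hw, ← hact, hfix, hp])
  exact ⟨hτ, lam, fun w => by rw [← hstab w]; exact congrArg ι₀ (hlam w)⟩

end Component

/-- A root of negative sign has multiplier equal to its square. -/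
theorem root_data_sim (S : SimSetup Q N) (g : ↥(GO ⇑Q)) (hgd : S.delta g ≠ 1) {μ : F}
    (hg2 : ∀ v, g.1.1 *ᵥ (g.1.1 *ᵥ v) = μ • v) : μ = (mult g : F) ∧ (IsSquare (mult g : F) ∨ Odd N) := by
  have hdet : g.1.1.det ≠ (mult g : F) ^ N := fun e => hgd ((S.delta_eq_one g).2 e)
  have hg : ∀ v, Q (g.1.1 *ᵥ v) = (mult g : F) * Q v := Orth.mult_spec g
  obtain ⟨c, hc⟩ : ∃ c, c = (mult g : F) := ⟨_, rfl⟩
  have hc0 : c ≠ 0 := hc ▸ Units.ne_zero _
  rw [← hc] at hdet hg ⊢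
  have hd : ∀ ν : F, ¬ IsSquare ν → μ = ν → g.1.1.det = (-ν) ^ N := fun ν hν e => by
    rw [← LinearMap.det_toLin' g.1.1]
    refine Orth.det_of_sq_nonsquare hν _ (fun v => ?_) ((Module.finrank_fintype_fun_eq_card F).trans S.hcard)
    rw [Matrix.toLin'_apply, Matrix.toLin'_apply, hg2, e]
  obtain ⟨v₀, hv₀⟩ := S.exists_nz
  have hcμ : μ = c ∨ μ = -c := by
    have h1 := hg (g.1.1 *ᵥ v₀)
    rw [hg2, hg, QuadraticMap.map_smul, smul_eq_mul] at h1
    have h3 : (μ - c) * (μ + c) = 0 := mul_right_cancel₀ hv₀ (by linear_combination h1)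
    rcases mul_eq_zero.1 h3 with h | h
    · exact Or.inl (sub_eq_zero.1 h)
    · exact Or.inr (eq_neg_of_add_eq_zero_left h)
  rcases hcμ with hμ | hμ
  · refine ⟨hμ, or_iff_not_imp_left.2 fun hs => ?_⟩
    by_contra ho
    exact hdet ((hd c hs hμ).trans ((Nat.not_odd_iff_even.1 ho).neg_pow c))
  exfalso
  by_cases hneg : IsSquare (-c)
  · obtain ⟨a, ha⟩ := hneg
    have ha0 : a ≠ 0 := fun e => neg_ne_zero.2 hc0 (by rw [ha, e, mul_zero])
    have hμa : μ = a * a := hμ.trans ha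
    have hts : ∀ b : F, μ = b * b → finrank F (End.eigenspace (Matrix.toLin' g.1.1) b) ≤ N := by
      intro b hb
      have hz : ∀ u ∈ End.eigenspace (Matrix.toLin' g.1.1) b, Q u = 0 := fun u hu => by
        have hgu : g.1.1 *ᵥ u = b • u := by
          have := End.mem_eigenspace_iff.1 hu
          rwa [Matrix.toLin'_apply] at this
        have h1 := hg u
        rw [hgu, QuadraticMap.map_smul, smul_eq_mul, ← hb, hμ] at h1
        exact (mul_eq_zero.1 (show (2 * c) * Q u = 0 by linear_combination -h1)).resolve_left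
          (mul_ne_zero S.h2 hc0)
      have h1 := Submodule.finrank_mono (Witt.le_orth Q hz)
      rw [LinearMap.BilinForm.finrank_orthogonal (nondeg S.pnd), Module.finrank_fintype_fun_eq_card, S.hcard] at h1
      omega
    obtain ⟨h1, hdt⟩ := Orth.det_of_eigen S.h2 (fun v => hμa ▸ hg2 v) ha0
    have h3 := hts a hμa
    have h4 := hts (-a) (by rw [hμa]; ring)
    have h1' := h1.trans S.hcard
    refine hdet (hdt.trans ?_)
    rw [show finrank F (End.eigenspace (Matrix.toLin' g.1.1) a) = N by omega,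
      show finrank F (End.eigenspace (Matrix.toLin' g.1.1) (-a)) = N by omega, ← mul_pow]
    congr 1
    linear_combination ha
  · exact hdet ((hd _ hneg hμ).trans (by rw [neg_neg]))

variable (S : SimSetup Q N) (T : Setup Q)

theorem rho_ne_one_of (g : ↥(GO ⇑Q)) (hker : (rho ⇑Q).ker = Orth.scalarSub ⇑Q) (h : ↥(centSub g)) {x : ι → F}
    (hx1 : h.1.1.1 *ᵥ x ≠ x) (hx2 : h.1.1.1 *ᵥ x ≠ -x) {v₀ : ι → F} (hv₀ : Q v₀ ≠ 0) :
    rho ⇑Q (incl ⇑Q h.1) ≠ 1 := fun e => by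
  have hm : incl ⇑Q h.1 ∈ (rho ⇑Q).ker := e
  rw [hker] at hm
  obtain ⟨c, hc⟩ := (Cfsg.Geo.mem_scalars_iff _).1 hm
  have hmv : ∀ y, h.1.1.1 *ᵥ y = (c : F) • y := fun y => by
    rw [show h.1.1.1 = (c : F) • (1 : Matrix ι ι F) from hc, Matrix.smul_mulVec, Matrix.one_mulVec]
  have h1 : Q (h.1.1.1 *ᵥ v₀) = Q v₀ := h.1.2 v₀ v₀
  rw [hmv, QuadraticMap.map_smul, smul_eq_mul] at h1
  rcases mul_self_eq_one_iff.1 (mul_right_cancel₀ hv₀ (h1.trans (one_mul _).symm)) with e1 | e1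
  · exact hx1 (by rw [hmv, e1, one_smul])
  · exact hx2 (by rw [hmv, e1, neg_one_smul])

/-- The two properties of the centraliser used for the core. -/
def GraphProps (g : ↥(GO ⇑Q)) : Prop :=
  (∀ Nn : Subgroup ↥(centSub g), Nn.Normal → ∀ m ∈ Nn, rho ⇑Q (incl ⇑Q m.1) ≠ 1 →
      ∃ d ∈ Nn, d * d = 1 ∧ rho ⇑Q (incl ⇑Q d.1) ≠ 1) ∧
  ∀ a : ↥(Gam Q), (∀ h : ↥(centSub g), ∀ x,
      a.1.1 ((h * h * (h * h)).1.1.1 *ᵥ x) = (h * h * (h * h)).1.1.1 *ᵥ a.1.1 x) →
    Commute (autHom Q a) (rho ⇑Q g) → autHom Q a = 1 ∨ autHom Q a = rho ⇑Q g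

include S T in
theorem graphProps_nonsquare (g : ↥(GO ⇑Q)) (h3 : 3 ≤ N) (hns : ¬ IsSquare (mult g : F))
    (hg2 : ∀ v, g.1.1 *ᵥ (g.1.1 *ᵥ v) = (mult g : F) • v) : GraphProps g := by
  classical
  obtain ⟨c, hc⟩ : ∃ c, c = (mult g : F) := ⟨_, rfl⟩
  have hg : ∀ v, Q (g.1.1 *ᵥ v) = c * Q v := hc ▸ Orth.mult_spec g
  rw [← hc] at hns hg2
  have hc0 : c ≠ 0 := fun e => hns (e ▸ IsSquare.zero)
  obtain ⟨P, hP⟩ : ∃ P : Polynomial F, P = Polynomial.X ^ 2 - Polynomial.C c := ⟨_, rfl⟩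
  haveI : Fact (Irreducible P) :=
    ⟨hP ▸ X_pow_sub_C_irreducible_of_prime Nat.prime_two fun b h => hns ⟨b, by rw [← h, pow_two]⟩⟩
  have hmon : P.Monic := hP ▸ Polynomial.monic_X_pow_sub_C c two_ne_zero
  have haev : Polynomial.aeval (R := F) (Matrix.toLin' g.1.1) P = 0 := by
    rw [hP]
    refine LinearMap.ext fun v => ?_
    simp [pow_two, hg2]
  let φ : AdjoinRoot P →ₐ[F] Module.End F (ι → F) := Ideal.Quotient.liftₐ _ (Polynomial.aeval (Matrix.toLin' g.1.1))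
    fun p hp => by
      obtain ⟨r, rfl⟩ := Ideal.mem_span_singleton.1 hp
      rw [map_mul, haev, zero_mul]
  letI : Module (AdjoinRoot P) (ι → F) := Module.compHom (ι → F) φ.toRingHom
  haveI : IsScalarTower F (AdjoinRoot P) (ι → F) := IsScalarTower.of_algebraMap_smul fun k v => by
    show φ (algebraMap F (AdjoinRoot P) k) v = k • v
    rw [AlgHom.commutes, Module.algebraMap_end_apply]
  let pb := AdjoinRoot.powerBasis hmon.ne_zero
  haveI : Module.Finite F (AdjoinRoot P) := pb.finite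
  haveI : Module.Finite (AdjoinRoot P) (ι → F) := Module.Finite.right F (AdjoinRoot P) (ι → F)
  haveI : Finite (AdjoinRoot P) := Module.finite_of_finite F
  have hdeg : P.natDegree = 2 := hP ▸ Polynomial.natDegree_X_pow_sub_C
  have hfr : finrank F (AdjoinRoot P) = 2 := by rw [pb.finrank]; exact hdeg
  have hdim : finrank (AdjoinRoot P) (ι → F) = N := by
    have h := Module.finrank_mul_finrank F (AdjoinRoot P) (ι → F)
    rw [hfr, Module.finrank_fintype_fun_eq_card, S.hcard] at h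
    omega
  obtain ⟨rt, hrt⟩ : ∃ rt, rt = AdjoinRoot.root P := ⟨_, rfl⟩
  have hroot : ∀ v : ι → F, rt • v = g.1.1 *ᵥ v := fun v => by
    show φ rt v = _
    rw [hrt, show φ (AdjoinRoot.root P) = Polynomial.aeval (Matrix.toLin' g.1.1) Polynomial.X from
      Ideal.Quotient.lift_mk _ _ _, Polynomial.aeval_X, Matrix.toLin'_apply]
  have hrr : rt * rt = algebraMap F (AdjoinRoot P) c := by
    have h := AdjoinRoot.eval₂_root P
    rw [Polynomial.eval₂_congr rfl rfl hP] at h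
    rw [Polynomial.eval₂_sub, Polynomial.eval₂_pow, Polynomial.eval₂_X, Polynomial.eval₂_C, sub_eq_zero, pow_two] at h
    rw [hrt]
    exact h
  obtain ⟨emb, hemb⟩ : ∃ emb : F →+* AdjoinRoot P, emb = algebraMap F (AdjoinRoot P) := ⟨_, rfl⟩
  have hsmulF : ∀ (k : F) (v : ι → F), emb k • v = k • v := fun k v => by
    rw [hemb]; exact algebraMap_smul _ k v
  have hrepr : ∀ k : AdjoinRoot P, ∃ α β : F, k = emb α + emb β * rt := fun k => by
    obtain ⟨f, hf⟩ := AdjoinRoot.mk_surjective (g := P) k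
    obtain ⟨f₁, hf₁⟩ : ∃ f₁, f₁ = f %ₘ P := ⟨_, rfl⟩
    have hk : AdjoinRoot.mk P f₁ = k := by
      rw [← hf, AdjoinRoot.mk_eq_mk, hf₁]
      exact ⟨-(f /ₘ P), by linear_combination Polynomial.modByMonic_add_div f P⟩
    have hdf : f₁.natDegree ≤ 1 := by
      rw [hf₁]
      have := Polynomial.natDegree_modByMonic_lt f hmon (fun e => by rw [e] at hdeg; simp at hdeg)
      omega
    refine ⟨f₁.coeff 0, f₁.coeff 1, ?_⟩
    conv_lhs => rw [← hk, Polynomial.eq_X_add_C_of_natDegree_le_one hdf]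
    rw [hemb, hrt, AdjoinRoot.algebraMap_eq, map_add, map_mul, AdjoinRoot.mk_C, AdjoinRoot.mk_C, AdjoinRoot.mk_X]
    ring
  have huniq : ∀ α β : F, emb α + emb β * rt = 0 → α = 0 ∧ β = 0 := by
    intro α β h
    by_cases hβ : β = 0
    · rw [hβ, map_zero, zero_mul, add_zero, map_eq_zero] at h
      exact ⟨h, hβ⟩
    · exfalso
      have h1 : rt = emb (-α / β) := by
        rw [map_div₀, map_neg, eq_div_iff ((map_ne_zero emb).2 hβ)]
        linear_combination h
      refine hns ⟨-α / β, emb.injective ?_⟩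
      rw [map_mul, ← h1, hrr, hemb]
  have hadj : ∀ x y, polar Q (g.1.1 *ᵥ x) y = polar Q x (g.1.1 *ᵥ y) := fun x y =>
    mul_left_cancel₀ hc0 (Orth.polar_adj hg hg2 x y)
  obtain ⟨BK, hBK⟩ : ∃ BK : (ι → F) →ₗ[AdjoinRoot P] (ι → F) →ₗ[AdjoinRoot P] AdjoinRoot P,
      ∀ x y, BK x y = emb (polar Q x y) + emb (polar Q (g.1.1 *ᵥ x) y / c) * rt := by
    have hlin : ∀ (k : AdjoinRoot P) (x y : ι → F),
        emb (polar Q (k • x) y) + emb (polar Q (g.1.1 *ᵥ (k • x)) y / c) * rt =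
          k * (emb (polar Q x y) + emb (polar Q (g.1.1 *ᵥ x) y / c) * rt) := by
      intro k x y
      obtain ⟨α, β, rfl⟩ := hrepr k
      rw [add_smul, mul_smul, hroot, hsmulF, hsmulF, Matrix.mulVec_add, Matrix.mulVec_smul, Matrix.mulVec_smul, hg2]
      simp only [polar_add_left, polar_smul_left, smul_eq_mul]
      rw [show (α * polar Q (g.1.1 *ᵥ x) y + β * (c * polar Q x y)) / c =
        α * (polar Q (g.1.1 *ᵥ x) y / c) + β * polar Q x y by field_simp]
      simp only [map_add, map_mul]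
      have e : emb β * emb (polar Q (g.1.1 *ᵥ x) y / c) * (rt * rt) = emb β * emb (polar Q (g.1.1 *ᵥ x) y) := by
        rw [hrr, ← hemb, mul_assoc, ← map_mul emb, div_mul_cancel₀ _ hc0]
      linear_combination -e
    have hsymm : ∀ x y, emb (polar Q x y) + emb (polar Q (g.1.1 *ᵥ x) y / c) * rt =
        emb (polar Q y x) + emb (polar Q (g.1.1 *ᵥ y) x / c) * rt := fun x y => by
      rw [polar_comm Q x y, hadj x y, polar_comm Q x (g.1.1 *ᵥ y)]
    refine ⟨LinearMap.mk₂ (AdjoinRoot P)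
      (fun x y => emb (polar Q x y) + emb (polar Q (g.1.1 *ᵥ x) y / c) * rt) ?_ (fun k x y => hlin k x y) ?_ ?_,
      fun x y => rfl⟩
    · intro x x' y
      simp only [Matrix.mulVec_add, polar_add_left, add_div, map_add]; ring
    · intro x y y'
      simp only [polar_add_right, add_div, map_add]; ring
    · intro k x y
      show _ = k * _
      rw [hsymm, hlin, hsymm y x]
  have hnd : ∀ x, (∀ y, BK x y = 0) → x = 0 := fun x hx => S.pnd x fun y => by
    have h := hx y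
    rw [hBK] at h
    exact (huniq _ _ h).1
  have H : GraphCore.Nice BK :=
    ⟨fun e => S.h2 (emb.injective (by rw [map_zero, map_ofNat]; exact e)), fun x y => by
      rw [hBK, hBK, polar_comm Q x y, hadj x y, polar_comm Q x (g.1.1 *ᵥ y)], hnd, by omega⟩
  have hKlin : ∀ (L : (ι → F) →ₗ[F] (ι → F)), (∀ x, L (g.1.1 *ᵥ x) = g.1.1 *ᵥ L x) →
      ∀ (k : AdjoinRoot P) x, L (k • x) = k • L x := fun L hL k x => by
    obtain ⟨α, β, rfl⟩ := hrepr k
    simp only [add_smul, mul_smul, hroot, hsmulF, map_add, map_smul, hL]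
  let act : ↥(centSub g) →* ((ι → F) ≃ₗ[AdjoinRoot P] (ι → F)) :=
    { toFun := fun h =>
        { toFun := fun x => h.1.1.1 *ᵥ x
          invFun := fun x => h⁻¹.1.1.1 *ᵥ x
          map_add' := fun x y => Matrix.mulVec_add _ _ _
          map_smul' := fun k x => hKlin (Matrix.toLin' h.1.1.1) (fun y => centSub_comm g h y) k x
          left_inv := fun x => by
            show h⁻¹.1.1.1 *ᵥ (h.1.1.1 *ᵥ x) = x
            rw [← centSub_mul, inv_mul_cancel, centSub_one]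
          right_inv := fun x => by
            show h.1.1.1 *ᵥ (h⁻¹.1.1.1 *ᵥ x) = x
            rw [← centSub_mul, mul_inv_cancel, centSub_one] }
      map_one' := LinearEquiv.ext fun x => centSub_one g x
      map_mul' := fun h k => LinearEquiv.ext fun x => centSub_mul g h k x }
  have hactB : ∀ h x y, BK (act h x) (act h y) = BK x y := fun h x y => by
    show BK (h.1.1.1 *ᵥ x) (h.1.1.1 *ᵥ y) = _
    have hpol : ∀ u w, polar Q (h.1.1.1 *ᵥ u) (h.1.1.1 *ᵥ w) = polar Q u w := fun u w => by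
      have hq : ∀ z, Q (h.1.1.1 *ᵥ z) = Q z := fun z => h.1.2 z z
      simp only [QuadraticMap.polar, ← Matrix.mulVec_add, hq]
    rw [hBK, hBK, hpol, ← centSub_comm, hpol]
  have hQB : ∀ x y, BK x x = BK y y → Q x = Q y := fun x y e => by
    rw [hBK, hBK] at e
    have h1 := (huniq (polar Q x x - polar Q y y) ((polar Q (g.1.1 *ᵥ x) x - polar Q (g.1.1 *ᵥ y) y) / c)
      (by simp only [sub_div, map_sub]; linear_combination e)).1
    rw [polar_self_two, polar_self_two, ← mul_sub, mul_eq_zero] at h1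
    exact sub_eq_zero.1 (h1.resolve_left S.h2)
  have hexr : ∀ v, ∃ h : ↥(centSub g), BK v v ≠ 0 → ∀ x, h.1.1.1 *ᵥ x = GraphCore.rfn BK v x := by
    intro v
    by_cases hv : BK v v = 0
    · exact ⟨1, fun h => absurd hv h⟩
    obtain ⟨L, hL⟩ : ∃ L : (ι → F) →ₗ[F] (ι → F), ∀ x, L x = GraphCore.rfn BK v x :=
      ⟨{ toFun := GraphCore.rfn BK v
         map_add' := fun x y => by simp only [GraphCore.rfn, map_add, mul_add, add_div]; module
         map_smul' := fun k x => by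
           simp only [GraphCore.rfn, RingHom.id_apply, ← hsmulF, map_smul, smul_eq_mul, smul_sub, smul_smul]
           congr 2
           ring }, fun _ => rfl⟩
    have hinv : ∀ x, L (L x) = x := fun x => by
      simp only [hL, GraphCore.rfn, map_sub, map_smul, smul_eq_mul]
      rw [sub_sub, ← add_smul, sub_eq_self]
      convert zero_smul (AdjoinRoot P) v using 2
      field_simp
      ring
    have hBL : ∀ x, BK (L x) (L x) = BK x x := fun x => by
      simp only [hL, GraphCore.rfn, map_sub, map_smul, LinearMap.sub_apply, LinearMap.smul_apply, smul_eq_mul,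
        H.symm x v]
      field_simp
      ring
    let M : Matrix ι ι F := LinearMap.toMatrix' L
    have hMv : ∀ x, M *ᵥ x = L x := fun x => LinearMap.toMatrix'_mulVec L x
    have hMM : M * M = 1 := Matrix.ext_of_mulVec_single fun i => by
      rw [← Matrix.mulVec_mulVec, hMv, hMv, hinv, Matrix.one_mulVec]
    let u : GL ι F := ⟨M, M, hMM, hMM⟩
    refine ⟨⟨⟨u, fun x _ => hQB _ _ (by
      show BK (M *ᵥ x) (M *ᵥ x) = BK x x
      rw [hMv, hBL])⟩, Subgroup.mem_centralizer_singleton_iff.2 (Units.ext (Matrix.ext_of_mulVec_single fun i => ?_))⟩,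
      fun _ x => (hMv x).trans (hL x)⟩
    show (M * g.1.1) *ᵥ _ = (g.1.1 * M) *ᵥ _
    rw [← Matrix.mulVec_mulVec, ← Matrix.mulVec_mulVec, hMv, hMv, hL, hL]
    simp only [GraphCore.rfn, ← hroot, map_smul, smul_eq_mul, smul_sub, smul_smul]
    congr 2
    ring
  choose r hr using hexr
  refine ⟨fun Nn hNn m hm hm1 => ?_, fun a hfix hcx => ?_⟩
  · obtain ⟨v₀, hv₀⟩ := S.exists_nz
    have hscal : ∀ s : F, (s = 1 ∨ s = -1) → (∀ x, m.1.1.1 *ᵥ x = s • x) → False := fun s hs h => by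
      refine hm1 ?_
      have hs0 : s ≠ 0 := by rcases hs with rfl | rfl <;> simp
      have : incl ⇑Q m.1 = scalarG Q (Units.mk0 s hs0) := Subtype.ext (Units.ext (Matrix.ext_of_mulVec_single fun i => by
        rw [Orth.scalarG_mulVec, Units.val_mk0]; exact h _))
      rw [this, Desc.rho_scalarG]
    obtain ⟨d, hd, hd2, hd1, hd1'⟩ := comp_involution H (AddMonoidHom.id _) (AddMonoidHom.id _) (fun _ => rfl) act
      (fun _ _ => rfl) (fun _ _ => rfl) hactB r (fun v hv x => hr v hv x) Nn hNn hm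
      (fun h => hscal 1 (Or.inl rfl) fun x => (h x).trans (one_smul _ x).symm)
      (fun h => hscal (-1) (Or.inr rfl) fun x => (h x).trans (neg_one_smul F x).symm)
    refine ⟨d, hd, hd2, fun e => ?_⟩
    have hm' : incl ⇑Q d.1 ∈ (rho ⇑Q).ker := e
    rw [S.hker] at hm'
    obtain ⟨s, hs⟩ := (Cfsg.Geo.mem_scalars_iff _).1 hm'
    have hsv : ∀ x, d.1.1.1 *ᵥ x = (s : F) • x := fun x => by
      rw [show d.1.1.1 = (s : F) • (1 : Matrix ι ι F) from hs, Matrix.smul_mulVec, Matrix.one_mulVec]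
    have h1 : Q (d.1.1.1 *ᵥ v₀) = Q v₀ := d.1.2 v₀ v₀
    rw [hsv, QuadraticMap.map_smul, smul_eq_mul] at h1
    rcases mul_self_eq_one_iff.1 (mul_right_cancel₀ hv₀ (h1.trans (one_mul _).symm)) with e1 | e1
    · exact hd1 fun x => (hsv x).trans (by rw [e1, one_smul])
    · exact hd1' fun x => (hsv x).trans (by rw [e1, neg_one_smul])
  · obtain ⟨z, hz⟩ : ∃ z : F, ∀ x, a.1.1 (g.1.1 *ᵥ x) = z • g.1.1 *ᵥ a.1.1 x := by
      have hk : a * goHom Q g * a⁻¹ * (goHom Q g)⁻¹ ∈ (autHom Q).ker := by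
        rw [MonoidHom.mem_ker, map_mul, map_mul, map_mul, map_inv, map_inv, autHom_goHom, hcx.eq]
        group
      obtain ⟨-, z, -, hz⟩ := (mem_ker_autHom T _).1 hk
      exact ⟨z, fun x => (congrArg (fun b : ↥(Gam Q) => b.1.1 x)
        (show a * goHom Q g = a * goHom Q g * a⁻¹ * (goHom Q g)⁻¹ * (goHom Q g * a) by group)).trans (hz _)⟩
    have hzc : z * z * c = a.1.2 c := by
      obtain ⟨v₀, hv₀⟩ := S.exists_nz
      have h1 := hz (g.1.1 *ᵥ v₀)
      rw [hg2, hz, Matrix.mulVec_smul, hg2, a.2.2.1, smul_smul, smul_smul] at h1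
      have h0 : a.1.1 v₀ ≠ 0 := fun e => hv₀ (by
        rw [a.1.1.injective (e.trans (show a.1.1 0 = 0 by simpa using a.2.1 0 0).symm),
          QuadraticMap.map_zero])
      exact (smul_left_injective F h0 h1).symm
    let τ : AdjoinRoot P →+* AdjoinRoot P := AdjoinRoot.lift (emb.comp (a.1.2 : F →+* F)) (emb z * rt) (by
      rw [Polynomial.eval₂_congr rfl rfl hP]
      simp only [Polynomial.eval₂_sub, Polynomial.eval₂_pow, Polynomial.eval₂_X, Polynomial.eval₂_C,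
        RingHom.comp_apply, RingHom.coe_coe]
      rw [← hzc, map_mul, map_mul, hemb, ← hrr]
      ring)
    have hτF : ∀ k, τ (emb k) = emb (a.1.2 k) := fun k => by
      rw [hemb, AdjoinRoot.algebraMap_eq]
      show AdjoinRoot.lift _ _ _ (AdjoinRoot.of P k) = _
      rw [AdjoinRoot.lift_of, RingHom.comp_apply, hemb, AdjoinRoot.algebraMap_eq]
      rfl
    have hτr : τ rt = emb z * rt := by rw [hrt]; exact (AdjoinRoot.lift_root _).trans (by rw [hrt])
    obtain ⟨hτ, lam, hlam⟩ := comp_scalar H (AddMonoidHom.id _) (AddMonoidHom.id _) (fun _ => rfl) act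
      (fun _ _ => rfl) (fun _ _ => rfl) r (fun v hv x => hr v hv x) a hfix τ (fun k w => by
        obtain ⟨α, β, rfl⟩ := hrepr k
        simp only [AddMonoidHom.id_apply, add_smul, mul_smul, hroot, hsmulF, a.2.1, a.2.2.1, hz, map_add, map_mul,
          hτF, hτr])
    simp only [AddMonoidHom.id_apply] at hlam
    have hσ : ∀ k, a.1.2 k = k := fun k => emb.injective (by rw [← hτF, hτ])
    obtain ⟨α, β, rfl⟩ := hrepr lam
    have hav : ∀ x, a.1.1 x = α • x + β • g.1.1 *ᵥ x := fun x => by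
      rw [hlam, add_smul, mul_smul, hroot, hsmulF, hsmulF]
    obtain ⟨M, hM0, hM⟩ := a.2.2.2
    have hQa : ∀ x, (α * α + β * β * c) * Q x + α * β * polar Q x (g.1.1 *ᵥ x) = M * Q x := fun x => by
      have h := hM x
      rw [hav, map_two, QuadraticMap.map_smul, QuadraticMap.map_smul, polar_smul_left, polar_smul_right, hg, hσ] at h
      simp only [smul_eq_mul] at h
      linear_combination h
    have hab : α * β = 0 := by
      by_contra hab
      have hpol : ∀ x y, polar Q x (g.1.1 *ᵥ y) * (2 * (α * β)) = 2 * (M - (α * α + β * β * c)) * polar Q x y / 2 * 2 / 2 := by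
        intro x y
        have e1 := hQa (x + y)
        rw [map_two, Matrix.mulVec_add, polar_add_left, polar_add_right, polar_add_right,
          polar_comm Q y (g.1.1 *ᵥ x), hadj] at e1
        have e2 := hQa x
        have e3 := hQa y
        field_simp [S.h2]
        linear_combination e1 - e2 - e3
      obtain ⟨v₀, hv₀⟩ := S.exists_nz
      obtain ⟨e, he⟩ : ∃ e, e = (M - (α * α + β * β * c)) / (2 * (α * β)) := ⟨_, rfl⟩
      have hge : ∀ y, g.1.1 *ᵥ y = e • y := fun y => by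
        refine sub_eq_zero.1 (S.pnd _ fun x => ?_)
        have h1 := hpol x y
        rw [polar_comm, polar_sub_right, polar_smul_right, smul_eq_mul, he, sub_eq_zero, div_mul_eq_mul_div,
          eq_div_iff (mul_ne_zero S.h2 hab), h1]
        field_simp [S.h2]
      refine hns ⟨e, ?_⟩
      have h1 := hg2 v₀
      rw [hge, hge, smul_smul] at h1
      exact (smul_left_injective F (fun h0 : v₀ = 0 => hv₀ (by rw [h0, QuadraticMap.map_zero])) h1).symm
    rcases mul_eq_zero.1 hab with h0 | h0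
    · right
      have hb0 : β ≠ 0 := fun hb => by
        obtain ⟨v₀, hv₀⟩ := S.exists_nz
        have h := hQa v₀
        rw [h0, hb] at h
        simp [hM0, hv₀] at h
      have e : a = goHom Q (scalarG Q (Units.mk0 β hb0)) * goHom Q g := Subtype.ext (Prod.ext (Equiv.ext fun x => by
        refine (hav x).trans ?_
        rw [h0, zero_smul, zero_add]
        exact (Orth.scalarG_mulVec (Units.mk0 β hb0) _).symm) (RingEquiv.ext fun k => hσ k))
      rw [e, map_mul, autHom_goHom, autHom_goHom, Desc.rho_scalarG, one_mul]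
    · left
      rw [← MonoidHom.mem_ker, mem_ker_autHom T]
      have ha0 : α ≠ 0 := fun ha => by
        obtain ⟨v₀, hv₀⟩ := S.exists_nz
        have h := hQa v₀
        rw [h0, ha] at h
        simp [hM0, hv₀] at h
      exact ⟨RingEquiv.ext fun k => hσ k, α, ha0, fun x => by rw [hav, h0, zero_smul, add_zero]⟩

section Square

variable (g : ↥(GO ⇑Q)) (b : F) (hb0 : b ≠ 0) (hb : (mult g : F) = b * b)
  (hg2 : ∀ v, g.1.1 *ᵥ (g.1.1 *ᵥ v) = (b * b) • v)

/-- The eigenspace of a root for a square root of its multiplier. -/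
def eigW : Submodule F (ι → F) := End.eigenspace (Matrix.toLin' g.1.1) b

theorem mem_eigW {x : ι → F} : x ∈ eigW g b ↔ g.1.1 *ᵥ x = b • x := by
  rw [eigW, End.mem_eigenspace_iff, Matrix.toLin'_apply]

/-- The projection to an eigenspace. -/
noncomputable def eigP : (ι → F) →ₗ[F] ↥(eigW g b) :=
  LinearMap.codRestrict (eigW g b) ((2 * b)⁻¹ • (Matrix.toLin' g.1.1 + b • LinearMap.id)) fun x => by
    rw [mem_eigW]
    simp only [LinearMap.smul_apply, LinearMap.add_apply, Matrix.toLin'_apply, LinearMap.id_apply, Matrix.mulVec_smul,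
      Matrix.mulVec_add, hg2]
    module

theorem eigP_coe (x : ι → F) : (eigP g b hg2 x : ι → F) = (2 * b)⁻¹ • (g.1.1 *ᵥ x + b • x) := rfl

include S hb0 in
theorem eigP_self (w : ↥(eigW g b)) : eigP g b hg2 w.1 = w := by
  refine Subtype.ext ?_
  rw [eigP_coe, (mem_eigW g b).1 w.2, ← add_smul, smul_smul, show b + b = 2 * b by ring,
    inv_mul_cancel₀ (mul_ne_zero S.h2 hb0), one_smul]

include S hb0 in
theorem sub_eigP_mem (x : ι → F) : x - (eigP g b hg2 x : ι → F) ∈ eigW g (-b) := by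
  rw [mem_eigW, eigP_coe, Matrix.mulVec_sub, Matrix.mulVec_smul, Matrix.mulVec_add, Matrix.mulVec_smul, hg2]
  match_scalars <;> field_simp [S.h2] <;> ring

include S hb0 hb in
theorem eigW_orth {x y : ι → F} (hx : x ∈ eigW g b) (hy : y ∈ eigW g (-b)) : polar Q x y = 0 := by
  have h := Orth.polar_gg (fun v => (Orth.mult_spec g v).trans (by rw [hb])) x y
  rw [(mem_eigW g b).1 hx, (mem_eigW g (-b)).1 hy, polar_smul_left, polar_smul_right, smul_eq_mul, smul_eq_mul] at h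
  exact (mul_eq_zero.1 (show 2 * (b * b) * polar Q x y = 0 by linear_combination -h)).resolve_left
    (mul_ne_zero S.h2 (mul_ne_zero hb0 hb0))

/-- The form on an eigenspace. -/
noncomputable def eigB : ↥(eigW g b) →ₗ[F] ↥(eigW g b) →ₗ[F] F :=
  Q.polarBilin.compl₁₂ (eigW g b).subtype (eigW g b).subtype

theorem eigB_apply (x y : ↥(eigW g b)) : eigB g b x y = polar Q x.1 y.1 := rfl

include S hb0 hb hg2 in
theorem eigB_nd (x : ↥(eigW g b)) (hx : ∀ y, eigB g b x y = 0) : x = 0 := by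
  refine Subtype.ext (S.pnd _ fun y => ?_)
  have h := eigW_orth S g b hb0 hb x.2 (sub_eigP_mem S g b hb0 hg2 y)
  rw [polar_sub_right, sub_eq_zero] at h
  exact h.trans (hx (eigP g b hg2 y))

include S hb0 hb hg2 in
theorem eig_exists_nz (h : eigW g b ≠ ⊥) : ∃ x ∈ eigW g b, Q x ≠ 0 := by
  by_contra hc
  push Not at hc
  refine h ((Submodule.eq_bot_iff _).2 fun x hx => ?_)
  have e := eigB_nd S g b hb0 hb hg2 ⟨x, hx⟩ fun y => by
    rw [eigB_apply, polar, hc _ hx, hc _ y.2, hc _ (add_mem hx y.2)]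
    ring
  exact congrArg Subtype.val e

theorem centSub_mem_eigW (h : ↥(centSub g)) {x : ι → F} (hx : x ∈ eigW g b) : h.1.1.1 *ᵥ x ∈ eigW g b := by
  rw [mem_eigW] at hx ⊢
  rw [← centSub_comm, hx, Matrix.mulVec_smul]

/-- The restriction to an eigenspace. -/
noncomputable def eigAct : ↥(centSub g) →* (↥(eigW g b) ≃ₗ[F] ↥(eigW g b)) where
  toFun h :=
    { toFun := fun w => ⟨h.1.1.1 *ᵥ w.1, centSub_mem_eigW g b h w.2⟩
      invFun := fun w => ⟨h⁻¹.1.1.1 *ᵥ w.1, centSub_mem_eigW g b h⁻¹ w.2⟩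
      map_add' := fun x y => Subtype.ext (Matrix.mulVec_add _ _ _)
      map_smul' := fun k x => Subtype.ext (Matrix.mulVec_smul _ _ _)
      left_inv := fun w => Subtype.ext (by
        show h⁻¹.1.1.1 *ᵥ (h.1.1.1 *ᵥ w.1) = w.1
        rw [← centSub_mul, inv_mul_cancel, centSub_one])
      right_inv := fun w => Subtype.ext (by
        show h.1.1.1 *ᵥ (h⁻¹.1.1.1 *ᵥ w.1) = w.1
        rw [← centSub_mul, mul_inv_cancel, centSub_one]) }
  map_one' := LinearEquiv.ext fun w => Subtype.ext (centSub_one g w.1)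
  map_mul' h k := LinearEquiv.ext fun w => Subtype.ext (centSub_mul g h k w.1)

theorem eigAct_coe (h : ↥(centSub g)) (w : ↥(eigW g b)) : (eigAct g b h w : ι → F) = h.1.1.1 *ᵥ w.1 := rfl

theorem eigP_act (h : ↥(centSub g)) (x : ι → F) : eigP g b hg2 (h.1.1.1 *ᵥ x) = eigAct g b h (eigP g b hg2 x) := by
  refine Subtype.ext ?_
  rw [eigAct_coe, eigP_coe, eigP_coe, Matrix.mulVec_smul, Matrix.mulVec_add, Matrix.mulVec_smul, centSub_comm]

theorem eigB_act (h : ↥(centSub g)) (x y : ↥(eigW g b)) : eigB g b (eigAct g b h x) (eigAct g b h y) = eigB g b x y := by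
  have hq : ∀ z, Q (h.1.1.1 *ᵥ z) = Q z := fun z => h.1.2 z z
  simp only [eigB_apply, eigAct_coe, QuadraticMap.polar, ← Matrix.mulVec_add, hq]

include S hb0 hb hg2 in
/-- The reflections of an eigenspace in the centraliser. -/
theorem exists_eigR (v : ↥(eigW g b)) : ∃ h : ↥(centSub g), eigB g b v v ≠ 0 → ∀ x,
    h.1.1.1 *ᵥ x = x - (eigW g b).subtype.toAddMonoidHom
      ((2 * eigB g b v (eigP g b hg2 x) / eigB g b v v) • v) := by
  by_cases hv : eigB g b v v = 0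
  · exact ⟨1, fun h => absurd hv h⟩
  rw [eigB_apply, polar_self_two] at hv
  have hg : ∀ x, Q (g.1.1 *ᵥ x) = (b * b) * Q x := fun x => (Orth.mult_spec g x).trans (by rw [hb])
  obtain ⟨h, hh⟩ := Orth.exists_word_mat (Q := Q) rfl [v.1]
  have hh' : ∀ x, h.1.1 *ᵥ x = refl Q v.1 x := fun x => by
    rw [hh, Orth.prodRf_cons, Orth.prodRf_nil, mul_one]
    rfl
  refine ⟨⟨h, Subgroup.mem_centralizer_singleton_iff.2 (Units.ext (Matrix.ext_of_mulVec_single fun i => ?_))⟩,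
    fun _ x => ?_⟩
  · show (h.1.1 * g.1.1) *ᵥ _ = (g.1.1 * h.1.1) *ᵥ _
    rw [← Matrix.mulVec_mulVec, ← Matrix.mulVec_mulVec, hh', hh',
      Orth.eigen_commutes hg hg2 rfl (mul_ne_zero hb0 hb0) ((mem_eigW g b).1 v.2)]
  · show h.1.1 *ᵥ x = _
    rw [hh', refl_apply, eigB_apply, eigB_apply, polar_self_two]
    have h1 := eigW_orth S g b hb0 hb v.2 (sub_eigP_mem S g b hb0 hg2 x)
    rw [polar_sub_right, sub_eq_zero] at h1
    rw [h1]
    show x - _ = x - (_ : F) • v.1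
    rw [mul_div_mul_left _ _ S.h2, div_eq_inv_mul]

include S hb0 hb hg2 in
theorem eig_involution (h3 : 3 ≤ finrank F ↥(eigW g b)) (Nn : Subgroup ↥(centSub g)) (hN : Nn.Normal)
    {m : ↥(centSub g)} (hm : m ∈ Nn) (hm1 : ¬ ∀ w ∈ eigW g b, m.1.1.1 *ᵥ w = w)
    (hm2 : ¬ ∀ w ∈ eigW g b, m.1.1.1 *ᵥ w = -w) :
    ∃ d ∈ Nn, d * d = 1 ∧ ∃ w ∈ eigW g b, d.1.1.1 *ᵥ w ≠ w ∧ ∃ w ∈ eigW g b, d.1.1.1 *ᵥ w ≠ -w := by
  choose r hr using exists_eigR S g b hb0 hb hg2
  have H : GraphCore.Nice (eigB g b) :=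
    ⟨S.h2, fun x y => polar_comm _ _ _, eigB_nd S g b hb0 hb hg2, h3⟩
  obtain ⟨d, hd, hd2, hd1, hd1'⟩ := comp_involution H (eigW g b).subtype.toAddMonoidHom
    (eigP g b hg2).toAddMonoidHom (eigP_self S g b hb0 hg2) (eigAct g b) (fun _ _ => rfl) (eigP_act g b hg2)
    (eigB_act g b) r hr Nn hN hm
    (fun h => hm1 fun w hw => congrArg Subtype.val (h ⟨w, hw⟩))
    (fun h => hm2 fun w hw => congrArg Subtype.val (h ⟨w, hw⟩))
  push Not at hd1 hd1'
  obtain ⟨w, hw⟩ := hd1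
  obtain ⟨w', hw'⟩ := hd1'
  exact ⟨d, hd, hd2, w.1, w.2, fun e => hw (Subtype.ext e), w'.1, w'.2, fun e => hw' (Subtype.ext e)⟩

include S hb0 hb hg2 in
theorem eig_scalar (h3 : 3 ≤ finrank F ↥(eigW g b)) (a : ↥(Gam Q))
    (hfix : ∀ h : ↥(centSub g), ∀ x,
      a.1.1 ((h * h * (h * h)).1.1.1 *ᵥ x) = (h * h * (h * h)).1.1.1 *ᵥ a.1.1 x) :
    (∀ k, a.1.2 k = k) ∧ ∃ lam : F, ∀ w ∈ eigW g b, a.1.1 w = lam • w := by
  choose r hr using exists_eigR S g b hb0 hb hg2
  have H : GraphCore.Nice (eigB g b) :=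
    ⟨S.h2, fun x y => polar_comm _ _ _, eigB_nd S g b hb0 hb hg2, h3⟩
  obtain ⟨hτ, lam, hlam⟩ := comp_scalar H (eigW g b).subtype.toAddMonoidHom (eigP g b hg2).toAddMonoidHom
    (eigP_self S g b hb0 hg2) (eigAct g b) (fun _ _ => rfl) (eigP_act g b hg2) r hr a hfix
    (a.1.2 : F →+* F) (fun k w => by
      show eigP g b hg2 (a.1.1 (k • w.1)) = _ • eigP g b hg2 (a.1.1 w.1)
      rw [a.2.2.1, map_smul]
      rfl)
  exact ⟨hτ, lam, fun w hw => hlam ⟨w, hw⟩⟩

include S hb0 hb hg2 in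
theorem eig_pm (h1 : finrank F ↥(eigW g b) = 1) (h : ↥(centSub g)) :
    (∀ w ∈ eigW g b, h.1.1.1 *ᵥ w = w) ∨ ∀ w ∈ eigW g b, h.1.1.1 *ᵥ w = -w := by
  have hne : eigW g b ≠ ⊥ := fun e => by rw [e, finrank_bot] at h1; exact zero_ne_one h1
  obtain ⟨x, hx, hqx⟩ := eig_exists_nz S g b hb0 hb hg2 hne
  have hall : ∀ w ∈ eigW g b, ∃ c : F, w = c • x := fun w hw => by
    obtain ⟨c, hc⟩ := (finrank_eq_one_iff_of_nonzero' (⟨x, hx⟩ : ↥(eigW g b))
      (fun e => hqx (by rw [show x = 0 from congrArg Subtype.val e]; exact QuadraticMap.map_zero Q))).1 h1 ⟨w, hw⟩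
    exact ⟨c, (congrArg Subtype.val hc).symm⟩
  obtain ⟨c, hc⟩ := hall _ (centSub_mem_eigW g b h hx)
  have hq : Q (h.1.1.1 *ᵥ x) = Q x := h.1.2 x x
  rw [hc, QuadraticMap.map_smul, smul_eq_mul] at hq
  rcases mul_self_eq_one_iff.1 (mul_right_cancel₀ hqx (hq.trans (one_mul _).symm)) with e | e
  · left
    intro w hw
    obtain ⟨d, rfl⟩ := hall w hw
    rw [Matrix.mulVec_smul, hc, e, one_smul]
  · right
    intro w hw
    obtain ⟨d, rfl⟩ := hall w hw
    rw [Matrix.mulVec_smul, hc, e, neg_one_smul, smul_neg]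

include S hb0 hg2 in
theorem eig_decomp (x : ι → F) : ∃ u ∈ eigW g b, ∃ w ∈ eigW g (-b), x = u + w :=
  ⟨_, (eigP g b hg2 x).2, _, sub_eigP_mem S g b hb0 hg2 x, by abel⟩

end Square

include S T in
theorem graphProps_square (g : ↥(GO ⇑Q)) (h3 : 3 ≤ N) (hgd : S.delta g ≠ 1) (hsq : IsSquare (mult g : F))
    (hg2 : ∀ v, g.1.1 *ᵥ (g.1.1 *ᵥ v) = (mult g : F) • v) : GraphProps g := by
  obtain ⟨s, hs⟩ := hsq
  have hs0 : s ≠ 0 := fun e => Units.ne_zero (mult g) (by rw [hs, e, mul_zero])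
  obtain ⟨hodd, hsum⟩ := Orth.eigen_odd S.h2 S.hcard hs0 hs hg2 fun e => hgd ((S.delta_eq_one g).2 e)
  change Odd (finrank F ↥(eigW g (-s))) at hodd
  change finrank F ↥(eigW g s) + finrank F ↥(eigW g (-s)) = 2 * N at hsum
  -- the two square roots
  obtain ⟨b, hb, hb0, hW, hW'⟩ : ∃ b : F, (mult g : F) = b * b ∧ b ≠ 0 ∧ 3 ≤ finrank F ↥(eigW g b) ∧
      (finrank F ↥(eigW g (-b)) = 1 ∨ 3 ≤ finrank F ↥(eigW g (-b))) := by
    obtain ⟨k, hk⟩ := hodd
    by_cases h : 3 ≤ finrank F ↥(eigW g s)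
    · exact ⟨s, hs, hs0, h, by omega⟩
    · exact ⟨-s, by rw [hs]; ring, neg_ne_zero.2 hs0, by omega, by rw [neg_neg]; omega⟩
  have hg2b : ∀ v, g.1.1 *ᵥ (g.1.1 *ᵥ v) = (b * b) • v := fun v => hb ▸ hg2 v
  have hb' : (mult g : F) = -b * -b := hb.trans (by ring)
  have hg2b' : ∀ v, g.1.1 *ᵥ (g.1.1 *ᵥ v) = (-b * -b) • v := fun v => hb' ▸ hg2 v
  have hnb0 : -b ≠ 0 := neg_ne_zero.2 hb0
  obtain ⟨v₀, hv₀⟩ := S.exists_nz
  refine ⟨fun Nn hNn m hm hm1 => ?_, fun a hfix _ => ?_⟩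
  · have hnotscal : ∀ d : ↥(centSub g), ∀ x y, d.1.1.1 *ᵥ x ≠ x → d.1.1.1 *ᵥ y ≠ -y → rho ⇑Q (incl ⇑Q d.1) ≠ 1 := by
      intro d x y hx hy e
      have hm' : incl ⇑Q d.1 ∈ (rho ⇑Q).ker := e
      rw [S.hker] at hm'
      obtain ⟨t, ht⟩ := (Cfsg.Geo.mem_scalars_iff _).1 hm'
      have hsv : ∀ x, d.1.1.1 *ᵥ x = (t : F) • x := fun x => by
        rw [show d.1.1.1 = (t : F) • (1 : Matrix ι ι F) from ht, Matrix.smul_mulVec, Matrix.one_mulVec]
      have h1 : Q (d.1.1.1 *ᵥ v₀) = Q v₀ := d.1.2 v₀ v₀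
      rw [hsv, QuadraticMap.map_smul, smul_eq_mul] at h1
      rcases mul_self_eq_one_iff.1 (mul_right_cancel₀ hv₀ (h1.trans (one_mul _).symm)) with e1 | e1
      · exact hx (by rw [hsv, e1, one_smul])
      · exact hy (by rw [hsv, e1, neg_one_smul])
    have hcomp : ∀ b : F, (mult g : F) = b * b → b ≠ 0 →
        (finrank F ↥(eigW g b) = 1 ∨ 3 ≤ finrank F ↥(eigW g b)) →
        (∃ d ∈ Nn, d * d = 1 ∧ rho ⇑Q (incl ⇑Q d.1) ≠ 1) ∨
          ∀ w ∈ eigW g b, (m * m).1.1.1 *ᵥ w = w := by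
      intro b hb hb0 hd
      have hg2b : ∀ v, g.1.1 *ᵥ (g.1.1 *ᵥ v) = (b * b) • v := fun v => hb ▸ hg2 v
      have hpm : ((∀ w ∈ eigW g b, m.1.1.1 *ᵥ w = w) ∨ ∀ w ∈ eigW g b, m.1.1.1 *ᵥ w = -w) →
          ∀ w ∈ eigW g b, (m * m).1.1.1 *ᵥ w = w := by
        rintro (h | h) w hw
        · rw [centSub_mul, h w hw, h w hw]
        · rw [centSub_mul, h w hw, Matrix.mulVec_neg, h w hw, neg_neg]
      rcases hd with hd | hd
      · exact Or.inr (hpm (eig_pm S g b hb0 hb hg2b hd m))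
      · by_cases h : (∀ w ∈ eigW g b, m.1.1.1 *ᵥ w = w) ∨ ∀ w ∈ eigW g b, m.1.1.1 *ᵥ w = -w
        · exact Or.inr (hpm h)
        · rw [not_or] at h
          obtain ⟨d, hd', hd2, x, -, hx, y, -, hy⟩ := eig_involution S g b hb0 hb hg2b hd Nn hNn hm h.1 h.2
          exact Or.inl ⟨d, hd', hd2, hnotscal d x y hx hy⟩
    rcases hcomp b hb hb0 (Or.inr hW) with h | h
    · exact h
    rcases hcomp (-b) hb' hnb0 hW' with h' | h'
    · exact h'
    refine ⟨m, hm, centSub_ext g fun x => ?_, hm1⟩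
    obtain ⟨u, hu, w, hw, rfl⟩ := eig_decomp S g b hb0 hg2b x
    rw [Matrix.mulVec_add, h u hu, h' w hw, centSub_one]
  · obtain ⟨hσ, lam, hlam⟩ := eig_scalar S g b hb0 hb hg2b hW a hfix
    have a0 : a.1.1 0 = 0 := by simpa using a.2.1 0 0
    have hlam0 : lam ≠ 0 := by
      intro e
      obtain ⟨x, hx, hqx⟩ := eig_exists_nz S g b hb0 hb hg2b fun e' => by rw [e', finrank_bot] at hW; omega
      have h1 := hlam x hx
      rw [e, zero_smul, ← a0] at h1
      exact hqx (by rw [a.1.1.injective h1, QuadraticMap.map_zero])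
    obtain ⟨M, hM0, hM⟩ := a.2.2.2
    have hM' : ∀ x, Q (a.1.1 x) = M * Q x := fun x => (hM x).trans (by rw [hσ])
    have hpol : ∀ x y, polar Q (a.1.1 x) (a.1.1 y) = M * polar Q x y := fun x y => by
      simp only [QuadraticMap.polar, ← a.2.1, hM']
      ring
    obtain ⟨lam', hlam'⟩ : ∃ lam' : F, ∀ w ∈ eigW g (-b), a.1.1 w = lam' • w := by
      rcases hW' with hd | hd
      · obtain ⟨x, hx, hqx⟩ := eig_exists_nz S g (-b) hnb0 hb' hg2b' fun e' => by
          rw [e', finrank_bot] at hd; exact zero_ne_one hd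
        have hax : a.1.1 x ∈ eigW g (-b) := by
          have e : (eigP g b hg2b (a.1.1 x)) = 0 := eigB_nd S g b hb0 hb hg2b _ fun y => by
            rw [eigB_apply]
            have h1 := eigW_orth S g b hb0 hb y.2 (sub_eigP_mem S g b hb0 hg2b (a.1.1 x))
            rw [polar_sub_right, sub_eq_zero] at h1
            rw [polar_comm, ← h1, show y.1 = a.1.1 (lam⁻¹ • y.1) by
              rw [a.2.2.1, hσ, hlam _ y.2, smul_smul, inv_mul_cancel₀ hlam0, one_smul],
              hpol, polar_smul_left, eigW_orth S g b hb0 hb y.2 hx, smul_zero, mul_zero]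
          have h1 := sub_eigP_mem S g b hb0 hg2b (a.1.1 x)
          rwa [e, ZeroMemClass.coe_zero, sub_zero] at h1
        have hx0 : (⟨x, hx⟩ : ↥(eigW g (-b))) ≠ 0 := fun e =>
          hqx (by rw [show x = 0 from congrArg Subtype.val e]; exact QuadraticMap.map_zero Q)
        obtain ⟨l, hl⟩ := (finrank_eq_one_iff_of_nonzero' _ hx0).1 hd ⟨_, hax⟩
        refine ⟨l, fun w hw => ?_⟩
        obtain ⟨t, ht⟩ := (finrank_eq_one_iff_of_nonzero' _ hx0).1 hd ⟨w, hw⟩
        have hl' : l • x = a.1.1 x := congrArg Subtype.val hl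
        have ht' : t • x = w := congrArg Subtype.val ht
        rw [← ht', a.2.2.1, hσ, ← hl', smul_comm]
      · exact (eig_scalar S g (-b) hnb0 hb' hg2b' hd a hfix).2
    have hq : ∀ {c l : F}, (mult g : F) = c * c → c ≠ 0 → eigW g c ≠ ⊥ → (∀ w ∈ eigW g c, a.1.1 w = l • w) →
        l * l = M := by
      intro c l hc hc0 hne hl
      obtain ⟨x, hx, hqx⟩ := eig_exists_nz S g c hc0 hc (fun v => hc ▸ hg2 v) hne
      have h1 := hM' x
      rw [hl x hx, QuadraticMap.map_smul, smul_eq_mul] at h1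
      exact mul_right_cancel₀ hqx h1
    have hll : lam * lam = lam' * lam' :=
      (hq hb hb0 (fun e' => by rw [e', finrank_bot] at hW; omega) hlam).trans
        (hq hb' hnb0 (fun e' => by rw [e', finrank_bot] at hW'; omega) hlam').symm
    rcases mul_self_eq_mul_self_iff.1 hll with e | e
    · left
      rw [← MonoidHom.mem_ker, mem_ker_autHom T]
      refine ⟨RingEquiv.ext hσ, lam, hlam0, fun x => ?_⟩
      obtain ⟨u, hu, w, hw, rfl⟩ := eig_decomp S g b hb0 hg2b x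
      rw [a.2.1, hlam u hu, hlam' w hw, ← e, smul_add]
    · right
      have hl0 : lam / b ≠ 0 := div_ne_zero hlam0 hb0
      have e' : a = goHom Q (scalarG Q (Units.mk0 _ hl0)) * goHom Q g := Subtype.ext (Prod.ext (Equiv.ext fun x => by
        show a.1.1 x = (scalarG Q (Units.mk0 _ hl0) : GL ι F).1 *ᵥ (g.1.1 *ᵥ x)
        obtain ⟨u, hu, w, hw, rfl⟩ := eig_decomp S g b hb0 hg2b x
        rw [a.2.1, hlam u hu, hlam' w hw, Orth.scalarG_mulVec, Units.val_mk0, Matrix.mulVec_add,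
          (mem_eigW g b).1 hu, (mem_eigW g (-b)).1 hw, e]
        match_scalars <;> field_simp) (RingEquiv.ext fun k => hσ k))
      rw [e', map_mul, autHom_goHom, autHom_goHom, Desc.rho_scalarG, one_mul]

include S T in
/-- The centraliser of an involution of negative sign has trivial odd core. -/
theorem graph_core [IsSimpleGroup (Cfsg.POmega F ⇑Q)] (h3 : 3 ≤ N) (g : ↥(GO ⇑Q)) (hgd : S.delta g ≠ 1)
    (hord : orderOf (rho ⇑Q g) = 2) (A : Subgroup (MulAut (Cfsg.POmega F ⇑Q))) (hinn : ∀ k, MulAut.conj k ∈ A)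
    (hsem : ∀ β : MulAut (Cfsg.POmega F ⇑Q), Commute β (rho ⇑Q g) → Odd (orderOf β) → ∃ a, autHom Q a = β) :
    Cfsg.pPrimeCore 2 ↥(A ⊓ Subgroup.centralizer {rho ⇑Q g}) = ⊥ := by
  haveI : Finite (Cfsg.POmega F ⇑Q) := Quotient.finite _
  have hk : g * g ∈ (rho ⇑Q).ker := by
    rw [MonoidHom.mem_ker, map_mul, ← pow_two, ← hord, pow_orderOf_eq_one]
  rw [S.hker] at hk
  obtain ⟨μ, hμ⟩ := (Cfsg.Geo.mem_scalars_iff _).1 hk
  have hg2' : ∀ v, g.1.1 *ᵥ (g.1.1 *ᵥ v) = (μ : F) • v := fun v => by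
    rw [Matrix.mulVec_mulVec, show g.1.1 * g.1.1 = (μ : F) • (1 : Matrix ι ι F) from hμ, Matrix.smul_mulVec,
      Matrix.one_mulVec]
  have hg2 : ∀ v, g.1.1 *ᵥ (g.1.1 *ᵥ v) = (mult g : F) • v := fun v => by
    rw [hg2', (root_data_sim S g hgd hg2').1]
  have hP : GraphProps g := by
    by_cases hsq : IsSquare (mult g : F)
    · exact graphProps_square S T g h3 hgd hsq hg2
    · exact graphProps_nonsquare S T g h3 hsq hg2
  obtain ⟨v₀, hv₀⟩ := S.exists_nz
  let π : ↥(centSub g) →* MulAut (Cfsg.POmega F ⇑Q) := ((rho ⇑Q).comp (incl ⇑Q)).comp (centSub g).subtype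
  refine LocalBalance.core_eq_bot A hinn (rho ⇑Q g) 1 (rho ⇑Q g) (by simp) fun L hL hn hc => ?_
  refine LocalBalance.graph_core_trivial' (rho ⇑Q g) (conj_injective T) π (fun h => ?_) (fun k hk => ?_) hP.1 ?_
    L hL hn hc
  · show Commute (rho ⇑Q (incl ⇑Q h.1)) (rho ⇑Q g)
    refine Commute.map (Subtype.ext ?_) _
    exact Subgroup.mem_centralizer_singleton_iff.1 h.2
  · obtain ⟨w, rfl⟩ := QuotientGroup.mk_surjective k
    have hcw : Commute (rho ⇑Q (incl ⇑Q w.1)) (rho ⇑Q g) := by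
      rw [Orth.rho_omega]
      refine MulEquiv.ext fun z => ?_
      simp only [MulAut.mul_apply, MulAut.conj_apply, map_mul, map_inv, hk]
    have hmem : incl ⇑Q w.1 * g * (g * incl ⇑Q w.1)⁻¹ ∈ (rho ⇑Q).ker := by
      rw [MonoidHom.mem_ker, map_mul, map_inv, map_mul, map_mul, hcw.eq, mul_inv_cancel]
    rw [S.hker] at hmem
    obtain ⟨z, hz⟩ := (Cfsg.Geo.mem_scalars_iff _).1 hmem
    have hwg : ∀ v, w.1.1.1 *ᵥ (g.1.1 *ᵥ v) = (z : F) • g.1.1 *ᵥ (w.1.1.1 *ᵥ v) := fun v => by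
      obtain ⟨e', he'⟩ : ∃ e', e' = incl ⇑Q w.1 * g * (g * incl ⇑Q w.1)⁻¹ := ⟨_, rfl⟩
      have h1 : incl ⇑Q w.1 * g = e' * (g * incl ⇑Q w.1) := by rw [he', inv_mul_cancel_right]
      have h2 : e'.1.1 = (z : F) • (1 : Matrix ι ι F) := he' ▸ hz
      have h3 : w.1.1.1 * g.1.1 = e'.1.1 * (g.1.1 * w.1.1.1) :=
        congrArg (fun b : ↥(GO ⇑Q) => (b : GL ι F).1) h1
      rw [h2, smul_mul_assoc, one_mul] at h3
      rw [Matrix.mulVec_mulVec, h3, Matrix.smul_mulVec, Matrix.mulVec_mulVec]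
    have hz2 : (z : F) * z = 1 := by
      have hq : ∀ u, Q (w.1.1.1 *ᵥ u) = Q u := fun u => w.1.2 u u
      have e := hq (g.1.1 *ᵥ v₀)
      rw [hwg, QuadraticMap.map_smul, smul_eq_mul, Orth.mult_spec, hq, Orth.mult_spec] at e
      exact mul_right_cancel₀ (mul_ne_zero (Units.ne_zero (mult g)) hv₀) (e.trans (one_mul _).symm)
    refine ⟨⟨w.1 * w.1, Subgroup.mem_centralizer_singleton_iff.2 (Units.ext (Matrix.ext_of_mulVec_single fun i => ?_))⟩, ?_⟩
    · show (w.1.1.1 * w.1.1.1 * g.1.1) *ᵥ _ = (g.1.1 * (w.1.1.1 * w.1.1.1)) *ᵥ _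
      simp only [← Matrix.mulVec_mulVec]
      rw [hwg, Matrix.mulVec_smul, hwg, smul_smul, hz2, one_smul]
    · show rho ⇑Q (incl ⇑Q (w.1 * w.1)) = _
      rw [map_mul, map_mul, map_mul, Orth.rho_omega]
  · intro l hl hodd hfixl
    obtain ⟨a, rfl⟩ := hsem l hl hodd
    have hfix : ∀ h : ↥(centSub g), ∀ x,
        a.1.1 ((h * h * (h * h)).1.1.1 *ᵥ x) = (h * h * (h * h)).1.1.1 *ᵥ a.1.1 x := by
      intro h x
      let s : ↥(Cfsg.Omega F ⇑Q) := ⟨h.1 * h.1, isometry_sq_mem_omega S h.1⟩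
      have hcs : Commute (rho ⇑Q (incl ⇑Q s.1)) (rho ⇑Q g) := by
        refine Commute.map (Subtype.ext ?_) _
        exact Subgroup.mem_centralizer_singleton_iff.1 (h * h).2
      have hxs : rho ⇑Q g (QuotientGroup.mk s) = QuotientGroup.mk s := by
        apply conj_injective T
        rw [Orth.rho_omega] at hcs
        refine MulEquiv.ext fun y => ?_
        have e := congrArg (fun β : MulAut (Cfsg.POmega F ⇑Q) => β ((rho ⇑Q g)⁻¹ y)) hcs.eq
        simp only [MulAut.mul_apply, MulAut.conj_apply, MulAut.apply_inv_self, map_mul, map_inv] at e ⊢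
        exact e.symm
      have hk : a * goHom Q (incl ⇑Q s.1) * a⁻¹ * (goHom Q (incl ⇑Q s.1))⁻¹ ∈ (autHom Q).ker := by
        rw [MonoidHom.mem_ker, map_mul, map_mul, map_mul, map_inv, map_inv, autHom_goHom, Orth.rho_omega]
        refine MulEquiv.ext fun y => ?_
        simp [hfixl _ hxs, mul_assoc]
      obtain ⟨-, z, -, hz⟩ := (mem_ker_autHom T _).1 hk
      have hzy : ∀ y, a.1.1 ((h * h).1.1.1 *ᵥ y) = z • (h * h).1.1.1 *ᵥ a.1.1 y := fun y =>
        (congrArg (fun b : ↥(Gam Q) => b.1.1 y)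
          (show a * goHom Q (incl ⇑Q s.1) = a * goHom Q (incl ⇑Q s.1) * a⁻¹ * (goHom Q (incl ⇑Q s.1))⁻¹ *
            (goHom Q (incl ⇑Q s.1) * a) by group)).trans (hz _)
      have hz2 : z * z = 1 := by
        have hq : ∀ u, Q ((h * h).1.1.1 *ᵥ u) = Q u := fun u => (h * h).1.2 u u
        obtain ⟨M, hM0, hM⟩ := a.2.2.2
        have e := hM ((h * h).1.1.1 *ᵥ v₀)
        rw [hzy, QuadraticMap.map_smul, smul_eq_mul, hq, hM, hq] at e
        exact mul_right_cancel₀ (mul_ne_zero hM0 ((map_ne_zero a.1.2).2 hv₀)) (e.trans (one_mul _).symm)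
      rw [centSub_mul, hzy, hzy, Matrix.mulVec_smul, smul_smul, hz2, one_smul, ← centSub_mul]
    rcases hP.2 a hfix (by exact hl) with e | e
    · exact e
    · rw [e, hord] at hodd
      exact absurd hodd (by decide)

end Cfsg.Agent.Small.OrthAut
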