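import Cfsg.Agent.Lib.Small.OrthAut.MinusClasses
import Cfsg.Agent.Lib.Small.QuadModels

/-!
Field and graph-field automorphisms of prime order: each is the automorphism of a structure over the
fixed field with one of the standard rational forms.
-/

set_option autoImplicit false
set_option linter.unusedSectionVars false
set_option linter.style.haveILetI false

namespace Cfsg.Agent.Small.OrthAut

open Module QuadraticMap Matrix
open Cfsg.Agent.Classical
open Cfsg.Agent.Classical.OCount Cfsg.Agent.Classical.ORefl Cfsg.Agent.Classical.OOmega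
open Cfsg.Agent.Small.Orth (GO incl scalarG rho mult SimSetup prodRf innSub omegaSub qPlus qMinus uMinus)

universe u v

section General

variable {F : Type u} [Field F] [Fintype F] {ι : Type} [Fintype ι] [DecidableEq ι] {Q : QuadraticForm F (ι → F)}

/-- Only one automorphism is induced by a semisimilitude. -/
theorem Semi.induced_unique (l : Semi Q) (β : MulAut (Cfsg.POmega F ⇑Q))
    (h : Cfsg.IsInducedBySemilinearPOmega (⇑Q) l.gl l.σ β) : β = l.autP := by
  refine MulEquiv.ext fun x => ?_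
  obtain ⟨s, rfl⟩ := QuotientGroup.mk_surjective x
  obtain ⟨g, rfl⟩ := toOmega_surjective s
  rw [l.autP_mk]
  refine h _ _ (Matrix.ext_of_mulVec_single fun j => ?_)
  rw [toOmega_val, toMat_apply, toOmega_val]
  obtain ⟨y, hy⟩ := l.L.surjective (Pi.single j 1)
  rw [← hy]
  show ap (l.cg g) (l.L y) = _
  rw [l.ap_cg_L, ← Matrix.mulVec_mulVec, ← Matrix.mulVec_mulVec]
  conv_rhs =>
    rw [← l.matrix_map y, ← l.coe_gl, Matrix.mulVec_mulVec (M := ((l.gl⁻¹ : GL ι F) : Matrix ι ι F)),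
      ← Units.val_mul, inv_mul_cancel, Units.val_one, Matrix.one_mulVec, map_mulVec_comp, toMat_apply]
  exact (l.matrix_map _).symm

theorem coordSemi_gl (σ : F ≃+* F) (h : ∀ x : ι → F, Q (fun i => σ (x i)) = σ (Q x)) :
    (coordSemi σ h).gl = 1 := Units.ext (Matrix.ext_of_mulVec_single fun i => by
  rw [Semi.coe_gl, Semi.matrix_mulVec, Units.val_one, Matrix.one_mulVec]
  exact funext fun k => σ.apply_symm_apply _)

/-- The field automorphism of the form is that of the coordinate semisimilitude. -/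
theorem fieldAut_eq {σ : F ≃+* F} (h : ∀ x : ι → F, Q (fun i => σ (x i)) = σ (Q x))
    {φ : MulAut (Cfsg.POmega F ⇑Q)} (hφ : Cfsg.IsFieldAutPOmegaOf ⇑Q σ φ) :
    φ = autHom Q (ofSemi (coordSemi σ h)) := by
  rw [autHom_ofSemi]
  refine Semi.induced_unique _ φ fun s s' e => hφ s s' ?_
  rw [e, coordSemi_gl]
  simp only [inv_one, Units.val_one, Matrix.one_mul, Matrix.mul_one]
  rfl

/-- The order of the field automorphism of an element of prime order. -/
theorem orderOf_sig (S : Setup Q) (a : ↥(Gam Q)) {r : ℕ} (hr : r.Prime) (hne : sigG Q a ≠ 1)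
    (ha : orderOf (autHom Q a) = r) : orderOf (sigG Q a) = r := by
  haveI := Fact.mk hr
  refine orderOf_eq_prime ?_ hne
  exact (by
    have h : a ^ r ∈ (autHom Q).ker := by
      rw [MonoidHom.mem_ker, map_pow, ← ha]; exact pow_orderOf_eq_one _
    have h1 : sigG Q (a ^ r) = 1 := ((mem_ker_autHom S _).1 h).1
    rwa [map_pow] at h1)

theorem ringAut_comm {p f : ℕ} [Fact p.Prime] (hF : Fintype.card F = p ^ f) (s t : RingAut F) :
    s * t = t * s := by
  obtain ⟨e⟩ := PSLn.fieldAut_equiv hF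
  exact e.injective ((e.map_mul s t).trans ((mul_comm _ _).trans (e.map_mul t s).symm))

theorem exists_card : ∃ p f : ℕ, p.Prime ∧ 1 ≤ f ∧ Fintype.card F = p ^ f := by
  obtain ⟨p, hp⟩ := CharP.exists F
  obtain ⟨n, hp', hn⟩ := FiniteField.card F p
  exact ⟨p, n, hp', n.2, hn⟩

theorem ringAut_comm' (s t : RingAut F) : s * t = t * s := by
  obtain ⟨p, f, hp, -, hF⟩ := exists_card (F := F)
  haveI := Fact.mk hp
  exact ringAut_comm hF s t

/-- A conjugate lies in the coset of the similitudes. -/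
theorem coset_of_conj (S : Setup Q) (hL : NoLag Q) {x α : MulAut (Cfsg.POmega F ⇑Q)} (a : ↥(Gam Q))
    (h : α * x * α⁻¹ = autHom Q a) :
    ∃ g : ↥(GO ⇑Q), x = rho ⇑Q g * autHom Q a ∧ ∀ χ : ↥(Gam Q) →* ℤˣ, χ (goHom Q g) = 1 := by
  obtain ⟨b, rfl⟩ := autHom_surjective S hL α
  obtain ⟨g, hg⟩ : b⁻¹ * a * b * a⁻¹ ∈ (goHom Q).range := by
    rw [range_goHom, MonoidHom.mem_ker, map_mul, map_mul, map_mul, map_inv, map_inv,
      ringAut_comm' (sigG Q b)⁻¹ (sigG Q a), inv_mul_cancel_right, mul_inv_cancel]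
  refine ⟨g, ?_, fun χ => ?_⟩
  · rw [← autHom_goHom, hg, ← map_mul, inv_mul_cancel_right, map_mul, map_mul, map_inv, ← h]
    group
  · rw [hg, map_mul, map_mul, map_mul, map_inv, map_inv, mul_comm (χ b)⁻¹ (χ a), inv_mul_cancel_right, mul_inv_cancel]

/-- Data of a field automorphism of prime order. -/
theorem field_class (S : Setup Q) (hco : ∀ (σ : F ≃+* F) (x : ι → F), Q (fun i => σ (x i)) = σ (Q x))
    {x : MulAut (Cfsg.POmega F ⇑Q)} (hx : Cfsg.IsFieldAutClassPOmega ⇑Q x) {r : ℕ} (hr : r.Prime)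
    (hxr : orderOf x = r) :
    ∃ (α : MulAut (Cfsg.POmega F ⇑Q)) (σ : F ≃+* F),
      α * x * α⁻¹ = autHom Q (ofSemi (coordSemi σ (hco σ))) ∧ orderOf (σ : RingAut F) = r := by
  obtain ⟨α, φ, σ, hσ, hφ, he⟩ := hx
  obtain rfl := fieldAut_eq (hco σ) hφ
  refine ⟨α, σ, he, orderOf_sig S (ofSemi (coordSemi σ (hco σ))) hr hσ ?_⟩
  rw [← he, ← hxr]
  exact MulEquiv.orderOf_eq (MulAut.conj α) x

end General

section Desc

variable {F : Type u} [Field F] [Fintype F] {F₀ : Type v} [Field F₀] [Fintype F₀]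
  {ι : Type} [Fintype ι] [DecidableEq ι] {κ : Type} [Fintype κ] [DecidableEq κ]
  {Q : QuadraticForm F (ι → F)} {Q₀ : QuadraticForm F₀ (κ → F₀)} {σ : RingAut F} {j : F₀ →+* F}

/-- The form over the large field. -/
theorem Desc.form_ext (D : Desc Q Q₀ σ j) {QF : QuadraticForm F (κ → F)} (h : ∀ y, QF (j ∘ y) = j (Q₀ y))
    (z : κ → F) : Q (D.T z) = D.c * QF z := by
  have e : QuadraticMap.comp Q D.T.toLinearMap = D.c • QF := ext_of_rat j fun y => by
    rw [QuadraticMap.comp_apply, LinearEquiv.coe_coe, D.form, _root_.QuadraticMap.smul_apply, smul_eq_mul, h]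
  exact congrArg (fun M : QuadraticForm F (κ → F) => M z) e

/-- The structure with the identity frame. -/
noncomputable def stdDesc {Q : QuadraticForm F (κ → F)} (hfix : ∀ y, σ y = y ↔ y ∈ Set.range j)
    (h : ∀ y : κ → F₀, Q (j ∘ y) = j (Q₀ y)) : Desc Q Q₀ σ j where
  T := LinearEquiv.refl F (κ → F)
  c := 1
  hc := one_ne_zero
  fix := hfix
  form y := by rw [one_mul]; exact h y

theorem stdDesc_x {Q : QuadraticForm F (κ → F)} (hfix : ∀ y, σ y = y ↔ y ∈ Set.range j)
    (h : ∀ y : κ → F₀, Q (j ∘ y) = j (Q₀ y)) (hco : ∀ x : κ → F, Q (fun i => σ (x i)) = σ (Q x)) :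
    (stdDesc hfix h).x = autHom Q (ofSemi (coordSemi σ hco)) :=
  congrArg (autHom Q) (Subtype.ext (Prod.ext (Equiv.ext fun _ => rfl) rfl))

/-- Anisotropic planes stay anisotropic in odd degree. -/
theorem aniso_odd (hfix : ∀ y, σ y = y ↔ y ∈ Set.range j) (hodd : Odd (orderOf σ)) {a b : F₀}
    (hab : ∀ z₁ z₂ : F₀, z₁ ^ 2 + a * z₁ * z₂ + b * z₂ ^ 2 = 0 → z₁ = 0 ∧ z₂ = 0) :
    ∀ z₁ z₂ : F, z₁ ^ 2 + j a * z₁ * z₂ + j b * z₂ ^ 2 = 0 → z₁ = 0 ∧ z₂ = 0 := by
  intro z₁ z₂ h
  by_cases h2 : z₂ = 0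
  · subst h2
    exact ⟨pow_eq_zero_iff two_ne_zero |>.1 (by linear_combination h), rfl⟩
  exfalso
  obtain ⟨t, ht⟩ : ∃ t : F, t ^ 2 + j a * t + j b = 0 := ⟨z₁ / z₂, by field_simp; linear_combination h⟩
  have hσt : σ t ^ 2 + j a * σ t + j b = 0 := by
    have := congrArg σ ht
    rwa [map_add, map_add, map_pow, map_mul, (hfix (j a)).2 ⟨a, rfl⟩, (hfix (j b)).2 ⟨b, rfl⟩, map_zero] at this
  have hroot : (σ t - t) * (σ t + t + j a) = 0 := by linear_combination hσt - ht
  rcases mul_eq_zero.1 hroot with e | e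
  · obtain ⟨y, rfl⟩ := (hfix t).1 (sub_eq_zero.1 e)
    exact one_ne_zero (hab y 1 (j.injective (by simpa using ht))).2
  · have hσσ : σ (σ t) = t := by
      rw [show σ t = -t - j a by linear_combination e, map_sub, map_neg, (hfix (j a)).2 ⟨a, rfl⟩]
      linear_combination -e
    obtain ⟨k, hk⟩ := hodd
    have hev : ∀ i : ℕ, ((σ ^ (2 * i) : RingAut F) : F ≃+* F) t = t := fun i => by
      induction i with
      | zero => rfl
      | succ i ih => rw [show 2 * (i + 1) = (2 * i + 1) + 1 by ring, pow_succ', pow_succ']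
                     show σ (σ ((σ ^ (2 * i) : RingAut F) t)) = t
                     rw [ih, hσσ]
    have h1 : ((σ ^ orderOf σ : RingAut F)) t = t := by rw [pow_orderOf_eq_one]; rfl
    rw [hk, pow_succ'] at h1
    have hfx : σ t = t := by
      refine Eq.trans ?_ h1
      show σ t = σ ((σ ^ (2 * k) : RingAut F) t)
      rw [hev]
    obtain ⟨y, rfl⟩ := (hfix t).1 hfx
    exact one_ne_zero (hab y 1 (j.injective (by simpa using ht))).2

/-- A square in the large field. -/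
theorem isSquare_iff_of_odd (hfix : ∀ y, σ y = y ↔ y ∈ Set.range j) (hodd : Odd (orderOf σ)) (a : F₀) :
    IsSquare (j a) ↔ IsSquare a := by
  refine ⟨?_, fun h => h.map j⟩
  rintro ⟨s, hs⟩
  have hσs : σ s * σ s = s * s := by rw [← map_mul, ← hs]; exact (hfix _).2 ⟨a, rfl⟩
  rcases mul_self_eq_mul_self_iff.1 hσs with e | e
  · obtain ⟨y, rfl⟩ := (hfix s).1 e
    exact ⟨y, j.injective (by rw [hs, map_mul])⟩
  · have hev : ∀ i : ℕ, ((σ ^ i : RingAut F) : F ≃+* F) s = (-1) ^ i * s := fun i => by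
      induction i with
      | zero => rw [pow_zero, pow_zero, one_mul]; rfl
      | succ i ih => rw [pow_succ']
                     show σ ((σ ^ i : RingAut F) s) = _
                     rw [ih, map_mul, map_pow, map_neg, map_one, e, pow_succ]
                     ring
    have h1 : ((σ ^ orderOf σ : RingAut F)) s = s := by rw [pow_orderOf_eq_one]; rfl
    rw [hev, hodd.neg_one_pow] at h1
    obtain ⟨y, rfl⟩ := (hfix s).1 (e.trans (by linear_combination h1))
    exact ⟨y, j.injective (by rw [hs, map_mul])⟩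

end Desc

section Classify

variable {F : Type u} [Field F] [Fintype F] {F₀ : Type v} [Field F₀] [Fintype F₀]
  {κ : Type} [Fintype κ] [DecidableEq κ] {σ : RingAut F} {j : F₀ →+* F}

/-- In odd dimension every rational form is the standard one. -/
theorem exists_desc_odd {m : ℕ} {Q₁ : QuadraticForm F₀ (κ → F₀)} (D₁ : Desc (qOdd F m) Q₁ σ j) (hQ₁ : PND Q₁) :
    ∃ D : Desc (qOdd F m) (qOdd F₀ m) σ j, ofSemi D.semi = ofSemi D₁.semi := by
  have hc : Fintype.card κ = 2 * m + 1 := by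
    have h := D₁.T.finrank_eq
    simp [Module.finrank_fintype_fun_eq_card] at h
    omega
  obtain ⟨d, L, hd, hL⟩ := QuadModels.odd_model Q₁ (by rw [Module.finrank_fintype_fun_eq_card, hc])
    (QuadModels.nondegenerate hQ₁)
  exact ⟨D₁.retarget L hd fun y => by rw [hL, coe_odd], D₁.semi_retarget L hd _⟩

/-- In even dimension the sign decides the rational form. -/
theorem classify_plus {k : ℕ} (P : Split (qPlus F (k + 1)) (k + 1)) {Q₁ : QuadraticForm F₀ (κ → F₀)}
    (D₁ : Desc (qPlus F (k + 1)) Q₁ σ j) (hQ₁ : PND Q₁) (hr : (orderOf σ).Prime) (a b : F₀)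
    (hab : ∀ z₁ z₂ : F₀, z₁ ^ 2 + a * z₁ * z₂ + b * z₂ ^ 2 = 0 → z₁ = 0 ∧ z₂ = 0) :
    (P.cls (ofSemi D₁.semi) = 1 ∧
      ∃ D : Desc (qPlus F (k + 1)) (qPlus F₀ (k + 1)) σ j, ofSemi D.semi = ofSemi D₁.semi) ∨
    (P.cls (ofSemi D₁.semi) ≠ 1 ∧ orderOf σ = 2 ∧
      ∃ D : Desc (qPlus F (k + 1)) (qMinus k a b) σ j, ofSemi D.semi = ofSemi D₁.semi) := by
  have hc : Fintype.card κ = 2 * (k + 1) := by
    have h := D₁.T.finrank_eq
    simp [Module.finrank_fintype_fun_eq_card] at h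
    omega
  rcases QuadModels.even_model Q₁ (show 1 ≤ k + 1 by omega) (by rw [Module.finrank_fintype_fun_eq_card, hc])
      (QuadModels.nondegenerate hQ₁) a b hab with ⟨L, hL⟩ | ⟨L, hL⟩
  · obtain ⟨D, hD⟩ : ∃ D : Desc (qPlus F (k + 1)) (qPlus F₀ (k + 1)) σ j, ofSemi D.semi = ofSemi D₁.semi :=
      ⟨D₁.retarget L one_ne_zero fun y => by rw [hL, one_mul, coe_plus], D₁.semi_retarget L one_ne_zero _⟩
    exact .inl ⟨hD ▸ cls_desc_plus P rfl D, D, hD⟩
  · obtain ⟨D, hD⟩ : ∃ D : Desc (qPlus F (k + 1)) (qMinus k a b) σ j, ofSemi D.semi = ofSemi D₁.semi :=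
      ⟨D₁.retarget L one_ne_zero fun y => by rw [hL, one_mul]; exact (congrFun (coe_minus _ a b) y).symm,
        D₁.semi_retarget L one_ne_zero _⟩
    rcases hr.eq_two_or_odd' with h2 | hodd
    · exact .inr ⟨hD ▸ cls_desc_minus P rfl hab D h2, h2, D, hD⟩
    · exfalso
      obtain ⟨U, hU, hUdim⟩ := P.ex
      have hU' : ∀ z ∈ U.map D.T.symm.toLinearMap, Cfsg.quadFormMinus k F (j a) (j b) z = 0 := by
        rintro _ ⟨w, hw, rfl⟩
        have e := D.form_ext (QF := qMinus k (j a) (j b)) (fun y => Orth.qMinus_map (σ := j) y) (D.T.symm w)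
        rw [D.T.apply_symm_apply, hU w hw, eq_comm, mul_eq_zero, or_iff_right D.hc] at e
        exact (congrFun (coe_minus k (j a) (j b)) _).symm.trans e
      have h := OEven.minus_model_no_half (aniso_odd D.fix hodd hab) hU'
      rw [LinearEquiv.finrank_map_eq, hUdim] at h
      omega

/-- A structure of odd degree on the minus form has a minus rational form. -/
theorem classify_minus {m : ℕ} {a b : F} (hab : ∀ z₁ z₂ : F, z₁ ^ 2 + a * z₁ * z₂ + b * z₂ ^ 2 = 0 → z₁ = 0 ∧ z₂ = 0)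
    {Q₁ : QuadraticForm F₀ (κ → F₀)} (D₁ : Desc (qMinus m a b) Q₁ σ j) (hQ₁ : PND Q₁) (a₀ b₀ : F₀)
    (hab₀ : ∀ z₁ z₂ : F₀, z₁ ^ 2 + a₀ * z₁ * z₂ + b₀ * z₂ ^ 2 = 0 → z₁ = 0 ∧ z₂ = 0) :
    ∃ D : Desc (qMinus m a b) (qMinus m a₀ b₀) σ j, ofSemi D.semi = ofSemi D₁.semi := by
  have hc : Fintype.card κ = 2 * (m + 1) := by
    have h := D₁.T.finrank_eq
    simp [Module.finrank_fintype_fun_eq_card] at h
    omega
  rcases QuadModels.even_model Q₁ (show 1 ≤ m + 1 by omega) (by rw [Module.finrank_fintype_fun_eq_card, hc])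
      (QuadModels.nondegenerate hQ₁) a₀ b₀ hab₀ with ⟨L, hL⟩ | ⟨L, hL⟩
  · exfalso
    obtain ⟨D, -⟩ : ∃ D : Desc (qMinus m a b) (qPlus F₀ (m + 1)) σ j, ofSemi D.semi = ofSemi D₁.semi :=
      ⟨D₁.retarget L one_ne_zero fun y => by rw [hL, one_mul, coe_plus], D₁.semi_retarget L one_ne_zero _⟩
    have hU : ∀ z ∈ (Orth.zeroRight F (m + 1)).map D.T.toLinearMap, Cfsg.quadFormMinus m F a b z = 0 := by
      rintro _ ⟨w, hw, rfl⟩
      refine (congrFun (coe_minus m a b) _).symm.trans ?_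
      show qMinus m a b (D.T w) = 0
      rw [D.form_ext (QF := qPlus F (m + 1)) (fun y => by simp [coe_plus, Cfsg.quadFormPlus]) w,
        Orth.zeroRight_singular F w hw, mul_zero]
    have h := OEven.minus_model_no_half hab hU
    rw [LinearEquiv.finrank_map_eq, Orth.finrank_zeroRight] at h
    omega
  · exact ⟨D₁.retarget L one_ne_zero fun y => by rw [hL, one_mul]; exact (congrFun (coe_minus _ a₀ b₀) y).symm,
      D₁.semi_retarget L one_ne_zero _⟩

end Classify

end Cfsg.Agent.Small.OrthAut
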