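import Cfsg.Agent.Lib.Small.OrthAut.Out

/-!
A semisimilitude of the minus form over the Frobenius automorphism; its `f`-th power acts on the
anisotropic plane as a reflection.
-/

set_option autoImplicit false
set_option linter.unusedSectionVars false
set_option linter.style.haveILetI false

namespace Cfsg.Agent.Small.OrthAut

open Module QuadraticMap Matrix
open Cfsg.Agent.Classical
open Cfsg.Agent.Classical.OCount Cfsg.Agent.Classical.ORefl Cfsg.Agent.Classical.OOmega
open Cfsg.Agent.Small.Orth (GO incl qMinus innSub prodRf prodRf_cons prodRf_nil)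

section Frobenius

variable {F : Type*} [Field F] [Fintype F]

/-- The Frobenius automorphism and its order. -/
theorem exists_frob {p f : ℕ} [Fact p.Prime] (hf : 1 ≤ f) (hF : Fintype.card F = p ^ f) :
    ∃ σ : RingAut F, (∀ (k : ℕ) (x : F), (σ ^ k) x = x ^ p ^ k) ∧ σ ^ f = 1 ∧ orderOf σ = f ∧
      Subgroup.zpowers σ = ⊤ := by
  haveI : CharP F p := charP_of_card_eq_prime_pow hF
  haveI : ExpChar F p := ExpChar.prime Fact.out
  haveI : PerfectRing F p := PerfectField.toPerfectRing p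
  obtain ⟨σ, hσ⟩ : ∃ σ : RingAut F, σ = frobeniusEquiv F p := ⟨_, rfl⟩
  have hpow : ∀ (k : ℕ) (x : F), (σ ^ k) x = x ^ p ^ k := by
    intro k
    induction k with
    | zero => intro x; rw [pow_zero, pow_zero, pow_one]; rfl
    | succ k ih =>
      intro x
      rw [pow_succ', show (σ * σ ^ k) x = σ ((σ ^ k) x) from rfl, ih, hσ, frobeniusEquiv_def, ← pow_mul, pow_succ]
  have hone : σ ^ f = 1 := RingEquiv.ext fun x => by
    rw [hpow, ← hF, FiniteField.pow_card]; rfl
  have hord : orderOf σ = f := by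
    rw [orderOf_eq_iff (by omega)]
    refine ⟨hone, fun k hk hk0 h => ?_⟩
    obtain ⟨g, hg⟩ := IsCyclic.exists_ofOrder_eq_natCard (α := Fˣ)
    have h1 : g ^ (p ^ k - 1) = 1 := by
      have h2 : g ^ p ^ k = g := Units.ext (by
        rw [Units.val_pow_eq_pow_val, ← hpow k, h]; rfl)
      rw [← mul_left_inj g, one_mul, ← pow_succ, Nat.sub_add_cancel (Nat.one_le_pow _ _ (Fact.out : p.Prime).pos), h2]
    have h3 := orderOf_dvd_of_pow_eq_one h1
    rw [hg, Nat.card_units, Nat.card_eq_fintype_card, hF] at h3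
    have h4 : p ^ k < p ^ f := Nat.pow_lt_pow_right (Fact.out : p.Prime).one_lt hk
    have h5 : 1 < p ^ k := Nat.one_lt_pow (by omega) (Fact.out : p.Prime).one_lt
    have h6 := Nat.le_of_dvd (by omega) h3
    omega
  haveI : Finite (RingAut F) := Finite.of_injective (fun s : RingAut F => ⇑s) fun _ _ h => RingEquiv.ext (congrFun h)
  exact ⟨σ, hpow, hone, hord,
    Subgroup.eq_top_of_card_eq _ (by rw [Nat.card_zpowers, hord, card_fieldAut hF])⟩

end Frobenius

section Power

variable {F : Type*} [Field F] [Fintype F] {m : ℕ} {a b : F}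

/-- The powers of a semisimilitude of the minus form. -/
theorem semi_pow (l : Semi (qMinus m a b)) (σ : RingAut F) (u v : F) (hL : ∀ x, l.L x = minusMap m σ u v x)
    (U P : ℕ → F) (hU0 : U 0 = 0) (hP0 : P 0 = 1) (hU : ∀ k, U (k + 1) = σ (U k) + u * σ (P k))
    (hP : ∀ k, P (k + 1) = v * σ (P k)) :
    ∀ (k : ℕ) (x : (Fin m ⊕ Fin m) ⊕ Fin 2 → F),
      (ofSemi l ^ k).1.1 x = minusMap m (σ ^ k) (U k) (P k) x := by
  intro k
  induction k with
  | zero =>
    intro x
    rw [pow_zero, pow_zero, hU0, hP0]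
    funext i
    rcases i with i | i
    · rfl
    · fin_cases i <;> simp [minusMap]
  | succ k ih =>
    intro x
    rw [pow_succ', show (ofSemi l * ofSemi l ^ k).1.1 x = l.L ((ofSemi l ^ k).1.1 x) from rfl, hL, ih, pow_succ']
    funext i
    rcases i with i | i
    · rfl
    · fin_cases i <;> simp [minusMap, hU, hP, RingAut.mul_apply] <;> ring

/-- The matrix of a linear map fixing the hyperbolic pairs. -/
theorem coe_of_minusMap (g : ↥(GO ⇑(qMinus m a b))) (U P : F)
    (h : ∀ x, g.1.1 *ᵥ x = minusMap m (1 : RingAut F) U P x) :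
    g.1.1 = Matrix.fromBlocks 1 0 0 !![1, U; 0, P] :=
  Matrix.ext_of_mulVec_single fun i => by
    rw [h, Matrix.fromBlocks_mulVec]
    funext j
    rcases j with j | j
    · simp [minusMap]
    · fin_cases j <;> simp [minusMap, Matrix.mulVec, dotProduct, Fin.sum_univ_two]

theorem det_of_minusMap (g : ↥(GO ⇑(qMinus m a b))) (U P : F)
    (h : ∀ x, g.1.1 *ᵥ x = minusMap m (1 : RingAut F) U P x) : g.1.1.det = P := by
  rw [coe_of_minusMap g U P h, Matrix.det_fromBlocks_zero₂₁, Matrix.det_one, one_mul, Matrix.det_fin_two_of]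
  ring

/-- In odd characteristic: the Frobenius semisimilitude. -/
theorem frob_minus_odd {p f : ℕ} [Fact p.Prime] (hF : Fintype.card F = p ^ f) (h2 : (2 : F) ≠ 0)
    (hab : ∀ z₁ z₂ : F, z₁ ^ 2 + a * z₁ * z₂ + b * z₂ ^ 2 = 0 → z₁ = 0 ∧ z₂ = 0)
    (σ : RingAut F) (hσ : ∀ (k : ℕ) (x : F), (σ ^ k) x = x ^ p ^ k) (hσf : σ ^ f = 1) :
    ∃ (l : Semi (qMinus m a b)) (g : ↥(GO ⇑(qMinus m a b))), l.σ = σ ∧ l.N = 1 ∧
      ofSemi l ^ f = goHom _ g ∧ (∀ y, qMinus m a b (g.1.1 *ᵥ y) = qMinus m a b y) ∧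
      g.1.1.det = -1 := by
  have hD : ¬ IsSquare (a * a - 4 * b) := by
    rintro ⟨s, hs⟩
    exact one_ne_zero (hab ((-a + s) / 2) 1 (by field_simp; linear_combination -hs)).2
  have hD0 : a * a - 4 * b ≠ 0 := fun h => hD (by rw [h]; exact IsSquare.zero)
  have hσ1 : ∀ x, σ x = x ^ p := fun x => by simpa using hσ 1 x
  have hodd : Odd p := by
    rcases (Fact.out : p.Prime).eq_two_or_odd' with rfl | h
    · haveI : CharP F 2 := charP_of_card_eq_prime_pow hF
      exact absurd CharTwo.two_eq_zero h2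
    · exact h
  obtain ⟨r, hr⟩ := hodd
  obtain ⟨D, hDdef⟩ : ∃ D, D = a * a - 4 * b := ⟨_, rfl⟩
  have hv : D ^ r * D ^ r * D = σ a * σ a - 4 * σ b := by
    rw [show D ^ r * D ^ r * D = D ^ p by rw [hr]; ring, ← hσ1, hDdef]
    simp [map_ofNat]
  obtain ⟨u, hu⟩ : ∃ u, u = (σ a - a * D ^ r) / 2 := ⟨_, rfl⟩
  have h1 : 2 * u + a * D ^ r = σ a := by rw [hu]; field_simp; ring
  have h3 : u ^ 2 + a * u * D ^ r + b * (D ^ r) ^ 2 = σ b := by
    have h4 : (4 : F) ≠ 0 := by rw [show (4 : F) = 2 * 2 by norm_num]; exact mul_ne_zero h2 h2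
    refine mul_left_cancel₀ h4 ?_
    linear_combination (2 * u + a * D ^ r + σ a) * h1 - hv + D ^ r * D ^ r * hDdef
  obtain ⟨l, hl, hN, hL⟩ := exists_minus_semi (m := m) hab σ u (D ^ r)
    (pow_ne_zero _ (hDdef ▸ hD0)) h1 h3
  let P : ℕ → F := fun k => Nat.rec (1 : F) (fun _ y => D ^ r * σ y) k
  let U : ℕ → F := fun k => Nat.rec (0 : F) (fun j y => σ y + u * σ (P j)) k
  have hP : ∀ k, P k ^ 2 * D = D ^ p ^ k ∧ ∃ e, P k = D ^ e ∧ 2 * e + 1 = p ^ k := by
    intro k
    induction k with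
    | zero => exact ⟨by simp [P], 0, by simp [P], by simp⟩
    | succ k ih =>
      obtain ⟨-, e, he, hek⟩ := ih
      have hstep : P (k + 1) = D ^ (r + p * e) := by
        show D ^ r * σ (P k) = _
        rw [he, hσ1, ← pow_mul, ← pow_add, mul_comm e p]
      have hexp : 2 * (r + p * e) + 1 = p ^ (k + 1) := by
        rw [pow_succ, ← hek, hr]; ring
      exact ⟨by rw [hstep, ← pow_mul, ← pow_succ, ← hexp, mul_comm (r + p * e)], _, hstep, hexp⟩
  have hPf : P f = -1 := by
    obtain ⟨e, he, hek⟩ := (hP f).2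
    rw [he]
    have he2 : e = Fintype.card F / 2 := by rw [hF]; omega
    subst he2
    rcases FiniteField.pow_dichotomy (fun h => h2 (by
      haveI := ringChar.of_eq h
      exact CharTwo.two_eq_zero)) (hDdef ▸ hD0 : D ≠ 0) with h | h
    · exact absurd ((FiniteField.isSquare_iff (fun h => h2 (by
        haveI := ringChar.of_eq h
        exact CharTwo.two_eq_zero)) (hDdef ▸ hD0 : D ≠ 0)).2 h) (hDdef ▸ hD)
    · exact h
  have hpow := semi_pow l σ u (D ^ r) hL U P rfl rfl (fun _ => rfl) (fun _ => rfl) f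
  have hker : ofSemi l ^ f ∈ (sigG (qMinus m a b)).ker := by
    rw [MonoidHom.mem_ker, map_pow, show sigG _ (ofSemi l) = σ from hl, hσf]
  obtain ⟨g, hg⟩ : ofSemi l ^ f ∈ (goHom (qMinus m a b)).range := range_goHom (Q := qMinus m a b) ▸ hker
  have hgx : ∀ x, g.1.1 *ᵥ x = minusMap m (1 : RingAut F) (U f) (-1) x := fun x => by
    rw [← goHom_apply, hg, hpow, hσf, hPf]
  refine ⟨l, g, hl, hN, hg.symm, fun y => ?_, det_of_minusMap g _ _ hgx⟩
  have hmul : ∀ k, ∀ y, qMinus m a b ((ofSemi l ^ k).1.1 y) = (σ ^ k) (qMinus m a b y) := by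
    intro k
    induction k with
    | zero => intro y; rfl
    | succ k ih =>
      intro y
      rw [pow_succ', show (ofSemi l * ofSemi l ^ k).1.1 y = l.L ((ofSemi l ^ k).1.1 y) from rfl, l.map_q, hl, hN,
        one_mul, ih, pow_succ']
      rfl
  rw [← goHom_apply, hg, hmul, hσf]
  rfl

/-- The additive map `s ↦ s² + s` misses the elements with nonzero trace sum. -/
theorem sum_two_pow_ne {f : ℕ} (hf : 1 ≤ f) (hF : Fintype.card F = 2 ^ f) {c : F}
    (hc : ∀ s : F, s * s + s ≠ c) : ∑ i ∈ Finset.range f, c ^ 2 ^ i = 1 := by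
  haveI : CharP F 2 := charP_of_card_eq_prime_pow hF
  obtain ⟨T, hT⟩ : ∃ T : F → F, ∀ x, T x = ∑ i ∈ Finset.range f, x ^ 2 ^ i := ⟨_, fun _ => rfl⟩
  have hadd : ∀ x y, T (x + y) = T x + T y := fun x y => by
    simp only [hT, add_pow_char_pow, Finset.sum_add_distrib]
  have hsq : ∀ x, T x * T x = T x := fun x => by
    have h1 : T x * T x + x = T x + x ^ 2 ^ f := by
      rw [hT, ← pow_two, sum_pow_char 2, ← Finset.sum_range_succ (fun i => x ^ 2 ^ i) f,
        Finset.sum_range_succ' (fun i => x ^ 2 ^ i) f]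
      simp only [← pow_mul, ← pow_succ, pow_zero, pow_one]
    rw [← hF, FiniteField.pow_card] at h1
    exact add_right_cancel h1
  have hTsq : ∀ x, T (x * x) = T x * T x := fun x => by
    rw [hT, hT, ← pow_two (∑ i ∈ Finset.range f, x ^ 2 ^ i), sum_pow_char 2]
    exact Finset.sum_congr rfl fun i _ => by rw [mul_pow, ← pow_two]
  have himg : ∀ s, T (s * s + s) = 0 := fun s => by rw [hadd, hTsq, hsq, CharTwo.add_self_eq_zero]
  rw [← hT]
  rcases mul_eq_zero.1 (show T c * (T c - 1) = 0 by linear_combination hsq c) with h | h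
  swap
  · exact sub_eq_zero.1 h
  exfalso
  let φ : F →+ F := AddMonoidHom.mk' (fun s => s * s + s) fun x y => by
    linear_combination x * y * CharTwo.two_eq_zero (R := F)
  have hker : Nat.card φ.ker ≤ 2 := by
    have hmem : ∀ x : φ.ker, (x : F) = 0 ∨ (x : F) = 1 := fun x => by
      have hx : (x : F) * x + x = 0 := x.2
      rcases mul_eq_zero.1 (show (x : F) * ((x : F) + 1) = 0 by linear_combination hx) with e | e
      · exact Or.inl e
      · exact Or.inr ((eq_neg_of_add_eq_zero_left e).trans (CharTwo.neg_eq _))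
    calc Nat.card φ.ker ≤ Nat.card (Fin 2) := Nat.card_le_card_of_injective
          (fun x : φ.ker => by classical exact if (x : F) = 0 then (0 : Fin 2) else 1) fun x y e => by
            classical
            apply Subtype.ext
            rcases hmem x with hx | hx <;> rcases hmem y with hy | hy <;> simp_all
      _ = 2 := by simp
  have hindex : φ.range.index ≤ 2 := by
    refine le_of_eq_of_le ?_ hker
    have h3 := AddSubgroup.card_eq_card_quotient_mul_card_addSubgroup φ.ker
    rw [Nat.card_congr (QuotientAddGroup.quotientKerEquivRange φ).toEquiv, ← φ.range.card_mul_index] at h3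
    exact mul_left_cancel₀ Nat.card_pos.ne' h3
  have hall : ∀ x, T x = 0 := by
    intro x
    by_cases hx : x ∈ φ.range
    · obtain ⟨s, rfl⟩ := hx; exact himg s
    · have hnc : c ∉ φ.range := fun ⟨s, hs⟩ => hc s hs
      have h2 : φ.range.index = 2 := by
        have h0 : φ.range.index ≠ 0 := AddSubgroup.index_ne_zero_of_finite
        have h1 : φ.range.index ≠ 1 := fun e => hnc (AddSubgroup.index_eq_one.1 e ▸ AddSubgroup.mem_top c)
        omega
      obtain ⟨s, hs⟩ := (AddSubgroup.add_mem_iff_of_index_two h2).2 (iff_of_false hx hnc)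
      have h4 := himg s
      rw [show s * s + s = x + c from hs, hadd, h, add_zero] at h4
      exact h4
  obtain ⟨P, hP⟩ : ∃ P : Polynomial F, P = ∑ i ∈ Finset.range f, Polynomial.X ^ 2 ^ i := ⟨_, rfl⟩
  have hP1 : P.coeff 1 = 1 := by
    rw [hP, Polynomial.finsetSum_coeff, Finset.sum_eq_single 0]
    · simp
    · intro i _ hi
      rw [Polynomial.coeff_X_pow, if_neg]
      exact (Nat.one_lt_pow hi one_lt_two).ne
    · simp; omega
  have hP0 : P ≠ 0 := fun e => by rw [e, Polynomial.coeff_zero] at hP1; exact zero_ne_one hP1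
  have hdeg : P.natDegree ≤ 2 ^ (f - 1) := by
    rw [hP]
    refine Polynomial.natDegree_sum_le_of_forall_le _ _ fun i hi => ?_
    rw [Polynomial.natDegree_X_pow]
    exact Nat.pow_le_pow_right two_pos (by have := Finset.mem_range.1 hi; omega)
  have hcard : Fintype.card F ≤ P.natDegree := by
    by_contra hlt
    refine hP0 (Polynomial.eq_zero_of_natDegree_lt_card_of_eval_eq_zero P Function.injective_id (fun x => ?_)
      (not_le.1 hlt))
    rw [id, hP, Polynomial.eval_finsetSum, ← hall x, hT]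
    simp
  have h5 : 2 ^ (f - 1) < 2 ^ f := Nat.pow_lt_pow_right one_lt_two (by omega)
  omega

/-- In characteristic two: the Frobenius semisimilitude, whose power is a transvection. -/
theorem frob_minus_two {f : ℕ} (hf : 1 ≤ f) (hF : Fintype.card F = 2 ^ f)
    (hab : ∀ z₁ z₂ : F, z₁ ^ 2 + a * z₁ * z₂ + b * z₂ ^ 2 = 0 → z₁ = 0 ∧ z₂ = 0)
    (σ : RingAut F) (hσ : ∀ (k : ℕ) (x : F), (σ ^ k) x = x ^ 2 ^ k) (hσf : σ ^ f = 1) :
    ∃ (l : Semi (qMinus m a b)) (g : ↥(GO ⇑(qMinus m a b))), l.σ = σ ∧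
      ofSemi l ^ f = goHom _ g ∧
      ∀ y, g.1.1 *ᵥ y =
        (prodRf (qMinus m a b) [Sum.elim (fun _ : Fin m ⊕ Fin m => (0 : F)) ![1, 0]]).1 y := by
  haveI : CharP F 2 := charP_of_card_eq_prime_pow hF
  have h2 : (2 : F) = 0 := CharTwo.two_eq_zero
  have ha : a ≠ 0 := fun h => by
    obtain ⟨s, hs⟩ := sq_of_char_two h2 b
    exact one_ne_zero (hab s 1 (by rw [h]; linear_combination hs + s * s * h2)).2
  obtain ⟨c, hc⟩ : ∃ c, c = b / (a * a) := ⟨_, rfl⟩
  have hb : b = c * (a * a) := by rw [hc]; field_simp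
  have hsum := sum_two_pow_ne hf hF (c := c) fun s hs =>
    one_ne_zero (hab (a * s) 1 (by rw [hb, ← hs]; linear_combination (a * a * s * s + a * a * s) * h2)).2
  have hσ1 : ∀ x, σ x = x ^ 2 := fun x => by simpa using hσ 1 x
  obtain ⟨l, hl, -, hL⟩ := exists_minus_semi (m := m) hab σ b a ha
    (by rw [hσ1]; linear_combination b * h2)
    (by rw [hσ1]; linear_combination a * a * b * h2)
  have hpow := semi_pow l σ b a hL (fun k => a ^ 2 ^ k * ∑ i ∈ Finset.range k, c ^ 2 ^ i) (fun k => a ^ 2 ^ k / a)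
    (by simp) (by simp [ha]) (fun k => by
      rw [hσ1, hσ1, mul_pow, div_pow, sum_pow_char 2, ← pow_mul a, ← pow_succ 2 k, hb,
        Finset.sum_range_succ' (fun i => c ^ 2 ^ i) k]
      simp only [← pow_mul, ← pow_succ, pow_zero, pow_one]
      field_simp)
    (fun k => by
      rw [hσ1, div_pow, ← pow_mul, ← pow_succ 2 k]
      field_simp) f
  have hker : ofSemi l ^ f ∈ (sigG (qMinus m a b)).ker := by
    rw [MonoidHom.mem_ker, map_pow, show sigG _ (ofSemi l) = σ from hl, hσf]
  obtain ⟨g, hg⟩ : ofSemi l ^ f ∈ (goHom (qMinus m a b)).range := range_goHom (Q := qMinus m a b) ▸ hker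
  refine ⟨l, g, hl, hg.symm, fun y => ?_⟩
  rw [← goHom_apply, hg, hpow, hσf, ← hF, FiniteField.pow_card, div_self ha, hsum, mul_one,
    prodRf_cons, prodRf_nil, mul_one]
  show _ = ORefl.refl (qMinus m a b) _ y
  rw [refl_apply]
  obtain ⟨e, he⟩ : ∃ e : (Fin m ⊕ Fin m) ⊕ Fin 2 → F, e = Sum.elim (fun _ : Fin m ⊕ Fin m => (0 : F)) ![1, 0] :=
    ⟨_, rfl⟩
  have hQe : qMinus m a b e = 1 := by rw [Orth.qMinus_apply, he]; simp
  have hpe : polar (qMinus m a b) e y = a * y (.inr 1) := by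
    rw [polar]
    simp only [Orth.qMinus_apply, Pi.add_apply, he, Sum.elim_inl, Sum.elim_inr, Matrix.cons_val_zero,
      Matrix.cons_val_one, zero_add, mul_zero, Finset.sum_const_zero]
    linear_combination y (.inr 0) * h2
  rw [← he, hQe, hpe, inv_one, one_mul]
  funext i
  rcases i with i | i
  · simp [minusMap, he]
  · fin_cases i
    · simp [minusMap, he]
      exact (CharTwo.sub_eq_add _ _).symm
    · simp [minusMap, he]

end Power

end Cfsg.Agent.Small.OrthAut
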