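import Cfsg.Agent.Lib.Small.OrthAut.EvenClasses
import Cfsg.Agent.Lib.Small.OrthAut.MinusFrob

/-!
The class-preserving similitudes of the minus form, roots of the anisotropic plane in extensions, and
the sign of a descended semisimilitude.
-/

set_option autoImplicit false
set_option linter.unusedSectionVars false
set_option linter.style.haveILetI false

namespace Cfsg.Agent.Small.OrthAut

open Module QuadraticMap Matrix
open Cfsg.Agent.Classical
open Cfsg.Agent.Classical.OCount Cfsg.Agent.Classical.ORefl Cfsg.Agent.Classical.OOmega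
open Cfsg.Agent.Small.Orth (GO incl scalarG rho mult SimSetup prodRf innSub omegaSub qPlus qMinus dMinus uMinus)

universe u

section Minus

variable {F : Type u} [Field F] [Fintype F] {m : ℕ} {a b : F}

theorem odd_card_of_two_ne (h2 : (2 : F) ≠ 0) : Odd (Fintype.card F) :=
  Nat.odd_iff.2 (FiniteField.odd_card_of_char_ne_two fun e => h2 (by
    haveI := ringChar.of_eq e
    exact CharTwo.two_eq_zero))

theorem evenData_minus (hm : 3 ≤ m) (hab : ∀ z₁ z₂ : F, z₁ ^ 2 + a * z₁ * z₂ + b * z₂ ^ 2 = 0 → z₁ = 0 ∧ z₂ = 0) :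
    EvenData (qMinus m a b) (m + 1) :=
  ⟨setup_minus hm hab, fun h2 => Orth.setupMinus (odd_card_of_two_ne h2) hm hab, Or.inr (by simp; omega)⟩

theorem a_ne_zero (h2 : (2 : F) = 0) (hab : ∀ z₁ z₂ : F, z₁ ^ 2 + a * z₁ * z₂ + b * z₂ ^ 2 = 0 → z₁ = 0 ∧ z₂ = 0) :
    a ≠ 0 := fun h => by
  obtain ⟨s, hs⟩ := sq_of_char_two h2 b
  exact one_ne_zero (hab s 1 (by rw [h]; linear_combination hs + s * s * h2)).2

/-- The plane acquires an isotropic line in any quadratic extension. -/
theorem exists_root_ext (hab : ∀ z₁ z₂ : F, z₁ ^ 2 + a * z₁ * z₂ + b * z₂ ^ 2 = 0 → z₁ = 0 ∧ z₂ = 0)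
    (K : Type*) [Field K] [Algebra F K] (hK : Module.finrank F K = 2) :
    ∃ r : K, r ^ 2 + algebraMap F K a * r + algebraMap F K b = 0 := by
  open Polynomial in
  obtain ⟨P, hP⟩ : ∃ P : F[X], P = X ^ 2 + C a * X + C b := ⟨_, rfl⟩
  open Polynomial in
  have hm : P.Monic := by rw [hP]; monicity!
  have hd : P.natDegree = 2 := by rw [hP]; compute_degree!
  have hirr : Irreducible P := by
    rw [hm.irreducible_iff_roots_eq_zero_of_degree_le_three (by omega) (by omega)]
    refine Multiset.eq_zero_of_forall_notMem fun z hz => ?_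
    rw [Polynomial.mem_roots hm.ne_zero, Polynomial.IsRoot.def, hP] at hz
    exact one_ne_zero (hab z 1 (by simpa using hz)).2
  haveI : Fact (Irreducible P) := ⟨hirr⟩
  have h1 : Module.finrank F (AdjoinRoot P) = 2 := by
    rw [(AdjoinRoot.powerBasis hm.ne_zero).finrank, AdjoinRoot.powerBasis_dim, hd]
  haveI : Module.Finite F K := Module.finite_of_finrank_eq_succ hK
  haveI : Finite K := Module.finite_of_finite F
  haveI : Module.Finite F (AdjoinRoot P) := Module.finite_of_finrank_eq_succ h1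
  haveI : Finite (AdjoinRoot P) := Module.finite_of_finite F
  obtain ⟨φ⟩ := FiniteField.nonempty_algHom_of_finrank_dvd (F := F) (K := AdjoinRoot P) (L := K) (by rw [h1, hK])
  refine ⟨φ (AdjoinRoot.root P), ?_⟩
  have h : Polynomial.aeval (AdjoinRoot.root P) P = 0 := by rw [AdjoinRoot.aeval_eq, AdjoinRoot.mk_self]
  have h' := congrArg φ h
  rw [← Polynomial.aeval_algHom_apply, map_zero] at h'
  obtain ⟨x, hx⟩ : ∃ x, x = φ (AdjoinRoot.root P) := ⟨_, rfl⟩
  rw [← hx] at h' ⊢
  rw [hP] at h'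
  simpa using h'

/-- A quadratic extension exists. -/
theorem exists_ext (hab : ∀ z₁ z₂ : F, z₁ ^ 2 + a * z₁ * z₂ + b * z₂ ^ 2 = 0 → z₁ = 0 ∧ z₂ = 0) :
    ∃ (K : Type u) (_ : Field K) (_ : Algebra F K), Module.finrank F K = 2 := by
  open Polynomial in
  obtain ⟨P, hP⟩ : ∃ P : F[X], P = X ^ 2 + C a * X + C b := ⟨_, rfl⟩
  open Polynomial in
  have hm : P.Monic := by rw [hP]; monicity!
  have hd : P.natDegree = 2 := by rw [hP]; compute_degree!
  have hirr : Irreducible P := by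
    rw [hm.irreducible_iff_roots_eq_zero_of_degree_le_three (by omega) (by omega)]
    refine Multiset.eq_zero_of_forall_notMem fun z hz => ?_
    rw [Polynomial.mem_roots hm.ne_zero, Polynomial.IsRoot.def, hP] at hz
    exact one_ne_zero (hab z 1 (by simpa using hz)).2
  haveI : Fact (Irreducible P) := ⟨hirr⟩
  exact ⟨AdjoinRoot P, inferInstance, inferInstance, by
    rw [(AdjoinRoot.powerBasis hm.ne_zero).finrank, AdjoinRoot.powerBasis_dim, hd]⟩

theorem tsn_uMinus {K : Type*} [Field K] [Fintype K] {a b r : K} (hr : r ^ 2 + a * r + b = 0) :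
    TSN (qMinus m a b) (m + 1) (uMinus K m r) := by
  refine ⟨fun x hx => ?_, Orth.finrank_uMinus r⟩
  obtain ⟨h1, h3⟩ := (Orth.mem_uMinus x).1 hx
  rw [Orth.qMinus_apply]
  simp only [h1, h3, mul_zero, Finset.sum_const_zero, zero_add]
  linear_combination x (.inr 1) ^ 2 * hr

theorem pnd_plane_two (h2 : (2 : F) = 0) (ha : a ≠ 0) : PND (planeForm a b) := fun v hv => by
  have e1 := hv (Pi.single 0 1)
  have e2 := hv (Pi.single 1 1)
  simp only [polar, planeForm_apply, Pi.add_apply, Pi.single_eq_same, ne_eq, Fin.reduceEq,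
    not_false_eq_true, Pi.single_eq_of_ne] at e1 e2
  have hv1 : v 1 = 0 := (mul_eq_zero.mp (show a * v 1 = 0 by linear_combination e1 - v 0 * h2)).resolve_left ha
  have hv0 : v 0 = 0 := (mul_eq_zero.mp (show a * v 0 = 0 by linear_combination e2 - b * v 1 * h2)).resolve_left ha
  funext i; fin_cases i <;> assumption

/-- In characteristic two the classes over an extension are read off the parity of a word. -/
theorem preserves_two (h2 : (2 : F) = 0) (hm : 3 ≤ m)
    (hab : ∀ z₁ z₂ : F, z₁ ^ 2 + a * z₁ * z₂ + b * z₂ ^ 2 = 0 → z₁ = 0 ∧ z₂ = 0)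
    {K : Type*} [Field K] [Fintype K] (s : F →+* K) (r : K) (hr : r ^ 2 + s a * r + s b = 0)
    (g : ↥(GO ⇑(qMinus m a b))) :
    Cfsg.PreservesSingularClasses (Cfsg.quadFormMinus m K (s a) (s b)) (g.1.1.map s) ↔ g ∈ innSub (qMinus m a b) := by
  have h2K : (2 : K) = 0 := by rw [← map_ofNat s 2, h2, map_zero]
  have P : Split (qMinus m (s a) (s b)) (m + 1) :=
    ⟨formOf_pnd (pnd_plane_two h2K ((map_ne_zero s).2 (a_ne_zero h2 hab))), by simp; omega, Or.inr (by simp; omega),
      ⟨_, tsn_uMinus hr⟩⟩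
  obtain ⟨u, h, rfl⟩ := decomp_two h2 g
  obtain ⟨vs, hvs, hM⟩ := Orth.exists_list_mat rfl (setup_minus hm hab).pnd (evenData_minus hm hab).gen h
  have hvs' : ∀ v ∈ vs.map (fun v => (s ∘ v : (Fin m ⊕ Fin m) ⊕ Fin 2 → K)), qMinus m (s a) (s b) v ≠ 0 := fun v hv => by
    obtain ⟨w, hw, rfl⟩ := List.mem_map.1 hv
    rw [Orth.qMinus_map]
    exact (map_ne_zero s).2 (hvs w hw)
  obtain ⟨hK, hhK⟩ := Orth.exists_word_mat (Q := qMinus m (s a) (s b)) rfl (vs.map fun v => s ∘ v)
  obtain ⟨gK, hgK⟩ : ∃ gK : ↥(GO ⇑(qMinus m (s a) (s b))),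
      gK = scalarG _ (Units.map (s : F →* K) u) * incl ⇑(qMinus m (s a) (s b)) hK := ⟨_, rfl⟩
  have hmat : (scalarG (qMinus m a b) u * incl ⇑(qMinus m a b) h : ↥(GO ⇑(qMinus m a b))).1.1.map s = gK.1.1 := by
    refine Matrix.ext_of_mulVec_single fun i => ?_
    rw [show (Pi.single i 1 : (Fin m ⊕ Fin m) ⊕ Fin 2 → K) = s ∘ Pi.single i 1 from funext fun k => by
      simp [Pi.single_apply, apply_ite s]]
    rw [hgK, map_mulVec_hom, Subgroup.coe_mul, Units.val_mul, Subgroup.coe_mul, Units.val_mul,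
      ← Matrix.mulVec_mulVec, ← Matrix.mulVec_mulVec, Orth.scalarG_mulVec, Orth.scalarG_mulVec]
    show s ∘ ((u : F) • (h.1.1 *ᵥ Pi.single i 1)) = s (u : F) • (hK.1.1 *ᵥ (s ∘ Pi.single i 1))
    rw [hhK, Orth.prodRf_map, ← hM, hom_comp_smul]
  rw [hmat, ← coe_minus m, P.preserves_iff, hgK, map_mul, map_mul, P.cls_scalar, one_mul,
    P.cls_word hK _ hvs' hhK, List.length_map, scalar_mul_mem_innSub,
    incl_mem_two h2 (setup_minus hm hab) h vs hvs hM]

theorem preserves_evenK_minus (hm : 3 ≤ m)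
    (hab : ∀ z₁ z₂ : F, z₁ ^ 2 + a * z₁ * z₂ + b * z₂ ^ 2 = 0 → z₁ = 0 ∧ z₂ = 0) (g : ↥(GO ⇑(qMinus m a b))) :
    Cfsg.PreservesSingularClassesMinus m a b g.1.1 ↔ g ∈ evenK (qMinus m a b) (m + 1) := by
  by_cases h2 : (2 : F) = 0
  · rw [evenK_two h2]
    constructor
    · rintro ⟨K, _, _, hK, hg⟩
      haveI : Module.Finite F K := Module.finite_of_finrank_eq_succ hK
      haveI : Finite K := Module.finite_of_finite F
      haveI := Fintype.ofFinite K
      obtain ⟨r, hr⟩ := exists_root_ext hab K hK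
      exact (preserves_two h2 hm hab (algebraMap F K) r hr g).1 hg
    · intro hg
      obtain ⟨K, _, _, hK⟩ := exists_ext hab
      haveI : Module.Finite F K := Module.finite_of_finrank_eq_succ hK
      haveI : Finite K := Module.finite_of_finite F
      haveI := Fintype.ofFinite K
      obtain ⟨r, hr⟩ := exists_root_ext hab K hK
      exact ⟨K, inferInstance, inferInstance, hK, (preserves_two h2 hm hab (algebraMap F K) r hr g).2 hg⟩
  · have S := (evenData_minus hm hab).sim h2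
    rw [evenK_odd S, MonoidHom.mem_ker]
    exact Orth.preserves_minus (odd_card_of_two_ne h2) hab S g

theorem inndiag_minus_eq (hm : 3 ≤ m)
    (hab : ∀ z₁ z₂ : F, z₁ ^ 2 + a * z₁ * z₂ + b * z₂ ^ 2 = 0 → z₁ = 0 ∧ z₂ = 0) :
    Cfsg.autSubgroupOf (fun β : MulAut (Cfsg.POmega F ⇑(qMinus m a b)) =>
      ∃ g : GL ((Fin m ⊕ Fin m) ⊕ Fin 2) F, g ∈ GO ⇑(qMinus m a b) ∧ Cfsg.PreservesSingularClassesMinus m a b g.1 ∧
        Cfsg.IsInducedBySemilinearPOmega ⇑(qMinus m a b) g (RingEquiv.refl F) β) =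
      (evenK (qMinus m a b) (m + 1)).map (rho ⇑(qMinus m a b)) := by
  rw [← Orth.autSub_eq (P := fun g => g ∈ GO ⇑(qMinus m a b) ∧ Cfsg.PreservesSingularClassesMinus m a b g.1)
    (evenK (qMinus m a b) (m + 1))
    (fun g => by rw [preserves_evenK_minus hm hab g]; exact ⟨fun h => ⟨g.2, h⟩, fun h => h.2⟩)
    fun g hg => hg.1]
  simp only [and_assoc]

end Minus

section Fixed

variable {F : Type*} [Field F] [Fintype F] {F₀ : Type*} [Field F₀] [Fintype F₀] {σ : RingAut F} {j : F₀ →+* F}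

/-- The degree over the fixed field. -/
theorem card_fixed (hfix : ∀ y, σ y = y ↔ y ∈ Set.range j) :
    Fintype.card F = Fintype.card F₀ ^ orderOf σ := by
  classical
  haveI : Finite (F ≃+* F) := Finite.of_injective (fun e : F ≃+* F => (e : F → F))
    (fun a b h => RingEquiv.ext fun x => congrFun h x)
  let G := Subgroup.zpowers σ
  let : Fintype G := Fintype.ofFinite _
  let : Fintype (FixedPoints.subfield G F) := Fintype.ofFinite _
  have hc := Module.card_eq_pow_finrank (K := FixedPoints.subfield G F) (V := F)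
  rw [FixedPoints.finrank_eq_card G F, ← Nat.card_eq_fintype_card (α := G), Nat.card_zpowers] at hc
  rw [hc]
  congr 1
  refine (Fintype.card_of_bijective (f := fun x : F₀ => (⟨j x, ?_⟩ : FixedPoints.subfield G F)) ⟨?_, ?_⟩).symm
  · rintro ⟨τ, k, rfl⟩
    exact Subgroup.zpow_mem (MulAction.stabilizer (F ≃+* F) (j x)) ((hfix _).2 ⟨x, rfl⟩) k
  · exact fun x y e => j.injective (congrArg Subtype.val e)
  · rintro ⟨y, hy⟩
    obtain ⟨x, rfl⟩ := (hfix y).1 (hy ⟨σ, Subgroup.mem_zpowers σ⟩)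
    exact ⟨x, rfl⟩

/-- Planes over the fixed field split when the degree is two. -/
theorem exists_root_fixed (hfix : ∀ y, σ y = y ↔ y ∈ Set.range j) (hr : orderOf σ = 2) (a b : F₀) :
    ∃ r : F, r ^ 2 + j a * r + j b = 0 := by
  have hcard := card_fixed hfix
  rw [hr] at hcard
  by_cases h2 : (2 : F₀) = 0
  · obtain ⟨q, hq⟩ := CharP.exists F₀
    haveI : CharP F₀ 2 := CharTwo.of_one_ne_zero_of_two_eq_zero one_ne_zero h2
    haveI : Fact (Nat.Prime 2) := ⟨Nat.prime_two⟩
    obtain ⟨n, -, hn⟩ := FiniteField.card F₀ 2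
    have h2' : (2 : F) = 0 := by rw [← map_ofNat j 2, h2, map_zero]
    by_cases ha : a = 0
    · obtain ⟨s, hs⟩ := sq_of_char_two h2' (j b)
      exact ⟨s, by rw [ha, map_zero, hs]; linear_combination s * s * h2'⟩
    have hja : j a ≠ 0 := (map_ne_zero j).2 ha
    obtain ⟨c, hc⟩ : ∃ c, c = b / (a * a) := ⟨_, rfl⟩
    have hex : ∃ t : F, t * t + t = j c := by
      by_contra hno
      push Not at hno
      have hF : Fintype.card F = 2 ^ ((n : ℕ) + n) := by rw [hcard, hn, ← pow_mul, mul_two]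
      have h1 := sum_two_pow_ne (Nat.le_add_right_of_le n.2) hF hno
      rw [Finset.sum_range_add] at h1
      have h3 : ∀ i, j c ^ 2 ^ ((n : ℕ) + i) = j c ^ 2 ^ i := fun i => by
        rw [pow_add, pow_mul, ← map_pow, show c ^ 2 ^ (n : ℕ) = c by rw [← hn, FiniteField.pow_card]]
      have h4 : ∑ x ∈ Finset.range (n : ℕ), j c ^ 2 ^ ((n : ℕ) + x) = ∑ x ∈ Finset.range (n : ℕ), j c ^ 2 ^ x :=
        Finset.sum_congr rfl fun i _ => h3 i
      refine one_ne_zero (h1.symm.trans ((congrArg₂ (· + ·) rfl h4).trans ?_))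
      exact (two_mul _).symm.trans (by rw [h2', zero_mul])
    obtain ⟨t, ht⟩ := hex
    refine ⟨j a * t, ?_⟩
    have hb : j b = j a * j a * (t * t + t) := by
      rw [ht, hc, map_div₀, map_mul]; field_simp
    rw [hb]
    linear_combination (j a * j a * t * t + j a * j a * t) * h2'
  · have h2' : (2 : F) ≠ 0 := fun e => h2 (j.injective (by rw [map_ofNat, e, map_zero]))
    obtain ⟨s, hs⟩ : IsSquare (j (a * a - 4 * b)) := by
      rcases eq_or_ne (a * a - 4 * b) 0 with h0 | h0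
      · rw [h0, map_zero]; exact IsSquare.zero
      have hodd := odd_card_of_two_ne h2
      refine (FiniteField.isSquare_iff (fun e => h2' (by
        haveI := ringChar.of_eq e
        exact CharTwo.two_eq_zero)) ((map_ne_zero j).2 h0)).2 ?_
      obtain ⟨k, hk⟩ := hodd
      have he : Fintype.card F / 2 = (Fintype.card F₀ - 1) * (k + 1) := by
        rw [hcard, hk, Nat.add_sub_cancel, show (2 * k + 1) ^ 2 = 2 * (2 * k * (k + 1)) + 1 by ring]
        omega
      rw [he, pow_mul, ← map_pow, FiniteField.pow_card_sub_one_eq_one _ h0, map_one, one_pow]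
    refine ⟨(-j a + s) / 2, ?_⟩
    rw [map_sub, map_mul, map_mul, map_ofNat] at hs
    field_simp
    linear_combination -hs

end Fixed

section Sign

variable {F : Type*} [Field F] [Fintype F] {F₀ : Type*} [Field F₀] [Fintype F₀]
  {ι : Type} [Fintype ι] [DecidableEq ι] {Q : QuadraticForm F (ι → F)} {σ : RingAut F} {j : F₀ →+* F} {m N : ℕ}

theorem toSemi_ofSemi_L (l : Semi Q) (x : ι → F) : (toSemi (ofSemi l)).L x = l.L x := rfl

/-- A descent to the plus form fixes the classes. -/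
theorem cls_desc_plus (P : Split Q N) (hN : N = m) (D : Desc Q (qPlus F₀ m) σ j) : P.cls (ofSemi D.semi) = 1 := by
  obtain ⟨U, hU⟩ : ∃ U, U = (Orth.zeroRight F m).map D.T.toLinearMap := ⟨_, rfl⟩
  have hform : ∀ z, Q (D.T z) = D.c * qPlus F m z := fun z => by
    have e : QuadraticMap.comp Q D.T.toLinearMap = D.c • qPlus F m := ext_of_rat j fun y => by
      rw [QuadraticMap.comp_apply, LinearEquiv.coe_coe, D.form, _root_.QuadraticMap.smul_apply, smul_eq_mul, coe_plus, coe_plus]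
      simp [Cfsg.quadFormPlus, map_sum]
    exact congrArg (fun M : QuadraticForm F (Fin m ⊕ Fin m → F) => M z) e
  have hts : TSN Q N U := by
    subst hU
    refine ⟨?_, ?_⟩
    · rintro _ ⟨z, hz, rfl⟩
      show Q (D.T z) = 0
      rw [hform, Orth.zeroRight_singular F z hz, mul_zero]
    · rw [LinearEquiv.finrank_map_eq, Orth.finrank_zeroRight, hN]
  rw [P.cls_eq_one _ hts, show imageS (toSemi (ofSemi D.semi)) U = imageS D.semi U from imageS_congr (fun _ => rfl) U]
  have : imageS D.semi U = U := by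
    refine Submodule.eq_of_le_of_finrank_eq ?_ (finrank_imageS _ _)
    rintro _ ⟨u, hu, rfl⟩
    rw [hU] at hu ⊢
    obtain ⟨z, hz, rfl⟩ := hu
    refine ⟨σ ∘ z, (Orth.mem_zeroRight F _).2 fun i => ?_, (D.semi_T z).symm⟩
    show σ (z (Sum.inr i)) = 0
    rw [(Orth.mem_zeroRight F z).1 hz i, map_zero]
  rw [this]
  exact sameCl_self U hts

/-- A descent of degree two to the minus form exchanges the classes. -/
theorem cls_desc_minus (P : Split Q N) (hN : N = m + 1) {a b : F₀}
    (hab : ∀ z₁ z₂ : F₀, z₁ ^ 2 + a * z₁ * z₂ + b * z₂ ^ 2 = 0 → z₁ = 0 ∧ z₂ = 0)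
    (D : Desc Q (qMinus m a b) σ j) (hr : orderOf σ = 2) : P.cls (ofSemi D.semi) ≠ 1 := by
  obtain ⟨r, hroot⟩ := exists_root_fixed D.fix hr a b
  have hne : σ r ≠ r := fun e => by
    obtain ⟨x, rfl⟩ := (D.fix r).1 e
    exact one_ne_zero (hab x 1 (j.injective (by simpa using hroot))).2
  have hroot' : σ r ^ 2 + j a * σ r + j b = 0 := by
    simpa [D.fix'] using congrArg σ hroot
  have hform : ∀ z, Q (D.T z) = D.c * qMinus m (j a) (j b) z := fun z => by
    have e : QuadraticMap.comp Q D.T.toLinearMap = D.c • qMinus m (j a) (j b) := ext_of_rat j fun y => by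
      rw [QuadraticMap.comp_apply, LinearEquiv.coe_coe, D.form, _root_.QuadraticMap.smul_apply, smul_eq_mul, Orth.qMinus_map]
    exact congrArg (fun M : QuadraticForm F ((Fin m ⊕ Fin m) ⊕ Fin 2 → F) => M z) e
  have hts : ∀ t : F, t ^ 2 + j a * t + j b = 0 → TSN Q N ((uMinus F m t).map D.T.toLinearMap) := fun t ht =>
    ⟨by
      rintro _ ⟨z, hz, rfl⟩
      show Q (D.T z) = 0
      rw [hform, (tsn_uMinus ht).1 z hz, mul_zero],
    by rw [LinearEquiv.finrank_map_eq, Orth.finrank_uMinus, hN]⟩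
  rw [Ne, P.cls_eq_one _ (hts r hroot), show ∀ U, imageS (toSemi (ofSemi D.semi)) U = imageS D.semi U from imageS_congr (fun _ => rfl)]
  have himg : imageS D.semi ((uMinus F m r).map D.T.toLinearMap) = (uMinus F m (σ r)).map D.T.toLinearMap := by
    refine Submodule.eq_of_le_of_finrank_eq ?_ ?_
    · rintro _ ⟨_, ⟨z, hz, rfl⟩, rfl⟩
      refine ⟨σ ∘ z, (Orth.mem_uMinus _).2 ⟨fun i => ?_, ?_⟩, (D.semi_T z).symm⟩
      · show σ (z _) = 0
        rw [((Orth.mem_uMinus z).1 hz).1 i, map_zero]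
      · show σ (z _) = σ r * σ (z _)
        rw [((Orth.mem_uMinus z).1 hz).2, map_mul]
    · rw [finrank_imageS, (hts r hroot).2, (hts _ hroot').2]
  rw [himg, SameCl, ← Submodule.map_inf _ D.T.injective, LinearEquiv.finrank_map_eq]
  obtain ⟨f, hf⟩ : ∃ f : ((Fin m ⊕ Fin m) ⊕ Fin 2 → F) →ₗ[F] (Fin m ⊕ Fin 2 → F),
      f = LinearMap.funLeft F F (Sum.elim (fun i => Sum.inl (Sum.inr i)) Sum.inr) := ⟨_, rfl⟩
  have hker : uMinus F m r ⊓ uMinus F m (σ r) = LinearMap.ker f := by
    ext z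
    rw [Submodule.mem_inf, Orth.mem_uMinus, Orth.mem_uMinus, LinearMap.mem_ker, hf, funext_iff]
    simp only [LinearMap.funLeft_apply, Pi.zero_apply, Sum.forall, Sum.elim_inl, Sum.elim_inr, Fin.forall_fin_two]
    constructor
    · rintro ⟨⟨h1, h3⟩, -, h5⟩
      have h6 : z (.inr 1) = 0 := by
        have : (r - σ r) * z (.inr 1) = 0 := by linear_combination h5 - h3
        exact (mul_eq_zero.1 this).resolve_left (sub_ne_zero.2 (Ne.symm hne))
      exact ⟨h1, by rw [h3, h6, mul_zero], h6⟩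
    · rintro ⟨h1, h3, h5⟩
      exact ⟨⟨h1, by rw [h3, h5, mul_zero]⟩, h1, by rw [h3, h5, mul_zero]⟩
  have hinj : Function.Injective (Sum.elim (fun i : Fin m => (Sum.inl (Sum.inr i) : (Fin m ⊕ Fin m) ⊕ Fin 2)) Sum.inr) := by
    rintro (x | x) (y | y) <;> simp
  have h := LinearMap.finrank_range_add_finrank_ker f
  rw [LinearMap.range_eq_top.2 (hf ▸ LinearMap.funLeft_surjective_of_injective F F _ hinj), finrank_top, ← hker] at h
  simp [Module.finrank_fintype_fun_eq_card] at h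
  rw [show N - finrank F ↥(uMinus F m r ⊓ uMinus F m (σ r)) = 1 by omega]
  decide

end Sign

end Cfsg.Agent.Small.OrthAut
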