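import Cfsg.Agent.Lib.Small.Orth.SimRoot
import Cfsg.Agent.Lib.Small.OrthAut.MinusFrob
import Cfsg.Agent.Lib.Small.OrthAut.MinusClasses
import Cfsg.Agent.Lib.Small.OrthAut.SignConj
import Cfsg.Agent.Lib.Small.OrthAut.FieldClass

/-!
Involutory graph automorphisms of the minus groups in odd characteristic.
-/

set_option autoImplicit false
set_option linter.unusedSectionVars false
set_option linter.style.haveILetI false

namespace Cfsg.Agent.Small.OrthAut

open Module QuadraticMap Matrix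
open Cfsg.Agent.Classical
open Cfsg.Agent.Classical.OCount Cfsg.Agent.Classical.ORefl Cfsg.Agent.Classical.OOmega
open Cfsg.Agent.Small.Orth (GO incl scalarG rho mult SimSetup NegMem qMinus innSub omegaSub)

variable {F : Type*} [Field F] [Fintype F] {m : ℕ} {a b : F}

theorem noHalf_minus (hab : ∀ z₁ z₂ : F, z₁ ^ 2 + a * z₁ * z₂ + b * z₂ ^ 2 = 0 → z₁ = 0 ∧ z₂ = 0) :
    Orth.NoHalf (qMinus m a b) (m + 1) := fun U hU => by
  have h := OEven.minus_model_no_half hab (U := U) fun u hu => (congrFun (coe_minus m a b) u).symm.trans (hU u hu)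
  omega

set_option maxHeartbeats 1000000 in
/-- An involution outside the inner-diagonal group is induced by a similitude of negative sign. -/
theorem minus_graph_lift (hodd : Odd (Fintype.card F)) (hm : 3 ≤ m)
    (hab : ∀ z₁ z₂ : F, z₁ ^ 2 + a * z₁ * z₂ + b * z₂ ^ 2 = 0 → z₁ = 0 ∧ z₂ = 0)
    (S : SimSetup (qMinus m a b) (m + 1)) (γ : MulAut (Cfsg.POmega F ⇑(qMinus m a b)))
    (hγ : γ ∉ S.delta.ker.map (rho ⇑(qMinus m a b))) (h2 : γ * γ = 1) :
    ∃ g : ↥(GO ⇑(qMinus m a b)), γ = rho ⇑(qMinus m a b) g ∧ S.delta g ≠ 1 := by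
  obtain ⟨p, f, hp, hf, hF⟩ := exists_card (F := F)
  haveI := Fact.mk hp
  have h20 := two_ne_of_odd hodd
  have T := setup_minus (F := F) hm hab
  obtain ⟨a', rfl⟩ := autHom_surjective T (noLag_qMinus (m := m) hab) γ
  obtain ⟨σ, hσ, hσf, hord, hgen⟩ := exists_frob hf hF
  obtain ⟨l, g, hl, -, hlf, hgQ, hgd⟩ := frob_minus_odd (m := m) hF h20 hab σ hσ hσf
  have hgm : mult g = 1 := Units.ext (S.mult_eq g fun y => by rw [Units.val_one, one_mul]; exact hgQ y)
  have hg1 : S.delta g ≠ 1 := fun h => S.neg_ne_one (by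
    have h' := (S.delta_eq_one g).1 h
    rwa [hgd, hgm, Units.val_one, one_pow] at h')
  obtain ⟨L, hL⟩ : ∃ L : ↥(Gam (qMinus m a b)), L = ofSemi l := ⟨_, rfl⟩
  rw [← hL] at hlf
  have hLσ : sigG _ L = σ := by rw [hL]; exact hl
  haveI : Finite (RingAut F) := Finite.of_injective (fun s : RingAut F => ⇑s) fun _ _ h => RingEquiv.ext (congrFun h)
  obtain ⟨k, hk⟩ : ∃ k : ℕ, σ ^ k = sigG _ a' := by
    have hm' : sigG _ a' ∈ Submonoid.powers σ := by
      rw [(isOfFinOrder_of_finite σ).mem_powers_iff_mem_zpowers, hgen]; trivial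
    exact hm'
  obtain ⟨h, hh⟩ : a' * (L ^ k)⁻¹ ∈ (goHom (qMinus m a b)).range := by
    rw [range_goHom, MonoidHom.mem_ker, map_mul, map_inv, map_pow, hLσ, hk, mul_inv_cancel]
  have ha' : a' = goHom _ h * L ^ k := by rw [hh, inv_mul_cancel_right]
  obtain ⟨h', hh'⟩ : L ^ k * goHom _ h * (L ^ k)⁻¹ ∈ (goHom (qMinus m a b)).range := by
    rw [range_goHom, MonoidHom.mem_ker, map_mul, map_mul, map_inv,
      MonoidHom.mem_ker.1 (show goHom _ h ∈ (sigG _).ker from range_goHom (Q := qMinus m a b) ▸ ⟨h, rfl⟩), mul_one,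
      mul_inv_cancel]
  have hswap : goHom _ h' * L ^ k = L ^ k * goHom _ h := by rw [hh', inv_mul_cancel_right]
  have hd' : S.delta h' = S.delta h := (sign_conj S (toSemi (L ^ k)) h h' fun x =>
    congrArg (fun u : ↥(Gam (qMinus m a b)) => u.1.1 x) hswap).2
  have hker : a' * a' ∈ (autHom (qMinus m a b)).ker := by rw [MonoidHom.mem_ker, map_mul]; exact h2
  obtain ⟨hs, c, hc, hcx⟩ := (mem_ker_autHom T _).1 hker
  obtain ⟨i, hi⟩ : f ∣ 2 * k := by
    have h1 : σ ^ (2 * k) = 1 := by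
      rw [two_mul, pow_add, hk, ← map_mul]; exact hs
    exact hord ▸ orderOf_dvd_of_pow_eq_one h1
  have hprod : goHom _ (h * h' * g ^ i) = goHom _ (scalarG (qMinus m a b) (Units.mk0 c hc)) := by
    rw [show goHom _ (scalarG (qMinus m a b) (Units.mk0 c hc)) = a' * a' from Subtype.ext (Prod.ext
      (Equiv.ext fun y => ((Orth.scalarG_mulVec (Units.mk0 c hc) y).trans (hcx y).symm)) hs.symm),
      map_mul, map_mul, map_pow, ← hlf, ← pow_mul, ← hi, two_mul, pow_add, hh', ha']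
    group
  have hdel := congrArg S.delta (goHom_injective hprod)
  rw [map_mul, map_mul, map_pow, (S.delta_scalar _).2, hd', Int.units_mul_self, one_mul] at hdel
  have hev : Even i := by
    rcases Nat.even_or_odd i with h1 | h1
    · exact h1
    · rw [(Int.units_eq_one_or (S.delta g)).resolve_left hg1, h1.neg_one_pow] at hdel
      exact absurd hdel (by decide)
  obtain ⟨j, rfl⟩ := hev
  have hk' : k = f * j := by
    rw [← two_mul, ← mul_assoc, mul_comm f 2, mul_assoc] at hi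
    exact Nat.eq_of_mul_eq_mul_left two_pos hi
  refine ⟨h * g ^ j, ?_, fun hd => hγ ⟨h * g ^ j, MonoidHom.mem_ker.2 hd, ?_⟩⟩ <;>
    rw [← autHom_goHom, map_mul (goHom (qMinus m a b)), map_pow (goHom (qMinus m a b)), ← hlf, ← pow_mul, ← hk', ← ha']

set_option maxHeartbeats 1000000 in
/-- The split of an involutory graph automorphism. -/
theorem minus_graph_split (hodd : Odd (Fintype.card F)) (hm : 3 ≤ m)
    (hab : ∀ z₁ z₂ : F, z₁ ^ 2 + a * z₁ * z₂ + b * z₂ ^ 2 = 0 → z₁ = 0 ∧ z₂ = 0)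
    (S : SimSetup (qMinus m a b) (m + 1)) (g : ↥(GO ⇑(qMinus m a b))) (hgd : S.delta g ≠ 1)
    (hsq : rho ⇑(qMinus m a b) g * rho ⇑(qMinus m a b) g = 1) (hc : ¬ (Even m ∧ Fintype.card F % 4 = 1)) :
    Cfsg.splitClassCount (S.delta.ker.map (rho ⇑(qMinus m a b))) (Cfsg.Inn (Cfsg.POmega F ⇑(qMinus m a b)))
      (rho ⇑(qMinus m a b) g) = 2 := by
  have h2 := two_ne_of_odd hodd
  have hQ : PND (qMinus m a b) := S.pnd
  have hN := noHalf_minus (m := m) hab
  have hcard : Fintype.card ((Fin m ⊕ Fin m) ⊕ Fin 2) = 2 * (m + 1) := by simp; omega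
  by_cases hev : Even m
  · have h4 : Fintype.card F % 4 = 3 := by
      obtain ⟨r, hr⟩ := hodd
      have h5 : Fintype.card F % 4 ≠ 1 := fun h => hc ⟨hev, h⟩
      omega
    refine Orth.split_neg S ((Orth.negMem_minus hodd hab).2 ⟨hev, h4⟩) g hgd hsq fun μ hg2 => ?_
    have hf := Orth.hfam_formOf (Equiv.refl ((Fin m ⊕ Fin m) ⊕ Fin 2)) (planeForm a b)
    exact Orth.exists_commuting_gen h2 hQ hcard (by omega) hN (hf.qe ⟨0, by omega⟩) (hf.qe ⟨1, by omega⟩)
      (hf.qf ⟨1, by omega⟩) ((hf.ef ⟨0, by omega⟩ ⟨0, by omega⟩).trans (if_pos rfl)) (hf.ee _ _)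
      ((hf.ef ⟨0, by omega⟩ ⟨1, by omega⟩).trans (if_neg (by simp)))
      ((hf.ef ⟨1, by omega⟩ ⟨1, by omega⟩).trans (if_pos rfl)) (Units.ne_zero _) (Orth.mult_spec g) hg2
      (fun e => hgd ((S.delta_eq_one g).2 e))
  · refine Orth.split_noneg S (fun hn => hev ((Orth.negMem_minus hodd hab).1 hn).1) g fun g' hg' => ?_
    have hk : g * g ∈ (rho ⇑(qMinus m a b)).ker := by rw [MonoidHom.mem_ker, map_mul]; exact hsq
    have hk' : (g * g')⁻¹ * (g' * g) ∈ (rho ⇑(qMinus m a b)).ker := by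
      rw [MonoidHom.mem_ker, map_mul, map_inv, map_mul, map_mul, hg', inv_mul_cancel]
    rw [S.hker] at hk hk'
    obtain ⟨μ, hμ⟩ := (Cfsg.Geo.mem_scalars_iff _).1 hk
    obtain ⟨z, hz⟩ := (Cfsg.Geo.mem_scalars_iff _).1 hk'
    have hg2 : ∀ v, g.1.1 *ᵥ (g.1.1 *ᵥ v) = (μ : F) • v := fun v => by
      have h := congrArg (fun M => M *ᵥ v) hμ
      simp only [Subgroup.coe_subtype, Subgroup.coe_mul, Units.val_mul, ← Matrix.mulVec_mulVec, Matrix.smul_mulVec,
        Matrix.one_mulVec] at h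
      exact h
    have hcomm : ∀ v, g'.1.1 *ᵥ (g.1.1 *ᵥ v) = (z : F) • g.1.1 *ᵥ (g'.1.1 *ᵥ v) := fun v => by
      rw [← Matrix.mulVec_smul, ← Matrix.mulVec_smul]
      have e : (g' * g : ↥(GO ⇑(qMinus m a b))) = g * g' * ((g * g')⁻¹ * (g' * g)) := (mul_inv_cancel_left _ _).symm
      have h' := congrArg (fun u : ↥(GO ⇑(qMinus m a b)) => u.1.1 *ᵥ v) e
      simp only [Subgroup.coe_mul, Units.val_mul, ← Matrix.mulVec_mulVec] at h'
      rw [h']
      congr 2
      have h'' := congrArg (fun M => M *ᵥ v) hz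
      simp only [Subgroup.coe_subtype, Subgroup.coe_mul, Units.val_mul, ← Matrix.mulVec_mulVec, Matrix.smul_mulVec,
        Matrix.one_mulVec] at h''
      exact h''
    rw [S.multSign_eq_one]
    exact Orth.square_of_commute h2 hQ hcard (by omega) (Nat.even_add_one.2 hev) hN (Units.ne_zero _) (Units.ne_zero _)
      (Orth.mult_spec g) hg2 (fun e => hgd ((S.delta_eq_one g).2 e)) (Orth.mult_spec g') hcomm

end Cfsg.Agent.Small.OrthAut
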