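import Cfsg.Agent.Lib.Small.OrthAut.BalanceField
import Cfsg.Agent.Lib.Small.OrthAut.BalanceOdd
import Cfsg.Agent.Lib.Small.OrthAut.FieldMinus
import Cfsg.Agent.Lib.Small.OrthAut.MinusGraph
import Cfsg.Agent.Lib.Small.OrthAut.GraphBalance

/-!
Local balance for the minus groups.
-/

set_option autoImplicit false
set_option linter.unusedSectionVars false
set_option linter.style.haveILetI false

namespace Cfsg.Agent.Small.OrthAut

open Module QuadraticMap Matrix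
open Cfsg.Agent.Classical
open Cfsg.Agent.Classical.OCount Cfsg.Agent.Classical.ORefl Cfsg.Agent.Classical.OOmega
open Cfsg.Agent.Small.Orth (GO incl scalarG rho mult innSub qMinus)

universe u

variable {F : Type u} [Field F] [Fintype F]

/-- The fourth power of a similitude is inner up to scalars. -/
theorem pow_four_mem_innSub {ι : Type} [Fintype ι] [DecidableEq ι] {Q : QuadraticForm F (ι → F)} (hQ : PND Q)
    (hgen : Nat.card F ≠ 2 ∨ Fintype.card ι ≠ 4) (h : ↥(GO ⇑Q)) : h ^ (2 ^ 2) ∈ innSub Q := by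
  obtain ⟨u, hu⟩ : ∃ u, u = scalarG Q (mult h)⁻¹ * (h * h) := ⟨_, rfl⟩
  have hiso : ∀ v, Q (u.1.1 *ᵥ v) = Q v := fun v => by
    rw [hu, Subgroup.coe_mul, Units.val_mul, ← Matrix.mulVec_mulVec, Orth.scalarG_mulVec, Subgroup.coe_mul,
      Units.val_mul, ← Matrix.mulVec_mulVec, QuadraticMap.map_smul, Orth.mult_spec, Orth.mult_spec,
      Units.val_inv_eq_inv_val, smul_eq_mul]
    field_simp
  let k : ↥(Cfsg.isometryGroup F ⇑Q) := ⟨u.1, fun v _ => hiso v⟩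
  obtain ⟨vs, hvs, hM⟩ := Orth.exists_list_mat rfl hQ hgen k
  have hk : k * k ∈ Cfsg.Omega F ⇑Q := by
    refine (Orth.mem_omega rfl hQ (k * k) (vs ++ vs)
      (fun v hv => (List.mem_append.1 hv).elim (hvs v) (hvs v)) fun x => ?_).2 ⟨?_, ?_⟩
    · rw [Subgroup.coe_mul, Units.val_mul, ← Matrix.mulVec_mulVec, hM, hM, Orth.prodRf_append]
      rfl
    · rw [List.length_append]; exact ⟨_, rfl⟩
    · rw [List.map_append, List.prod_append]; exact ⟨_, rfl⟩
  have e : rho ⇑Q (h * h) = rho ⇑Q (incl ⇑Q k) := by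
    rw [show incl ⇑Q k = u from Subtype.ext rfl, hu, map_mul (rho ⇑Q) (scalarG Q _), Desc.rho_scalarG, one_mul]
  rw [Subgroup.mem_comap, show h ^ (2 ^ 2) = (h * h) * (h * h) by rw [← pow_two h, ← pow_two, ← pow_mul, pow_two], map_mul, e, ← map_mul, ← map_mul,
    ← Orth.inn_eq]
  exact ⟨_, (Orth.rho_omega ⟨k * k, hk⟩).symm⟩

variable {m : ℕ} {a b : F}

/-- Local balance for `PΩ⁻`. -/
theorem balance_minus (hm : 3 ≤ m) (hab : ∀ z₁ z₂ : F, z₁ ^ 2 + a * z₁ * z₂ + b * z₂ ^ 2 = 0 → z₁ = 0 ∧ z₂ = 0)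
    (A : Subgroup (MulAut (Cfsg.POmega F ⇑(qMinus m a b)))) (hinn : ∀ k, MulAut.conj k ∈ A) {p : ℕ} [Fact p.Prime]
    (hp : (2 : F) = 0 → p ≠ 2)
    (x : MulAut (Cfsg.POmega F ⇑(qMinus m a b))) (hord : orderOf x = p)
    (hnot : ∀ g ∈ evenK (qMinus m a b) (m + 1), x ≠ rho ⇑(qMinus m a b) g) :
    (p = 2 ∧ Cfsg.pPrimeCore p ↥(A ⊓ Subgroup.centralizer {x}) = ⊥) ∨
      ∃ a' b' : F, (∀ z₁ z₂ : F, z₁ ^ 2 + a' * z₁ * z₂ + b' * z₂ ^ 2 = 0 → z₁ = 0 ∧ z₂ = 0) ∧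
        (∃ (ψ : Cfsg.POmega F ⇑(qMinus m a b) ≃* Cfsg.POmega F ⇑(qMinus m a' b')) (σ : F ≃+* F),
          σ ≠ RingEquiv.refl F ∧ σ a' = a' ∧ σ b' = b' ∧
            Cfsg.IsFieldAutPOmegaOf ⇑(qMinus m a' b') σ ((ψ.symm.trans x).trans ψ)) ∧
        (Cfsg.pPrimeCore p ↥(A ⊓ Subgroup.centralizer {x}) ≠ ⊥ ↔
          Nat.Coprime p (Nat.card (MonoidHom.eqLocus x.toMonoidHom (MonoidHom.id (Cfsg.POmega F ⇑(qMinus m a b)))))) := by
  classical
  have T := setup_minus (F := F) hm hab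
  have E := evenData_minus (F := F) hm hab
  haveI : IsSimpleGroup (Cfsg.POmega F ⇑(qMinus m a b)) := simple_standard (pnd_plane hab) hm
  have hL := noLag_qMinus (m := m) hab
  by_cases hp2 : p = 2
  · subst hp2
    left
    refine ⟨rfl, ?_⟩
    have h2 : (2 : F) ≠ 0 := fun h => hp h rfl
    have S := E.sim h2
    obtain ⟨g, rfl, hgd⟩ := minus_graph_lift (odd_card_of_two_ne h2) hm hab S x
      (fun ⟨g, hg, e⟩ => hnot g (by rwa [evenK_odd S]) e.symm)
      (by have e := pow_orderOf_eq_one x; rw [hord, pow_two] at e; exact e)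
    exact graph_core S T (by omega) g hgd hord A hinn fun β _ _ => autHom_surjective T hL β
  right
  obtain ⟨a', rfl⟩ := autHom_surjective T hL x
  have hodd : Odd p := (Fact.out : p.Prime).odd_of_ne_two hp2
  have hσ1 : sigG (qMinus m a b) a' ≠ 1 := fun h => by
    obtain ⟨g, rfl⟩ : a' ∈ (goHom (qMinus m a b)).range := by rw [range_goHom]; exact h
    rw [autHom_goHom] at hord hnot
    refine hnot g ?_ rfl
    by_contra hg
    obtain ⟨k, hk⟩ := hodd
    have hev : (g * g) ^ k ∈ evenK (qMinus m a b) (m + 1) := pow_mem (E.index_two hg hg) k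
    have hp1 : g ^ p ∈ evenK (qMinus m a b) (m + 1) := E.innSub_le (by
      rw [Subgroup.mem_comap, map_pow, ← hord, pow_orderOf_eq_one]; exact one_mem _)
    rw [hk, pow_succ, pow_mul, pow_two] at hp1
    exact hg ((Subgroup.mul_mem_cancel_left _ hev).1 hp1)
  have hσ := orderOf_sig T a' Fact.out hσ1 hord
  obtain ⟨F₀, _, _, j, hfix⟩ := exists_fixed_field (sigG (qMinus m a b) a')
  obtain ⟨a₀, b₀, hab₀⟩ := QuadModels.exists_aniso (F := F₀)
  have hab' := aniso_odd hfix (hσ.symm ▸ hodd) hab₀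
  obtain ⟨L, hL'⟩ := exists_minus_iso (m := m) hab hab'
  have hstd : ∀ y, qMinus m (j a₀) (j b₀) (j ∘ y) = j (qMinus m a₀ b₀ y) := fun y => Orth.qMinus_map (σ := j) y
  obtain ⟨D', hD'⟩ : ∃ D' : Desc (qMinus m (j a₀) (j b₀)) (qMinus m a₀ b₀) (sigG (qMinus m a b) a') j,
      D' = stdDesc hfix hstd := ⟨_, rfl⟩
  obtain ⟨D, hD⟩ : ∃ D, D = D'.transport L hL' := ⟨_, rfl⟩
  obtain ⟨g, hg⟩ : a' * (ofSemi D.semi)⁻¹ ∈ (goHom (qMinus m a b)).range := by
    rw [range_goHom, MonoidHom.mem_ker, map_mul, map_inv]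
    exact mul_inv_cancel _
  have hx : autHom (qMinus m a b) a' = rho _ g * D.x := by
    rw [← autHom_goHom, hg, map_mul, map_inv]
    exact (inv_mul_cancel_right _ _).symm
  obtain ⟨Q₁, D₁, hQ₁, hx₁, -⟩ := D.step T g (by rw [← hx, hσ, ← hord]; exact pow_orderOf_eq_one _)
  obtain ⟨B, hB⟩ := classify_minus hab D₁ hQ₁ a₀ b₀ hab₀
  have hxB : autHom (qMinus m a b) a' = B.x := hx.trans (hx₁.trans (congrArg (autHom _) hB.symm))
  obtain ⟨h, -, he⟩ := D.conj_adjust B E (evenData_minus hm hab₀)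
  have ha₀ := D'.fix' a₀
  have hb₀ := D'.fix' b₀
  refine ⟨j a₀, j b₀, hab', ⟨(h⁻¹ : MulAut (Cfsg.POmega F ⇑(qMinus m a b))).trans (omegaTr L hL').symm, _, hσ1,
    ha₀, hb₀, ?_⟩, ?_⟩
  · convert isFieldAut_coord (Q := qMinus m (j a₀) (j b₀)) (sigG (qMinus m a b) a')
      (coord_minus _ ha₀ hb₀) using 1
    rw [← stdDesc_x hfix hstd (coord_minus _ ha₀ hb₀), ← hD', hxB, he]
    refine MulEquiv.ext fun z => ?_
    show (omegaTr L hL').symm (h⁻¹ ((h * D.x * h⁻¹) (((h⁻¹ : MulAut (Cfsg.POmega F ⇑(qMinus m a b))).symm)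
      (omegaTr L hL' z)))) = D'.x z
    rw [← MulEquiv.eq_symm_apply, MulEquiv.symm_symm, D'.transport_x L hL', ← hD]
    show h.symm (h (D.x (h.symm (h (omegaTr L hL' z))))) = _
    rw [h.symm_apply_apply, h.symm_apply_apply]
  · rw [hxB]
    have S₀ := setup_minus (F := F₀) hm hab₀
    have hne : ∃ y, qMinus m a₀ b₀ y ≠ 0 := by
      obtain ⟨T₀⟩ := S₀.frame
      obtain ⟨v, hv⟩ := exists_value_of_pair T₀.hp 1
      exact ⟨v, by rw [hv]; exact one_ne_zero⟩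
    exact B.balance (ε := Equiv.refl _) (P := planeForm a₀ b₀) hne T S₀ (pnd_plane hab₀) hm hσ A hinn
      (fun β _ => autHom_surjective T hL β) fun hdvd =>
      B.exists_rational_order hne T S₀ 2
        (fun k => pow_four_mem_innSub S₀.pnd (evenData_minus hm hab₀).gen k) hp2 hdvd

end Cfsg.Agent.Small.OrthAut
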