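import Cfsg.Agent.Lib.Small.OrthAut.Linear

/-!
Every automorphism of `Ω` modulo its centre is induced by a semisimilitude.
-/

set_option autoImplicit false
set_option linter.unusedSectionVars false
set_option linter.style.haveILetI false

namespace Cfsg.Agent.Small.OrthAut

open Module QuadraticMap
open Cfsg.Agent.Classical
open Cfsg.Agent.Classical.OCount Cfsg.Agent.Classical.ORefl Cfsg.Agent.Classical.OOmega

variable {F : Type*} [Field F] [Finite F] {V : Type*} [AddCommGroup V] [Module F V] [FiniteDimensional F V]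
  {Q : QuadraticForm F V} (S : Setup Q)

include S in
/-- An automorphism fixing one Siegel group elementwise and an opposite one setwise is trivial. -/
theorem Setup.eq_one_of_fix (hL : NoLag Q) (T : ThreePairs Q) (γ : MulAut (PG Q))
    (hfix : ∀ y ∈ S.PQ T.hp.1, γ y = y) (hf : (S.PQ T.hp.2.1).map γ.toMonoidHom = S.PQ T.hp.2.1) : γ = 1 := by
  obtain ⟨he0, hf0, hw0, -, -, -⟩ := frame_ne T
  have hef : polar Q T.e T.f = 1 := T.hp.2.2
  have he : (S.PQ T.hp.1).map γ.toMonoidHom = S.PQ T.hp.1 := by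
    refine le_antisymm ?_ fun y hy => ⟨y, hy, hfix y hy⟩
    rintro _ ⟨y, hy, rfl⟩
    show γ y ∈ S.PQ T.hp.1
    rw [hfix y hy]; exact hy
  -- points not orthogonal to the first
  have hnp : ∀ y : V, ∀ hy : Q y = 0, polar Q T.e y ≠ 0 → (S.PQ hy).map γ.toMonoidHom = S.PQ hy := by
    intro y hy hne
    obtain ⟨y', hy'⟩ : ∃ y', y' = (polar Q T.e y)⁻¹ • y := ⟨_, rfl⟩
    have hy'Q : Q y' = 0 := by rw [hy', QuadraticMap.map_smul, hy, smul_zero]
    obtain ⟨hu, hmove⟩ := S.exists_partner_move T.hp.1 T.hp.2.1 hy'Q hef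
      (by rw [hy', polar_smul_right, smul_eq_mul, inv_mul_cancel₀ hne])
    set g := S.se T.hp.1 hu with hg
    have h1 : S.PQ hy'Q = S.PQ hy := by
      rw [S.PQ_congr hy'Q (b := (polar Q T.e y)⁻¹ • y) (by rw [← hy']; exact hy'Q) hy',
        S.PQ_smul hy (inv_ne_zero hne)]
    rw [← h1, ← S.PQ_congr ((q_ap g T.f).trans T.hp.2.1) hy'Q hmove, ← S.PQ_map_conj g T.hp.2.1,
      Subgroup.map_map]
    conv_rhs => rw [← hf, Subgroup.map_map]
    congr 1
    refine MonoidHom.ext fun x => ?_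
    show γ (MulAut.conj (pr Q g) x) = MulAut.conj (pr Q g) (γ x)
    rw [MulAut.conj_apply, MulAut.conj_apply, map_mul, map_mul, map_inv, hfix _ ⟨g, S.se_mem _ _, rfl⟩]
  -- all points
  have hall : ∀ x : V, ∀ hx : Q x = 0, x ≠ 0 → (S.PQ hx).map γ.toMonoidHom = S.PQ hx := by
    intro x hx hx0
    by_cases hex : polar Q T.e x ≠ 0
    · exact hnp x hx hex
    push Not at hex
    by_cases hd : ∃ c : F, x = c • T.e
    · obtain ⟨c, rfl⟩ := hd
      have hc : c ≠ 0 := fun h => hx0 (by rw [h, zero_smul])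
      rw [S.PQ_smul T.hp.1 hc hx]
      exact he
    push Not at hd
    obtain ⟨x', hx', hx'0, himg⟩ := S.exists_image hL γ hx hx0
    have hperp : ∀ y : V, ∀ hy : Q y = 0, y ≠ 0 → (S.PQ hy).map γ.toMonoidHom = S.PQ hy → polar Q y x = 0 →
        polar Q y x' = 0 := fun y hy hy0 hfy h =>
      (S.perp_iff γ hy hx hy hx' hy0 hx0 hy0 hx'0 hfy himg).1 h
    have hex' : polar Q T.e x' = 0 := hperp T.e T.hp.1 he0 he hex
    obtain ⟨z, hz, hze⟩ := exists_polar_sep S.pnd (H := Submodule.span F {x}) (x := T.e)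
      (fun hm => by
        obtain ⟨c, hc⟩ := Submodule.mem_span_singleton.mp hm
        have hc0 : c ≠ 0 := fun h => he0 (by rw [← hc, h, zero_smul])
        exact hd c⁻¹ (by rw [← hc, smul_smul, inv_mul_cancel₀ hc0, one_smul])) 1
    have hzx : polar Q z x = 0 := hz x (Submodule.mem_span_singleton_self x)
    obtain ⟨y₀, hy₀⟩ : ∃ y₀, y₀ = z + (-Q z) • T.e := ⟨_, rfl⟩
    have hy₀e : polar Q T.e y₀ = 1 := by
      rw [hy₀, polar_add_right, polar_smul_right, polar_comm Q T.e z, hze, polar_self_zero T.hp.1]; simp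
    have hy₀x : polar Q y₀ x = 0 := by rw [hy₀, polar_add_left, polar_smul_left, hzx, hex]; simp
    have hy₀Q : Q y₀ = 0 := by
      rw [hy₀, map_two, QuadraticMap.map_smul, T.hp.1, polar_smul_right, hze]; simp
    have hmain : ∀ y : V, Q y = 0 → polar Q T.e y = 1 → polar Q y x = 0 → polar Q y x' = 0 := fun y hy h1 h =>
      hperp y hy (fun h0 => by rw [h0, polar_zero_right] at h1; exact zero_ne_one h1)
        (hnp y hy (by rw [h1]; exact one_ne_zero)) h
    have h0' := hmain y₀ hy₀Q hy₀e hy₀x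
    have hw : ∀ w, polar Q T.e w = 0 → polar Q w x = 0 → polar Q w x' = 0 := by
      intro w h1 h2
      obtain ⟨c, hc⟩ : ∃ c, c = -(Q w + polar Q y₀ w) := ⟨_, rfl⟩
      have h3 := hmain (y₀ + w + c • T.e) (by
        rw [map_two, map_two, QuadraticMap.map_smul, hy₀Q, T.hp.1, polar_smul_right, polar_add_left,
          polar_comm Q y₀ T.e, hy₀e, polar_comm Q w T.e, h1, hc]
        simp)
        (by rw [polar_add_right, polar_add_right, polar_smul_right, hy₀e, h1, polar_self_zero T.hp.1]; simp)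
        (by rw [polar_add_left, polar_add_left, polar_smul_left, hy₀x, h2, hex]; simp)
      rw [polar_add_left, polar_add_left, polar_smul_left, h0', hex'] at h3
      simpa using h3
    obtain ⟨c, hc⟩ : ∃ c : F, x' = c • x := by
      by_contra hcon
      push Not at hcon
      obtain ⟨v, hv, hvx⟩ := exists_polar_sep S.pnd (H := Submodule.span F {x}) (x := x')
        (fun hm => by
          obtain ⟨c, hc⟩ := Submodule.mem_span_singleton.mp hm
          exact hcon c hc.symm) 1
      have hvx0 : polar Q v x = 0 := hv x (Submodule.mem_span_singleton_self x)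
      have h1 := hw (v + (-polar Q T.e v) • y₀)
        (by rw [polar_add_right, polar_smul_right, hy₀e]; simp)
        (by rw [polar_add_left, polar_smul_left, hvx0, hy₀x]; simp)
      rw [polar_add_left, polar_smul_left, hvx, h0', smul_zero, add_zero] at h1
      exact one_ne_zero h1
    have hc0 : c ≠ 0 := fun h => hx'0 (by rw [hc, h, zero_smul])
    rw [himg, S.PQ_congr hx' (b := c • x) (by rw [← hc]; exact hx') hc, S.PQ_smul hx hc0]
  -- conclude
  refine MulEquiv.ext fun y => ?_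
  obtain ⟨h, rfl⟩ := pr_surjective y
  obtain ⟨h', hh'⟩ := pr_surjective (γ (pr Q h))
  rw [← hh', MulAut.one_apply]
  refine (inv_mul_eq_one.mp ?_).symm
  rw [← map_inv, ← map_mul, pr_eq_one]
  have hlines : ∀ x : V, Q x = 0 → ∃ c : F, ap (h⁻¹ * h') x = c • x := by
    intro x hx
    rcases eq_or_ne x 0 with rfl | hx0
    · exact ⟨0, by rw [ap_zero, zero_smul]⟩
    have h1 : S.PQ ((q_ap h' x).trans hx) = S.PQ ((q_ap h x).trans hx) := by
      rw [← S.PQ_map_conj h' hx, hh']
      conv_rhs => rw [← hall _ ((q_ap h x).trans hx) (ap_ne_zero h hx0), ← S.PQ_map_conj h hx, Subgroup.map_map]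
      conv_lhs => rw [← hall x hx hx0, Subgroup.map_map]
      congr 1
      refine MonoidHom.ext fun z => ?_
      show MulAut.conj (γ (pr Q h)) (γ z) = γ (MulAut.conj (pr Q h) z)
      rw [MulAut.conj_apply, MulAut.conj_apply, map_mul, map_mul, map_inv]
    obtain ⟨c, -, hc⟩ := S.PQ_inj ((q_ap h' x).trans hx) ((q_ap h x).trans hx) (ap_ne_zero h' hx0)
      (ap_ne_zero h hx0) h1
    exact ⟨c, by rw [ap_mul, hc, ap_smul, ap_inv_ap]⟩
  refine mem_center_of_pm ?_
  rcases central_of_lines S.pnd (p := (T.e, T.f)) T.hp (u := T.w) (z := T.w')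
    (mem_comp.mpr ⟨T.ew, T.fw⟩) (mem_comp.mpr ⟨T.ew', T.fw'⟩) T.hq (g := (h⁻¹ * h').1) hlines with e | e
  · exact Or.inl fun x => by show (h⁻¹ * h').1.1 x = x; rw [e]; rfl
  · exact Or.inr fun x => by show (h⁻¹ * h').1.1 x = -x; rw [e]; rfl

include S in
/-- A semisimilitude agreeing with an automorphism fixing a pair. -/
theorem Setup.exists_semi_of_fix (hL : NoLag Q) (T : ThreePairs Q) (β : MulAut (PG Q)) (hβ : FixPair S T β) :
    ∃ l : Semi Q, β = l.aut := by
  haveI : Finite V := Module.finite_of_finite F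
  obtain ⟨A, σ, N, hN, hAW, hAβ, hadd, hA0, -, hσ, hsim⟩ := S.exists_semilinear hL T β hβ
  set W := comp Q (T.e, T.f) with hW
  have hef : polar Q T.e T.f = 1 := T.hp.2.2
  have hfe : polar Q T.f T.e = 1 := by rw [polar_comm]; exact hef
  have hee := polar_self_zero T.hp.1
  have hff := polar_self_zero T.hp.2.1
  have hpW : ∀ x, proj Q T.e T.f x ∈ W := proj_mem T.hp
  let L : V → V := fun x =>
    (N * σ (polar Q T.f x)) • T.e + σ (polar Q T.e x) • T.f + A (proj Q T.e T.f x)
  have hLadd : ∀ x y, L (x + y) = L x + L y := fun x y => by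
    have h : proj Q T.e T.f (x + y) = proj Q T.e T.f x + proj Q T.e T.f y := by
      simp only [proj, polar_add_right]; module
    simp only [L, polar_add_right, map_add, h, hadd _ (hpW x) _ (hpW y)]
    module
  have hLsmul : ∀ (c : F) x, L (c • x) = σ c • L x := fun c x => by
    have h : proj Q T.e T.f (c • x) = c • proj Q T.e T.f x := by
      simp only [proj, polar_smul_right, smul_eq_mul]; module
    simp only [L, polar_smul_right, smul_eq_mul, map_mul, h, hσ _ (hpW x) c]
    module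
  have hLq : ∀ x, Q (L x) = N * σ (Q x) := fun x => by
    have h1 := apply_symm T.hp (N * σ (polar Q T.f x)) (σ (polar Q T.e x)) ⟨_, hAW _ (hpW x)⟩
    have h2 := apply_symm T.hp (polar Q T.f x) (polar Q T.e x) ⟨_, hpW x⟩
    simp only [← eq_proj_add T.e T.f x] at h2
    simp only [L, h1, hsim _ (hpW x)]
    rw [h2, map_add, map_mul]
    ring
  have hinj : Function.Injective L := by
    intro x y hxy
    by_contra hne
    have h0 : L (x - y) = 0 := by
      have h := hLadd (x - y) y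
      rw [sub_add_cancel, hxy, right_eq_add] at h
      exact h
    refine hne (sub_eq_zero.1 (S.pnd _ fun w => ?_))
    have h1 : polar Q (L (x - y)) (L w) = N * σ (polar Q (x - y) w) := by
      simp only [polar, ← hLadd, hLq, mul_sub, map_sub]
    rw [h0, polar_zero_left] at h1
    exact (map_eq_zero σ).1 ((mul_eq_zero.1 h1.symm).resolve_left hN)
  let l : Semi Q :=
    { σ := σ
      L := AddEquiv.ofBijective (AddMonoidHom.mk' L hLadd) (Finite.injective_iff_bijective.mp hinj)
      N := N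
      hN := hN
      map_smul := hLsmul
      map_q := hLq }
  have hlL : ∀ x, l.L x = L x := fun _ => rfl
  have hle : l.L T.e = N • T.e := by
    have hp : proj Q T.e T.f T.e = 0 := by simp [proj, hee, hfe]
    have h0 : A 0 = 0 := by
      have h := hadd 0 W.zero_mem 0 W.zero_mem
      rw [add_zero] at h
      exact left_eq_add.mp h
    rw [hlL]
    simp [L, hp, hfe, hee, h0]
  have hlf : l.L T.f = T.f := by
    have hp : proj Q T.e T.f T.f = 0 := by simp [proj, hff, hef]
    have h0 : A 0 = 0 := by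
      have h := hadd 0 W.zero_mem 0 W.zero_mem
      rw [add_zero] at h
      exact left_eq_add.mp h
    rw [hlL]
    simp [L, hp, hef, hff, h0]
  have hlW : ∀ w ∈ W, l.L w = A w := fun w hw => by
    have hp : proj Q T.e T.f w = w := by simp [proj, (mem_comp.mp hw).1, (mem_comp.mp hw).2]
    rw [hlL]
    simp [L, hp, (mem_comp.mp hw).1, (mem_comp.mp hw).2]
  refine ⟨l, ?_⟩
  suffices h : l.aut⁻¹ * β = 1 from (inv_mul_eq_one.1 h).symm
  refine S.eq_one_of_fix hL T _ ?_ ?_
  · rintro _ ⟨g, hg, rfl⟩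
    obtain ⟨v, hv, rfl⟩ := (S.mem_Qg T.hp.1).1 hg
    obtain ⟨w, hw⟩ : ∃ w, w = v + (-polar Q T.f v) • T.e := ⟨_, rfl⟩
    have hwW : w ∈ W := mem_comp.mpr
      ⟨by rw [hw, polar_add_right, polar_smul_right, hee, hv]; simp,
        by rw [hw, polar_add_right, polar_smul_right, hfe]; simp⟩
    have hse : S.se T.hp.1 (mem_comp.mp hwW).1 = S.se T.hp.1 hv :=
      (S.se_congr _ _ T.hp.1 (v' := v + (-polar Q T.f v) • T.e) (by rw [← hw]; exact (mem_comp.mp hwW).1) rfl hw).trans
        (S.se_shift _ T.hp.1 hv)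
    rw [← hse, MulAut.mul_apply, hAβ w hwW (mem_comp.mp hwW).1 (mem_comp.mp (hAW w hwW)).1]
    apply l.aut.injective
    rw [MulAut.apply_inv_self, l.aut_pr]
    obtain ⟨ha, hb, h⟩ := S.cg_se l T.hp.1 (mem_comp.mp hwW).1
    rw [h]
    refine congrArg _ (Subtype.ext ?_)
    have hbe : polar Q T.e (N⁻¹ • A w) = 0 := by
      rw [polar_smul_right, (mem_comp.mp (hAW w hwW)).1, smul_zero]
    show el _ _ = el _ _
    rw [el_congr ha hb (e' := N • T.e) (v' := N⁻¹ • A w) (by rw [QuadraticMap.map_smul, T.hp.1, smul_zero])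
      (by rw [polar_smul_left, hbe, smul_zero]) hle (by rw [hlW w hwW]), el_scale N T.hp.1 hbe]
    exact el_congr _ _ _ _ rfl (by rw [smul_smul, mul_inv_cancel₀ hN, one_smul])
  · obtain ⟨ha, h⟩ := S.aut_PQ l T.hp.2.1
    rw [S.PQ_congr ha T.hp.2.1 hlf] at h
    have e : ((l.aut⁻¹ * β : MulAut (PG Q)).toMonoidHom) = l.aut⁻¹.toMonoidHom.comp β.toMonoidHom := rfl
    rw [e, ← Subgroup.map_map, hβ.2]
    conv_lhs => rw [← h, Subgroup.map_map]
    convert Subgroup.map_id (S.PQ T.hp.2.1) using 2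
    exact MonoidHom.ext fun x => MulAut.inv_apply_self _ l.aut x

include S in
/-- Every automorphism is induced by a semisimilitude. -/
theorem Setup.exists_semi (hL : NoLag Q) (α : MulAut (PG Q)) : ∃ l : Semi Q, α = l.aut := by
  obtain ⟨T⟩ := S.frame
  obtain ⟨he0, hf0, -, -, -, -⟩ := frame_ne T
  obtain ⟨a, ha, ha0, hA⟩ := S.exists_image hL α T.hp.1 he0
  obtain ⟨b, hb, hb0, hB⟩ := S.exists_image hL α T.hp.2.1 hf0
  have hab : polar Q a b ≠ 0 := fun h => by
    have h1 : polar Q T.e T.f = 1 := T.hp.2.2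
    rw [(S.perp_iff α T.hp.1 T.hp.2.1 ha hb he0 hf0 ha0 hb0 hA hB).2 h] at h1
    exact zero_ne_one h1
  obtain ⟨g₁, c, hc, hg₁⟩ := S.exists_point_move T.hp.1 he0 ha ha0
  have hca : Q (c • a) = 0 := by rw [QuadraticMap.map_smul, ha, smul_zero]
  obtain ⟨k, hk⟩ : ∃ k, k = (c * polar Q a b)⁻¹ := ⟨_, rfl⟩
  have hk0 : k ≠ 0 := hk ▸ inv_ne_zero (mul_ne_zero hc hab)
  have hkb : Q (k • b) = 0 := by rw [QuadraticMap.map_smul, hb, smul_zero]
  obtain ⟨hu, hmove⟩ := S.exists_partner_move hca ((q_ap g₁ T.f).trans T.hp.2.1) hkb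
    (by rw [← hg₁, polar_ap]; exact T.hp.2.2)
    (by
      rw [polar_smul_left, polar_smul_right, hk, smul_eq_mul, smul_eq_mul, mul_comm (c * polar Q a b)⁻¹, ← mul_assoc,
        mul_inv_cancel₀ (mul_ne_zero hc hab)])
  set g := S.se hca hu * g₁ with hg
  have hge : ap g T.e = c • a := by rw [hg, ap_mul, hg₁, S.Qg_fixes hca (S.se_mem _ _)]
  have hgf : ap g T.f = k • b := by rw [hg, ap_mul, hmove]
  have hfix : FixPair S T ((MulAut.conj (pr Q g))⁻¹ * α) := by
    have key : ∀ {x y : V} (hx : Q x = 0) (hy : Q y = 0) (d : F), d ≠ 0 → ap g x = d • y →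
        (S.PQ hx).map α.toMonoidHom = S.PQ hy →
        (S.PQ hx).map ((MulAut.conj (pr Q g))⁻¹ * α : MulAut (PG Q)).toMonoidHom = S.PQ hx := by
      intro x y hx hy d hd hgx h
      have e : (((MulAut.conj (pr Q g))⁻¹ * α : MulAut (PG Q)).toMonoidHom) =
          ((MulAut.conj (pr Q g))⁻¹).toMonoidHom.comp α.toMonoidHom := rfl
      rw [e, ← Subgroup.map_map, h, ← S.PQ_smul hy hd (by rw [QuadraticMap.map_smul, hy, smul_zero]),
        ← S.PQ_congr ((q_ap g x).trans hx) (by rw [QuadraticMap.map_smul, hy, smul_zero]) hgx, ← S.PQ_map_conj g hx,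
        Subgroup.map_map]
      convert Subgroup.map_id (S.PQ hx) using 2
      exact MonoidHom.ext fun z => MulAut.inv_apply_self (PG Q) (MulAut.conj (pr Q g)) z
    exact ⟨key T.hp.1 ha c hc hge hA, key T.hp.2.1 hb k hk0 hgf hB⟩
  obtain ⟨l, hl⟩ := S.exists_semi_of_fix hL T _ hfix
  exact ⟨(Semi.ofG g).comp' l, by rw [Semi.aut_comp, Semi.aut_ofG, ← hl, mul_inv_cancel_left]⟩

end Cfsg.Agent.Small.OrthAut
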