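import Cfsg.Agent.Lib.Small.OrthAut.Out
import Cfsg.Agent.Lib.Small.PSLn.Centralizers

/-!
Forms with a structure over the fixed field of a field automorphism: the semisimilitude they define,
descent of the similitudes commuting with it, and twisted forms.
-/

set_option autoImplicit false
set_option linter.unusedSectionVars false
set_option linter.style.haveILetI false

namespace Cfsg.Agent.Small.OrthAut

open Module QuadraticMap Matrix
open Cfsg.Agent.Classical
open Cfsg.Agent.Classical.OCount Cfsg.Agent.Classical.ORefl Cfsg.Agent.Classical.OOmega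
open Cfsg.Agent.Small.Orth (GO scalarG scalarSub rho)

variable {F : Type*} [Field F] [Finite F] {F₀ : Type*} [Field F₀] [Finite F₀]
  {ι : Type} [Fintype ι] [DecidableEq ι] {κ : Type} [Fintype κ] [DecidableEq κ]
  {Q : QuadraticForm F (ι → F)} {Q₀ : QuadraticForm F₀ (κ → F₀)} {σ : RingAut F} {j : F₀ →+* F}

theorem hom_comp_single (j : F₀ →+* F) (a : κ) : j ∘ (Pi.single a 1 : κ → F₀) = Pi.single a 1 := by
  funext k
  simp [Pi.single_apply, apply_ite j]

theorem hom_comp_add (j : F₀ →+* F) (x y : κ → F₀) : j ∘ (x + y) = j ∘ x + j ∘ y := funext fun _ => map_add j _ _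

theorem hom_comp_smul (j : F₀ →+* F) (c : F₀) (x : κ → F₀) : j ∘ (c • x) = j c • (j ∘ x) :=
  funext fun _ => map_mul j _ _

theorem map_mulVec_hom {κ' : Type} [Fintype κ'] (j : F₀ →+* F) (A : Matrix κ κ' F₀) (y : κ' → F₀) :
    A.map j *ᵥ (j ∘ y) = j ∘ (A *ᵥ y) :=
  funext fun i => (RingHom.map_mulVec j A y i).symm

/-- Forms agreeing on the rational vectors are equal. -/
theorem ext_of_rat (j : F₀ →+* F) {M N : QuadraticForm F (κ → F)}
    (h : ∀ y : κ → F₀, M (j ∘ y) = N (j ∘ y)) : M = N := by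
  refine OCount.quad_ext (fun i => ?_) fun i k => ?_
  · rw [← hom_comp_single j i, h]
  · rw [← hom_comp_single j i, ← hom_comp_single j k]
    simp only [polar, ← hom_comp_add, h]

/-- A structure over the fixed field of `σ`. -/
structure Desc (Q : QuadraticForm F (ι → F)) (Q₀ : QuadraticForm F₀ (κ → F₀)) (σ : RingAut F) (j : F₀ →+* F) where
  /-- The frame. -/
  T : (κ → F) ≃ₗ[F] (ι → F)
  /-- The scale. -/
  c : F
  hc : c ≠ 0
  fix : ∀ y, σ y = y ↔ y ∈ Set.range j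
  form : ∀ y : κ → F₀, Q (T (j ∘ y)) = c * j (Q₀ y)

namespace Desc

variable (D : Desc Q Q₀ σ j)

include D in
theorem fix' (a : F₀) : σ (j a) = j a := (D.fix _).2 ⟨a, rfl⟩

include D in
theorem comp_rat (y : κ → F₀) : σ ∘ (j ∘ y) = j ∘ y := funext fun k => D.fix' (y k)

/-- The form is defined over the fixed field. -/
theorem map_form (y : κ → F) : Q (D.T (σ ∘ y)) = D.c / σ D.c * σ (Q (D.T y)) := by
  obtain ⟨M, hM⟩ : ∃ M : QuadraticForm F (κ → F), M = D.c⁻¹ • QuadraticMap.comp Q D.T.toLinearMap := ⟨_, rfl⟩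
  have hMv : ∀ z, Q (D.T z) = D.c * M z := fun z => by
    simp [hM, ← mul_assoc, mul_inv_cancel₀ D.hc]
  have hrat : ∀ z : κ → F₀, M (j ∘ z) = j (Q₀ z) := fun z =>
    mul_left_cancel₀ D.hc ((hMv _).symm.trans (D.form z))
  have key : M (σ ∘ y) = σ (M y) := by
    have hpol : ∀ a b, σ (polar M (Pi.single a 1) (Pi.single b 1)) = polar M (Pi.single a 1) (Pi.single b 1) := by
      intro a b
      rw [← hom_comp_single j a, ← hom_comp_single j b]
      simp only [polar, ← hom_comp_add, hrat, map_sub, D.fix']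
    have hval : ∀ a, σ (M (Pi.single a 1)) = M (Pi.single a 1) := fun a => by
      rw [← hom_comp_single j a, hrat, D.fix']
    have hs : ∀ (a : κ) (z : κ → F), σ (polar M (Pi.single a 1) z) = polar M (Pi.single a 1) (σ ∘ z) := by
      intro a z
      have h1 : ∀ w : κ → F, polar M (Pi.single a 1) w = ∑ b, w b * polar M (Pi.single a 1) (Pi.single b 1) := fun w => by
        conv_lhs => rw [pi_eq_sum_univ' w]
        rw [← QuadraticMap.polarBilin_apply_apply, map_sum]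
        simp only [map_smul, smul_eq_mul, QuadraticMap.polarBilin_apply_apply]
      rw [h1, h1, map_sum]
      exact Finset.sum_congr rfl fun b _ => by rw [map_mul, hpol]; rfl
    suffices h : ∀ s : Finset κ, M (σ ∘ (∑ i ∈ s, y i • Pi.single i (1 : F))) = σ (M (∑ i ∈ s, y i • Pi.single i 1)) by
      have h' := h Finset.univ
      rwa [← pi_eq_sum_univ' y] at h'
    intro s
    induction s using Finset.induction with
    | empty =>
      rw [Finset.sum_empty, QuadraticMap.map_zero, map_zero,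
        show (σ ∘ (0 : κ → F)) = 0 from funext fun _ => map_zero σ, QuadraticMap.map_zero]
    | insert a s ha ih =>
      obtain ⟨w, hw⟩ : ∃ w, w = ∑ i ∈ s, y i • (Pi.single i (1 : F) : κ → F) := ⟨_, rfl⟩
      rw [← hw] at ih
      rw [Finset.sum_insert ha, ← hw,
        show σ ∘ (y a • (Pi.single a (1 : F) : κ → F) + w) = σ (y a) • Pi.single a 1 + σ ∘ w from funext fun k => by
          simp [Pi.single_apply, apply_ite σ]]
      rw [map_two, map_two, ih, QuadraticMap.map_smul, QuadraticMap.map_smul, polar_smul_left, polar_smul_left,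
        ← hs]
      simp [hval]
  rw [hMv, key, hMv, map_mul]
  field_simp [(map_ne_zero σ).2 D.hc]

/-- The semisimilitude fixing the rational vectors. -/
noncomputable def semi : Semi Q where
  σ := σ
  L := D.T.symm.toAddEquiv.trans ((AddEquiv.piCongrRight fun _ : κ => σ.toAddEquiv).trans D.T.toAddEquiv)
  N := D.c / σ D.c
  hN := div_ne_zero D.hc ((map_ne_zero σ).2 D.hc)
  map_smul c x := by
    show D.T (σ ∘ D.T.symm (c • x)) = σ c • D.T (σ ∘ D.T.symm x)
    rw [map_smul, show σ ∘ (c • D.T.symm x) = σ c • (σ ∘ D.T.symm x) from funext fun _ => map_mul σ _ _, map_smul]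
  map_q x := by
    show Q (D.T (σ ∘ D.T.symm x)) = _
    rw [D.map_form, D.T.apply_symm_apply]

theorem semi_T (z : κ → F) : D.semi.L (D.T z) = D.T (σ ∘ z) := by
  show D.T (σ ∘ D.T.symm (D.T z)) = _
  rw [D.T.symm_apply_apply]

theorem semi_σ : D.semi.σ = σ := rfl

/-- The automorphism of the structure. -/
noncomputable def x : MulAut (Cfsg.POmega F ⇑Q) := autHom Q (ofSemi D.semi)

theorem pow_apply (k : ℕ) (z : κ → F) : (ofSemi D.semi ^ k).1.1 (D.T z) = D.T ((σ ^ k : RingAut F) ∘ z) := by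
  induction k with
  | zero => rw [pow_zero, pow_zero]; rfl
  | succ k ih =>
    rw [pow_succ', show (ofSemi D.semi * ofSemi D.semi ^ k).1.1 (D.T z) =
      D.semi.L ((ofSemi D.semi ^ k).1.1 (D.T z)) from rfl, ih, D.semi_T, pow_succ']
    rfl

theorem semi_pow_orderOf : ofSemi D.semi ^ orderOf σ = 1 := by
  refine Subtype.ext (Prod.ext (Equiv.ext fun v => ?_) ?_)
  · obtain ⟨z, rfl⟩ := D.T.surjective v
    rw [D.pow_apply, pow_orderOf_eq_one]
    rfl
  · show (sigG Q) (ofSemi D.semi ^ orderOf σ) = 1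
    rw [map_pow]
    exact pow_orderOf_eq_one σ

theorem x_pow_orderOf : D.x ^ orderOf σ = 1 := by rw [x, ← map_pow, D.semi_pow_orderOf, map_one]

theorem orderOf_x (S : Setup Q) : orderOf D.x = orderOf σ := by
  refine Nat.dvd_antisymm (orderOf_dvd_of_pow_eq_one D.x_pow_orderOf) (orderOf_dvd_of_pow_eq_one ?_)
  have h : ofSemi D.semi ^ orderOf D.x ∈ (autHom Q).ker := by
    rw [MonoidHom.mem_ker, map_pow]
    exact pow_orderOf_eq_one D.x
  have h1 : sigG Q (ofSemi D.semi ^ orderOf D.x) = 1 := ((mem_ker_autHom S _).1 h).1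
  rwa [map_pow] at h1

/-- The rational similitudes. -/
noncomputable def embMat : Matrix κ κ F₀ →* Matrix ι ι F where
  toFun A := LinearMap.toMatrix' (D.T.toLinearMap ∘ₗ Matrix.toLin' (A.map j) ∘ₗ D.T.symm.toLinearMap)
  map_one' := Matrix.ext_of_mulVec_single fun i => by
    rw [LinearMap.toMatrix'_mulVec, Matrix.map_one _ (map_zero j) (map_one j), Matrix.toLin'_one, Matrix.one_mulVec]
    simp
  map_mul' A B := Matrix.ext_of_mulVec_single fun i => by
    rw [← Matrix.mulVec_mulVec, LinearMap.toMatrix'_mulVec, LinearMap.toMatrix'_mulVec, LinearMap.toMatrix'_mulVec,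
      Matrix.map_mul, Matrix.toLin'_mul]
    simp

theorem embMat_T (A : Matrix κ κ F₀) (z : κ → F) : D.embMat A *ᵥ D.T z = D.T (A.map j *ᵥ z) := by
  show LinearMap.toMatrix' _ *ᵥ _ = _
  rw [LinearMap.toMatrix'_mulVec]
  simp [Matrix.toLin'_apply]

/-- Similitudes of the rational form give similitudes. -/
theorem emb_sim (h : ↥(GO ⇑Q₀)) (v : ι → F) :
    Q (D.embMat (h : GL κ F₀).1 *ᵥ v) = j (Orth.mult h : F₀) * Q v := by
  obtain ⟨z, rfl⟩ := D.T.surjective v
  rw [D.embMat_T]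
  have e : (QuadraticMap.comp Q D.T.toLinearMap).comp (Matrix.toLin' ((h : GL κ F₀).1.map j)) =
      j (Orth.mult h : F₀) • QuadraticMap.comp Q D.T.toLinearMap := ext_of_rat j fun y => by
    simp only [QuadraticMap.comp_apply, LinearEquiv.coe_coe, Matrix.toLin'_apply, map_mulVec_hom, D.form,
      _root_.QuadraticMap.smul_apply, smul_eq_mul, Orth.mult_spec, map_mul]
    ring
  exact congrArg (fun M : QuadraticForm F (κ → F) => M z) e

/-- The rational similitudes as similitudes. -/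
noncomputable def emb : ↥(GO ⇑Q₀) →* ↥(GO ⇑Q) :=
  ((Units.map D.embMat).comp (GO ⇑Q₀).subtype).codRestrict _ fun h =>
    ⟨Units.map (j : F₀ →* F) (Orth.mult h), fun v => D.emb_sim h v⟩

theorem emb_T (h : ↥(GO ⇑Q₀)) (z : κ → F) :
    (D.emb h : GL ι F).1 *ᵥ D.T z = D.T ((h : GL κ F₀).1.map j *ᵥ z) := D.embMat_T _ z

theorem emb_rat (h : ↥(GO ⇑Q₀)) (y : κ → F₀) :
    (D.emb h : GL ι F).1 *ᵥ D.T (j ∘ y) = D.T (j ∘ ((h : GL κ F₀).1 *ᵥ y)) := by rw [D.emb_T, map_mulVec_hom]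

theorem commute_emb (h : ↥(GO ⇑Q₀)) : Commute (goHom Q (D.emb h)) (ofSemi D.semi) := by
  refine Subtype.ext (Prod.ext (Equiv.ext fun v => ?_) ?_)
  · obtain ⟨z, rfl⟩ := D.T.surjective v
    show (D.emb h : GL ι F).1 *ᵥ D.semi.L (D.T z) = D.semi.L ((D.emb h : GL ι F).1 *ᵥ D.T z)
    rw [D.semi_T, D.emb_T, D.emb_T, D.semi_T]
    congr 1
    funext a
    simp [Matrix.mulVec, dotProduct, map_sum, D.fix']
  · exact (one_mul σ).trans (mul_one σ).symm

theorem commute_rho_emb (h : ↥(GO ⇑Q₀)) : Commute (rho ⇑Q (D.emb h)) D.x := by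
  rw [← autHom_goHom]
  exact (D.commute_emb h).map (autHom Q)

/-- The similitudes centralising the automorphism are rational up to scalars. -/
theorem descend (S : Setup Q) (hne : ∃ y : κ → F₀, Q₀ y ≠ 0) (g : ↥(GO ⇑Q)) (hg : Commute (rho ⇑Q g) D.x) :
    ∃ (u : Fˣ) (h : ↥(GO ⇑Q₀)), g = scalarG Q u * D.emb h := by
  rw [← autHom_goHom] at hg
  have hk : ofSemi D.semi * goHom Q g * (ofSemi D.semi)⁻¹ * (goHom Q g)⁻¹ ∈ (autHom Q).ker := by
    rw [MonoidHom.mem_ker, map_mul, map_mul, map_mul, map_inv, map_inv]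
    show D.x * autHom Q (goHom Q g) * D.x⁻¹ * _ = 1
    rw [← hg.eq, mul_inv_cancel_right, mul_inv_cancel]
  obtain ⟨-, e, he, hc⟩ := (mem_ker_autHom S _).1 hk
  have hcomm : ∀ z : κ → F, D.semi.L (g.1.1 *ᵥ D.T z) = e • (g.1.1 *ᵥ D.semi.L (D.T z)) := fun z => by
    rw [← hc]
    exact congrArg (fun a : ↥(Gam Q) => a.1.1 (D.T z))
      (show ofSemi D.semi * goHom Q g =
        ofSemi D.semi * goHom Q g * (ofSemi D.semi)⁻¹ * (goHom Q g)⁻¹ * (goHom Q g * ofSemi D.semi) by group)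
  obtain ⟨M, hM⟩ : ∃ M : Matrix κ κ F,
      M = LinearMap.toMatrix' (D.T.symm.toLinearMap ∘ₗ Matrix.toLin' g.1.1 ∘ₗ D.T.toLinearMap) := ⟨_, rfl⟩
  have hMT : ∀ z, g.1.1 *ᵥ D.T z = D.T (M *ᵥ z) := fun z => by
    rw [hM, LinearMap.toMatrix'_mulVec]
    simp [Matrix.toLin'_apply]
  have hent : ∀ a b, σ (M a b) = e * M a b := fun a b => by
    have h := hcomm (Pi.single b 1)
    rw [D.semi_T, hMT, D.semi_T, hMT,
      show (σ ∘ Pi.single b (1 : F) : κ → F) = Pi.single b 1 from funext fun k => by simp [Pi.single_apply, apply_ite σ],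
      ← map_smul] at h
    have h' := congrFun (D.T.injective h) a
    simpa [Matrix.mulVec_single_one] using h'
  obtain ⟨y₁, hy₁⟩ := hne
  have hy0 : y₁ ≠ 0 := fun h0 => hy₁ (by rw [h0, QuadraticMap.map_zero])
  have hgz : ∀ z, M *ᵥ z = 0 → z = 0 := fun z hz => D.T.injective (by
    refine Matrix.mulVec_injective_of_isUnit (Units.isUnit g.1) ?_
    rw [hMT, hz, map_zero, Matrix.mulVec_zero])
  obtain ⟨a₀, b₀, hab⟩ : ∃ a b, M a b ≠ 0 := by
    by_contra hc'
    push Not at hc'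
    refine hy0 (funext fun k => j.injective ?_)
    rw [Pi.zero_apply, map_zero]
    exact congrFun (hgz (j ∘ y₁) (by rw [show M = 0 from Matrix.ext hc', Matrix.zero_mulVec])) k
  have hfix : ∀ a b, σ (M a b / M a₀ b₀) = M a b / M a₀ b₀ := fun a b => by
    rw [map_div₀, hent, hent, mul_div_mul_left _ _ he]
  choose h₀ hh₀ using fun a b => (D.fix _).1 (hfix a b)
  have hmap : M = M a₀ b₀ • (Matrix.of h₀).map j := Matrix.ext fun a b => by
    rw [Matrix.smul_apply, Matrix.map_apply, Matrix.of_apply, hh₀, smul_eq_mul, mul_div_cancel₀ _ hab]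
  obtain ⟨u, hu⟩ : ∃ u : Fˣ, (u : F) = M a₀ b₀ := ⟨Units.mk0 _ hab, rfl⟩
  have hrat : ∀ y, g.1.1 *ᵥ D.T (j ∘ y) = (u : F) • D.T (j ∘ (Matrix.of h₀ *ᵥ y)) := fun y => by
    rw [hMT, hmap, Matrix.smul_mulVec, map_mulVec_hom, map_smul, hu]
  obtain ⟨μ, hμ⟩ := g.2
  have hval : ∀ y, j (Q₀ (Matrix.of h₀ *ᵥ y)) = (μ : F) / ((u : F) * u) * j (Q₀ y) := fun y => by
    have h := hμ (D.T (j ∘ y))
    rw [hrat, QuadraticMap.map_smul, D.form, D.form, smul_eq_mul] at h
    refine mul_left_cancel₀ (mul_ne_zero (mul_ne_zero u.ne_zero u.ne_zero) D.hc) ?_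
    field_simp
    linear_combination h
  obtain ⟨μ₀, hμ₀⟩ : ∃ μ₀ : F₀, j μ₀ = (μ : F) / ((u : F) * u) :=
    ⟨Q₀ (Matrix.of h₀ *ᵥ y₁) / Q₀ y₁, by rw [map_div₀, hval, mul_div_cancel_right₀ _ ((map_ne_zero j).2 hy₁)]⟩
  have hμ0 : μ₀ ≠ 0 := fun e0 => by
    rw [e0, map_zero, eq_comm, div_eq_zero_iff] at hμ₀
    rcases hμ₀ with h | h
    · exact μ.ne_zero h
    · exact mul_ne_zero u.ne_zero u.ne_zero h
  have hdet : (Matrix.of h₀).det ≠ 0 := fun e0 => by
    obtain ⟨z, hz0, hz⟩ := Matrix.exists_mulVec_eq_zero_iff.2 e0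
    refine hz0 (funext fun k => j.injective ?_)
    rw [Pi.zero_apply, map_zero]
    refine congrFun (hgz (j ∘ z) (D.T.injective ?_)) k
    rw [← hMT, hrat, hz, show j ∘ (0 : κ → F₀) = 0 from funext fun _ => map_zero j, map_zero, smul_zero]
  obtain ⟨h, hh⟩ := Orth.exists_GO (Q := Q₀) (Matrix.of h₀) hdet (Units.mk0 μ₀ hμ0) fun y => j.injective (by
    rw [hval, Units.val_mk0, map_mul, hμ₀])
  refine ⟨u, h, Subtype.ext (Units.ext (Matrix.ext_of_mulVec_single fun i => ?_))⟩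
  obtain ⟨z, hz⟩ := D.T.surjective (Pi.single i 1)
  rw [← hz, Subgroup.coe_mul, Units.val_mul, ← Matrix.mulVec_mulVec, D.emb_T, Orth.scalarG_mulVec, hMT, hh, ← map_smul,
    ← Matrix.smul_mulVec]
  congr 2
  rw [hu]
  exact hmap

theorem rho_scalarG (u : Fˣ) : rho ⇑Q (scalarG Q u) = 1 :=
  MonoidHom.mem_ker.1 (Orth.scalarSub_le_ker (Orth.scalarG_mem u))

theorem rho_emb_eq_one (S : Setup Q) (S₀ : Setup Q₀) (h : ↥(GO ⇑Q₀)) :
    rho ⇑Q (D.emb h) = 1 ↔ rho ⇑Q₀ h = 1 := by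
  rw [← autHom_goHom, ← autHom_goHom, ← MonoidHom.mem_ker, ← MonoidHom.mem_ker, mem_ker_autHom S, mem_ker_autHom S₀]
  constructor
  · rintro ⟨-, e, he, hc⟩
    obtain ⟨T₀⟩ := S₀.frame
    have hmat : ∀ a b, j ((h : GL κ F₀).1 a b) = e * (if a = b then 1 else 0) := fun a b => by
      have h1 := hc (D.T (Pi.single b 1))
      rw [goHom_apply, D.emb_T, ← map_smul] at h1
      have h2 := congrFun (D.T.injective h1) a
      simpa [Matrix.mulVec_single_one, Pi.single_apply, eq_comm] using h2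
    obtain ⟨k, hk⟩ : ∃ k, j k = e := by
      obtain ⟨i₀, -⟩ := Function.ne_iff.1 (frame_ne T₀).1
      exact ⟨(h : GL κ F₀).1 i₀ i₀, by simpa using hmat i₀ i₀⟩
    refine ⟨rfl, k, fun hk0 => he (by rw [← hk, hk0, map_zero]), fun y => ?_⟩
    rw [goHom_apply]
    funext a
    apply j.injective
    simp only [Matrix.mulVec, dotProduct, map_sum, map_mul, hmat, Pi.smul_apply, smul_eq_mul, hk, mul_ite, mul_one,
      mul_zero, ite_mul, zero_mul, Finset.sum_ite_eq, Finset.mem_univ, if_true]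
  · rintro ⟨-, k, hk, hc⟩
    refine ⟨rfl, j k, (map_ne_zero j).2 hk, fun v => ?_⟩
    obtain ⟨z, rfl⟩ := D.T.surjective v
    rw [goHom_apply, D.emb_T, ← map_smul]
    congr 1
    funext a
    have hent : ∀ a b, (h : GL κ F₀).1 a b = if a = b then k else 0 := fun a b => by
      have h1 := congrFun (hc (Pi.single b 1)) a
      rw [goHom_apply] at h1
      simpa [Matrix.mulVec_single_one, Pi.single_apply, eq_comm] using h1
    simp [Matrix.mulVec, dotProduct, hent, apply_ite j]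

/-- The centraliser of the automorphism among the classes of `K`. -/
theorem centralizer_equiv (S : Setup Q) (S₀ : Setup Q₀) (hne : ∃ y : κ → F₀, Q₀ y ≠ 0)
    (K : Subgroup ↥(GO ⇑Q)) (K₀ : Subgroup ↥(GO ⇑Q₀)) (hscal : ∀ u, scalarG Q u ∈ K)
    (hK : ∀ h, D.emb h ∈ K ↔ h ∈ K₀) :
    Nonempty (↥(K.map (rho ⇑Q) ⊓ Subgroup.centralizer {D.x}) ≃* ↥(K₀.map (rho ⇑Q₀))) := by
  let Φ : ↥K₀ →* ↥(K.map (rho ⇑Q) ⊓ Subgroup.centralizer {D.x}) :=
    ((rho ⇑Q).comp (D.emb.comp K₀.subtype)).codRestrict _ fun h =>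
      Subgroup.mem_inf.2 ⟨⟨D.emb h, (hK _).2 h.2, rfl⟩, Subgroup.mem_centralizer_iff.2 (by
        rintro _ rfl; exact (D.commute_rho_emb h).eq.symm)⟩
  have hsurj : Function.Surjective Φ := by
    rintro ⟨y, hy⟩
    obtain ⟨⟨g, hg, rfl⟩, hc⟩ := Subgroup.mem_inf.1 hy
    obtain ⟨u, h, rfl⟩ := D.descend S hne g (Subgroup.mem_centralizer_iff.1 hc _ rfl).symm
    refine ⟨⟨h, (hK h).1 ((Subgroup.mul_mem_cancel_left _ (hscal u)).1 hg)⟩, Subtype.ext ?_⟩
    show rho ⇑Q (D.emb h) = rho ⇑Q (scalarG Q u * D.emb h)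
    rw [map_mul, rho_scalarG, one_mul]
  let r : ↥K₀ →* ↥(K₀.map (rho ⇑Q₀)) := (rho ⇑Q₀).subgroupMap K₀
  have hr : Function.Surjective r := MonoidHom.subgroupMap_surjective _ _
  have hker : r.ker = Φ.ker := by
    ext h
    rw [MonoidHom.mem_ker, MonoidHom.mem_ker, Subtype.ext_iff, Subtype.ext_iff]
    exact (D.rho_emb_eq_one S S₀ h).symm
  exact ⟨((QuotientGroup.quotientKerEquivOfSurjective Φ hsurj).symm.trans
    (QuotientGroup.quotientMulEquivOfEq hker.symm)).trans (QuotientGroup.quotientKerEquivOfSurjective r hr)⟩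

/-- Change of the rational form by a similarity. -/
noncomputable def retarget {κ' : Type} [Fintype κ'] [DecidableEq κ'] {Q₁ : QuadraticForm F₀ (κ' → F₀)}
    (T₁ : (κ' → F₀) ≃ₗ[F₀] (κ → F₀)) {d : F₀} (hd : d ≠ 0) (h : ∀ y, Q₀ (T₁ y) = d * Q₁ y) : Desc Q Q₁ σ j where
  T := (Matrix.toLin'OfInv (M := (LinearMap.toMatrix' T₁.symm.toLinearMap).map j)
    (M' := (LinearMap.toMatrix' T₁.toLinearMap).map j)
    (by rw [← Matrix.map_mul, ← LinearMap.toMatrix'_comp]
        simp [Matrix.map_one _ (map_zero j) (map_one j)])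
    (by rw [← Matrix.map_mul, ← LinearMap.toMatrix'_comp]
        simp [Matrix.map_one _ (map_zero j) (map_one j)])).trans D.T
  c := D.c * j d
  hc := mul_ne_zero D.hc ((map_ne_zero j).2 hd)
  fix := D.fix
  form y := by
    show Q (D.T (Matrix.toLin' ((LinearMap.toMatrix' T₁.toLinearMap).map j) (j ∘ y))) = _
    rw [Matrix.toLin'_apply, map_mulVec_hom,
      LinearMap.toMatrix'_mulVec, D.form, LinearEquiv.coe_coe, h, map_mul, mul_assoc]

theorem semi_retarget {κ' : Type} [Fintype κ'] [DecidableEq κ'] {Q₁ : QuadraticForm F₀ (κ' → F₀)}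
    (T₁ : (κ' → F₀) ≃ₗ[F₀] (κ → F₀)) {d : F₀} (hd : d ≠ 0) (h : ∀ y, Q₀ (T₁ y) = d * Q₁ y) :
    ofSemi (D.retarget T₁ hd h).semi = ofSemi D.semi := by
  refine Subtype.ext (Prod.ext (Equiv.ext fun v => ?_) rfl)
  obtain ⟨z, rfl⟩ := (D.retarget T₁ hd h).T.surjective v
  show (D.retarget T₁ hd h).semi.L _ = D.semi.L _
  rw [semi_T]
  show D.T (Matrix.toLin' ((LinearMap.toMatrix' T₁.toLinearMap).map j) (σ ∘ z)) =
    D.semi.L (D.T (Matrix.toLin' ((LinearMap.toMatrix' T₁.toLinearMap).map j) z))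
  rw [D.semi_T]
  congr 1
  funext a
  simp [Matrix.toLin'_apply, Matrix.mulVec, dotProduct, map_sum, D.fix']

/-- Two structures with the same rational form differ by a similitude. -/
theorem exists_trans (D' : Desc Q Q₀ σ j) :
    ∃ G : ↥(GO ⇑Q), (∀ z, G.1.1 *ᵥ D.T z = D'.T z) ∧ ofSemi D'.semi = goHom Q G * ofSemi D.semi * (goHom Q G)⁻¹ := by
  obtain ⟨A, hA⟩ : ∃ A : Matrix ι ι F, A = LinearMap.toMatrix' (D.T.symm.trans D'.T).toLinearMap := ⟨_, rfl⟩
  have hAT : ∀ z, A *ᵥ D.T z = D'.T z := fun z => by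
    rw [hA, LinearMap.toMatrix'_mulVec]; simp
  have hdet : A.det ≠ 0 := fun e0 => by
    obtain ⟨v, hv0, hv⟩ := Matrix.exists_mulVec_eq_zero_iff.2 e0
    obtain ⟨z, rfl⟩ := D.T.surjective v
    rw [hAT] at hv
    exact hv0 (by rw [D'.T.map_eq_zero_iff.1 hv, map_zero])
  obtain ⟨G, hG⟩ := Orth.exists_GO (Q := Q) A hdet (Units.mk0 (D'.c / D.c) (div_ne_zero D'.hc D.hc)) fun v => by
    obtain ⟨z, rfl⟩ := D.T.surjective v
    rw [hAT, Units.val_mk0]
    have e : QuadraticMap.comp Q D'.T.toLinearMap = (D'.c / D.c) • QuadraticMap.comp Q D.T.toLinearMap :=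
      ext_of_rat j fun y => by
        simp only [QuadraticMap.comp_apply, LinearEquiv.coe_coe, _root_.QuadraticMap.smul_apply, smul_eq_mul, D.form,
          D'.form]
        field_simp [D.hc]
    exact congrArg (fun M : QuadraticForm F (κ → F) => M z) e
  refine ⟨G, fun z => by rw [hG, hAT], eq_mul_inv_of_mul_eq ?_⟩
  refine Subtype.ext (Prod.ext (Equiv.ext fun v => ?_) (show σ * 1 = 1 * σ by rw [mul_one, one_mul]))
  obtain ⟨z, rfl⟩ := D.T.surjective v
  show D'.semi.L (G.1.1 *ᵥ D.T z) = G.1.1 *ᵥ D.semi.L (D.T z)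
  rw [hG, hAT, D.semi_T, hAT, D'.semi_T]

/-- The twisted rational form of an element of the coset of order dividing that of `σ`. -/
theorem exists_model (S : Setup Q) (hne : ∃ v, Q v ≠ 0) (hcard : Fintype.card ι = Fintype.card κ) (g : ↥(GO ⇑Q))
    (hg : (rho ⇑Q g * D.x) ^ orderOf σ = 1) :
    ∃ (Q₁ : QuadraticForm F₀ (κ → F₀)) (D₁ : Desc Q Q₁ σ j), PND Q₁ ∧
      ∃ u : Fˣ, goHom Q (scalarG Q u) * (goHom Q g * ofSemi D.semi) = ofSemi D₁.semi := by
  classical
  haveI := Fintype.ofFinite F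
  have hker : (goHom Q g * ofSemi D.semi) ^ orderOf σ ∈ (autHom Q).ker := by
    rw [MonoidHom.mem_ker, map_pow, map_mul, autHom_goHom]; exact hg
  obtain ⟨-, e, he, hpow⟩ := (mem_ker_autHom S _).1 hker
  obtain ⟨l, hl⟩ : ∃ l : ↥(Gam Q), l = goHom Q g * ofSemi D.semi := ⟨_, rfl⟩
  rw [← hl] at hpow
  have hlσ : l.1.2 = σ := by rw [hl]; exact one_mul σ
  have hlsmul : ∀ (c : F) v, l.1.1 (c • v) = σ c • l.1.1 v := fun c v => by rw [l.2.2.1, hlσ]
  have hfixe : σ e = e := by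
    obtain ⟨v, hv⟩ := hne
    have hv0 : v ≠ 0 := fun h => hv (by rw [h, QuadraticMap.map_zero])
    have h1 : l.1.1 ((l ^ orderOf σ).1.1 v) = (l ^ orderOf σ).1.1 (l.1.1 v) :=
      congrArg (fun a : ↥(Gam Q) => a.1.1 v) ((pow_succ' l (orderOf σ)).symm.trans (pow_succ l (orderOf σ)))
    rw [hpow, hpow, hlsmul] at h1
    exact smul_left_injective F (fun h0 => hv0 (l.1.1.injective (h0.trans (by
      have := hlsmul 0 v; rw [map_zero, zero_smul, zero_smul] at this; exact this.symm)))) h1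
  obtain ⟨μ, hμ0, hμ⟩ := PSLn.exists_norm_cyclic σ (inv_ne_zero he) (by rw [map_inv₀, hfixe])
  obtain ⟨A, hA⟩ : ∃ A : ↥(Gam Q), A = goHom Q (scalarG Q (Units.mk0 μ hμ0)) * l := ⟨_, rfl⟩
  have hAv : ∀ v, A.1.1 v = μ • l.1.1 v := fun v => by
    rw [hA]
    exact Orth.scalarG_mulVec (Units.mk0 μ hμ0) _
  have hAσ : A.1.2 = σ := by rw [hA]; exact (one_mul _).trans hlσ
  have hAsmul : ∀ (c : F) v, A.1.1 (c • v) = σ c • A.1.1 v := fun c v => by rw [A.2.2.1, hAσ]
  have hApow : ∀ (k : ℕ) v, (A ^ k).1.1 v = (∏ i ∈ Finset.range k, (σ ^ i : RingAut F) μ) • (l ^ k).1.1 v := by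
    intro k
    induction k with
    | zero => intro v; rw [pow_zero, pow_zero, Finset.prod_range_zero, one_smul]
    | succ k ih =>
      intro v
      rw [pow_succ', pow_succ' l, show (A * A ^ k).1.1 v = A.1.1 ((A ^ k).1.1 v) from rfl, ih, hAv, hlsmul, smul_smul,
        map_prod, Finset.prod_range_succ']
      congr 1
      rw [pow_zero, mul_comm μ]
      congr 1
      exact Finset.prod_congr rfl fun i _ => by rw [pow_succ']; rfl
  have hAone : ∀ v, (A ^ orderOf σ).1.1 v = v := fun v => by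
    rw [hApow, hμ, hpow, smul_smul, inv_mul_cancel₀ he, one_smul]
  -- fixed vectors span
  have hspan : Submodule.span F {v : ι → F | A.1.1 v = v} = ⊤ := by
    by_contra hne'
    obtain ⟨φ, hφ0, hφ⟩ := Submodule.exists_le_ker_of_lt_top _ (lt_of_le_of_ne le_top hne')
    refine hφ0 (LinearMap.ext fun v => ?_)
    have hr : 0 < orderOf σ := by
      haveI : Finite (RingAut F) :=
        Finite.of_injective (fun s : RingAut F => ⇑s) fun _ _ h => RingEquiv.ext (congrFun h)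
      exact orderOf_pos σ
    have hsum : ∀ d : F, ∑ i ∈ Finset.range (orderOf σ), φ ((A ^ i).1.1 v) * (σ ^ i : RingAut F) d = 0 := by
      intro d
      have hfixed : A.1.1 (∑ i ∈ Finset.range (orderOf σ), (A ^ i).1.1 (d • v)) =
          ∑ i ∈ Finset.range (orderOf σ), (A ^ i).1.1 (d • v) := by
        have hmap : ∀ (s : Finset ℕ) (w : ℕ → ι → F), A.1.1 (∑ i ∈ s, w i) = ∑ i ∈ s, A.1.1 (w i) := fun s w =>
          map_sum (AddMonoidHom.mk' (⇑A.1.1) A.2.1) w s
        rw [hmap]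
        have h1 := Finset.sum_range_succ' (fun i => (A ^ i).1.1 (d • v)) (orderOf σ)
        rw [Finset.sum_range_succ, hAone] at h1
        refine Eq.trans ?_ (add_right_cancel (h1.trans (by rw [pow_zero]; rfl))).symm
        exact Finset.sum_congr rfl fun i _ => by rw [pow_succ']; rfl
      have h2 : φ (∑ i ∈ Finset.range (orderOf σ), (A ^ i).1.1 (d • v)) = 0 :=
        LinearMap.mem_ker.1 (hφ (Submodule.subset_span hfixed))
      rw [map_sum] at h2
      refine (Finset.sum_congr rfl fun i _ => ?_).trans h2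
      rw [(A ^ i).2.2.1, map_smul, smul_eq_mul, mul_comm, show (A ^ i).1.2 = sigG Q A ^ i from map_pow (sigG Q) A i,
        show sigG Q A = σ from hAσ]
    have hind := (linearIndependent_monoidHom F F).comp
      (fun i : Fin (orderOf σ) => (((σ ^ (i : ℕ) : RingAut F) : F →+* F) : F →* F)) (fun i k hik => Fin.ext (by
        refine pow_injOn_Iio_orderOf (x := σ) i.2 k.2 (RingEquiv.ext fun d => ?_)
        exact DFunLike.congr_fun hik d))
    rw [Fintype.linearIndependent_iff] at hind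
    have h0 := hind (fun i => φ ((A ^ (i : ℕ)).1.1 v)) (funext fun d => by
      rw [Finset.sum_apply, Pi.zero_apply, ← hsum d]
      exact (Fin.sum_univ_eq_sum_range (fun i => φ ((A ^ i).1.1 v) * (σ ^ i : RingAut F) d) (orderOf σ))) ⟨0, hr⟩
    simpa using h0
  obtain ⟨f, hfmem, hfspan, hfli⟩ := Submodule.exists_fun_fin_finrank_span_eq F {v : ι → F | A.1.1 v = v}
  have hdim : Fintype.card κ = finrank F ↥(Submodule.span F {v : ι → F | A.1.1 v = v}) := by
    rw [hspan, finrank_top, Module.finrank_fintype_fun_eq_card, hcard]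
  let eκ : κ ≃ Fin (finrank F ↥(Submodule.span F {v : ι → F | A.1.1 v = v})) := (Fintype.equivFin κ).trans (finCongr hdim)
  let bB : Basis κ F (ι → F) := (Basis.mk hfli (by rw [hfspan, hspan])).reindex eκ.symm
  have hb : ∀ k, A.1.1 (bB k) = bB k := fun k => by
    have h1 : bB k = f (eκ k) := by simp [bB]
    rw [h1]
    exact hfmem _
  let B : (κ → F) ≃ₗ[F] (ι → F) := bB.equivFun.symm
  have hBA : ∀ z, A.1.1 (B z) = B (σ ∘ z) := fun z => by
    show A.1.1 (bB.equivFun.symm z) = bB.equivFun.symm (σ ∘ z)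
    rw [Basis.equivFun_symm_apply, Basis.equivFun_symm_apply]
    rw [show A.1.1 (∑ k, z k • bB k) = ∑ k, A.1.1 (z k • bB k) from
      map_sum (AddMonoidHom.mk' (⇑A.1.1) A.2.1) _ _]
    exact Finset.sum_congr rfl fun k _ => by rw [hAsmul, hb]; rfl
  obtain ⟨N, hN0, hN⟩ := A.2.2.2
  rw [hAσ] at hN
  have hrel : ∀ y : κ → F₀, Q (B (j ∘ y)) = N * σ (Q (B (j ∘ y))) := fun y => by
    conv_lhs => rw [← D.comp_rat y, ← hBA, hN]
  obtain ⟨y₀, hy₀⟩ : ∃ y : κ → F₀, Q (B (j ∘ y)) ≠ 0 := by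
    by_contra hc'
    push Not at hc'
    obtain ⟨v, hv⟩ := hne
    obtain ⟨z, rfl⟩ := B.surjective v
    have e0 : QuadraticMap.comp Q B.toLinearMap = 0 := ext_of_rat j fun y => by simpa using hc' y
    exact hv (congrArg (fun M : QuadraticForm F (κ → F) => M z) e0)
  obtain ⟨h0, hh0⟩ : ∃ h0, h0 = Q (B (j ∘ y₀)) := ⟨_, rfl⟩
  rw [← hh0] at hy₀
  have hratio : ∀ y : κ → F₀, ∃ a : F₀, j a = Q (B (j ∘ y)) / h0 := fun y => by
    refine (D.fix _).1 ?_
    rw [map_div₀, ← mul_div_mul_left _ (σ h0) hN0, ← hrel y, hh0, ← hrel y₀]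
  choose q₁ hq₁ using hratio
  have hq : ∀ y, Q (B (j ∘ y)) = h0 * j (q₁ y) := fun y => by
    rw [hq₁, mul_div_cancel₀ _ hy₀]
  have hpolar : ∀ y y', j (polar q₁ y y') = h0⁻¹ * polar Q (B (j ∘ y)) (B (j ∘ y')) := fun y y' => by
    simp only [polar, ← map_add B, ← hom_comp_add, hq, map_sub]
    field_simp
  let Q₁ : QuadraticForm F₀ (κ → F₀) := QuadraticMap.ofPolar q₁
    (fun a y => j.injective (by
      rw [hq₁, hom_comp_smul, map_smul B, QuadraticMap.map_smul, smul_eq_mul, smul_eq_mul, map_mul, map_mul, hq₁]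
      field_simp))
    (fun y y' z => j.injective (by
      rw [map_add, hpolar, hpolar, hpolar, hom_comp_add, map_add B, polar_add_left, mul_add]))
    (fun a y z => j.injective (by
      rw [smul_eq_mul, map_mul, hpolar, hpolar, hom_comp_smul, map_smul B, polar_smul_left, smul_eq_mul]
      ring))
  refine ⟨Q₁, ⟨B, h0, hy₀, D.fix, hq⟩, fun y hy => ?_, Units.mk0 μ hμ0, ?_⟩
  · have h1 : B (j ∘ y) = 0 := S.pnd _ fun v => by
      obtain ⟨z, rfl⟩ := B.surjective v
      rw [pi_eq_sum_univ' z, map_sum, ← QuadraticMap.polarBilin_apply_apply, map_sum]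
      refine Finset.sum_eq_zero fun k _ => ?_
      rw [map_smul, map_smul, QuadraticMap.polarBilin_apply_apply, ← hom_comp_single j k]
      have h2 : j (polar q₁ y (Pi.single k 1)) = 0 := by
        rw [show polar q₁ y (Pi.single k 1) = polar Q₁ y (Pi.single k 1) from rfl, hy, map_zero]
      rw [hpolar, mul_eq_zero, or_iff_right (inv_ne_zero hy₀)] at h2
      rw [h2, smul_zero]
    exact funext fun k => j.injective ((congrFun (B.map_eq_zero_iff.1 h1) k).trans (map_zero j).symm)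
  · rw [← hl, ← hA]
    refine Subtype.ext (Prod.ext (Equiv.ext fun v => ?_) hAσ)
    obtain ⟨z, rfl⟩ := B.surjective v
    show A.1.1 (B z) = B (σ ∘ B.symm (B z))
    rw [B.symm_apply_apply, hBA]

/-- Counting the classes into which the class of the automorphism splits. -/
theorem count (S : Setup Q) (hne : ∃ y : κ → F₀, Q₀ y ≠ 0) (K : Subgroup ↥(GO ⇑Q)) (K₀ : Subgroup ↥(GO ⇑Q₀))
    (hinn : Orth.innSub Q ≤ K) (hK : ∀ h, D.emb h ∈ K ↔ h ∈ K₀)
    (hcomm : ∀ a ∈ K.map (QuotientGroup.mk' (Orth.innSub Q)), ∀ b ∈ K.map (QuotientGroup.mk' (Orth.innSub Q)),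
      a * b = b * a) :
    Cfsg.splitClassCount (K.map (rho ⇑Q)) (Cfsg.Inn (Cfsg.POmega F ⇑Q)) D.x =
      (((K₀.map D.emb).map (QuotientGroup.mk' (Orth.innSub Q)))).relIndex (K.map (QuotientGroup.mk' (Orth.innSub Q))) := by
  letI : CommGroup ↥(K.map (QuotientGroup.mk' (Orth.innSub Q))) :=
    { (inferInstance : Group ↥(K.map (QuotientGroup.mk' (Orth.innSub Q)))) with
      mul_comm := fun a b => Subtype.ext (hcomm a a.2 b b.2) }
  rw [PSLn.splitClassCount_eq ((rho ⇑Q).comp K.subtype) ((QuotientGroup.mk' (Orth.innSub Q)).subgroupMap K)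
    (MonoidHom.subgroupMap_surjective _ _) (by rw [MonoidHom.range_comp, Subgroup.range_subtype]) ?_ ?_ D.x,
    Subgroup.relIndex]
  · congr 1
    ext ⟨y, hy⟩
    rw [Subgroup.mem_subgroupOf]
    constructor
    · rintro ⟨⟨g, hg⟩, hgc, he⟩
      obtain ⟨u, h, rfl⟩ := D.descend S hne g
        (Subgroup.mem_centralizer_iff.1 (show rho ⇑Q g ∈ Subgroup.centralizer {D.x} from hgc) _ rfl).symm
      have hu : scalarG Q u ∈ Orth.innSub Q := by
        rw [Subgroup.mem_comap, rho_scalarG]; exact one_mem _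
      refine ⟨D.emb h, ⟨h, (hK h).1 ((Subgroup.mul_mem_cancel_left _ (hinn hu)).1 hg), rfl⟩, ?_⟩
      rw [← congrArg Subtype.val he]
      show (QuotientGroup.mk' (Orth.innSub Q)) (D.emb h) = (QuotientGroup.mk' (Orth.innSub Q)) (scalarG Q u * D.emb h)
      rw [map_mul, show QuotientGroup.mk' (Orth.innSub Q) (scalarG Q u) = 1 from (QuotientGroup.eq_one_iff _).2 hu,
        one_mul]
    · rintro ⟨_, ⟨h, hh, rfl⟩, rfl⟩
      refine ⟨⟨D.emb h, (hK h).2 hh⟩, ?_, rfl⟩
      show rho ⇑Q (D.emb h) ∈ Subgroup.centralizer {D.x}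
      rw [Subgroup.mem_centralizer_iff]
      rintro _ rfl
      exact (D.commute_rho_emb h).eq.symm
  · rw [Orth.inn_eq]
    rintro _ ⟨g, hg, rfl⟩
    exact ⟨g, hinn ⟨g, hg, rfl⟩, rfl⟩
  · rintro ⟨g, hg⟩
    show rho ⇑Q g ∈ _ ↔ _
    rw [Orth.inn_eq, ← Subgroup.mem_comap, ← QuotientGroup.eq_one_iff, Subtype.ext_iff]
    rfl

end Desc

end Cfsg.Agent.Small.OrthAut
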