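import Cfsg.Agent.Lib.Small.OrthAut.Out
import Cfsg.Agent.Lib.Small.Orth.SimClasses

/-!
The two classes of maximal totally singular subspaces: semisimilitudes act on them through a sign.
-/

set_option autoImplicit false
set_option linter.unusedSectionVars false
set_option linter.style.haveILetI false

namespace Cfsg.Agent.Small.OrthAut

open Module QuadraticMap Matrix
open Cfsg.Agent.Classical
open Cfsg.Agent.Classical.OCount Cfsg.Agent.Classical.ORefl Cfsg.Agent.Classical.OOmega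
open Cfsg.Agent.Small.Orth (GO incl prodRf)

variable {F : Type*} [Field F] [Finite F] {ι : Type} [Fintype ι] [DecidableEq ι] {Q : QuadraticForm F (ι → F)} {N : ℕ}

/-- Totally singular of dimension `N`. -/
def TSN (Q : QuadraticForm F (ι → F)) (N : ℕ) (U : Submodule F (ι → F)) : Prop :=
  (∀ w ∈ U, Q w = 0) ∧ finrank F U = N

/-- Two subspaces lie in one class. -/
def SameCl (N : ℕ) (U W : Submodule F (ι → F)) : Prop := Even (N - finrank F ↥(U ⊓ W))

/-- An even-dimensional form of maximal Witt index. -/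
structure Split (Q : QuadraticForm F (ι → F)) (N : ℕ) : Prop where
  pnd : PND Q
  hcard : Fintype.card ι = 2 * N
  gen : Nat.card F ≠ 2 ∨ Fintype.card ι ≠ 4
  ex : ∃ U, TSN Q N U

theorem sameCl_self (U : Submodule F (ι → F)) (hU : TSN Q N U) : SameCl N U U := by
  rw [SameCl, inf_idem, hU.2, Nat.sub_self]
  exact Even.zero

theorem Split.exists_word (P : Split Q N) {U W : Submodule F (ι → F)} (hU : TSN Q N U) (hW : TSN Q N W) :
    ∃ vs : List (ι → F), (∀ v ∈ vs, Q v ≠ 0) ∧ U.map ((prodRf Q vs).1 : (ι → F) →ₗ[F] ι → F) = W := by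
  obtain ⟨g, hg⟩ := Orth.exists_map_iso P.pnd (LinearEquiv.ofFinrankEq U W (hU.2.trans hW.2.symm)) fun u =>
    (hW.1 _ (LinearEquiv.ofFinrankEq U W (hU.2.trans hW.2.symm) u).2).trans (hU.1 _ u.2).symm
  obtain ⟨vs, hvs, he⟩ := Orth.exists_list P.pnd (by rw [Module.finrank_fintype_fun_eq_card]; exact P.gen) g
  refine ⟨vs, hvs, ?_⟩
  refine Submodule.eq_of_le_of_finrank_eq ?_ ((LinearEquiv.finrank_map_eq (prodRf Q vs).1 U).trans (hU.2.trans hW.2.symm))
  rintro _ ⟨u, hu, rfl⟩
  show (prodRf Q vs).1 u ∈ W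
  rw [he]
  exact hg u hu

theorem Split.sameCl_word (P : Split Q N) {U : Submodule F (ι → F)} (hU : TSN Q N U) (vs : List (ι → F))
    (hvs : ∀ v ∈ vs, Q v ≠ 0) :
    SameCl N U (U.map ((prodRf Q vs).1 : (ι → F) →ₗ[F] ι → F)) ↔ Even vs.length :=
  Orth.even_inter_iff P.pnd (by rw [Module.finrank_fintype_fun_eq_card, P.hcard]) hU.1 hU.2 vs hvs

/-- Two classes only. -/
theorem Split.sameCl_trans (P : Split Q N) {U W X : Submodule F (ι → F)} (hU : TSN Q N U) (hW : TSN Q N W)
    (hX : TSN Q N X) : SameCl N U X ↔ (SameCl N U W ↔ SameCl N W X) := by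
  obtain ⟨vs, hvs, rfl⟩ := P.exists_word hU hW
  obtain ⟨ws, hws, rfl⟩ := P.exists_word hW hX
  rw [P.sameCl_word hU vs hvs, P.sameCl_word hW ws hws,
    show (U.map ((prodRf Q vs).1 : (ι → F) →ₗ[F] ι → F)).map ((prodRf Q ws).1 : (ι → F) →ₗ[F] ι → F) =
      U.map ((prodRf Q (ws ++ vs)).1 : (ι → F) →ₗ[F] ι → F) by rw [← Submodule.map_comp, Orth.prodRf_append]; rfl,
    P.sameCl_word hU (ws ++ vs) fun v hv => (List.mem_append.1 hv).elim (hws v) (hvs v), List.length_append,
    Nat.even_add]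
  exact iff_comm

/-- The image of a subspace. -/
def imageS (l : Semi Q) (U : Submodule F (ι → F)) : Submodule F (ι → F) where
  carrier := l.L '' U
  add_mem' := by
    rintro _ _ ⟨x, hx, rfl⟩ ⟨y, hy, rfl⟩
    exact ⟨x + y, U.add_mem hx hy, map_add l.L x y⟩
  zero_mem' := ⟨0, U.zero_mem, map_zero l.L⟩
  smul_mem' := by
    rintro c _ ⟨x, hx, rfl⟩
    exact ⟨l.σ.symm c • x, U.smul_mem _ hx, by rw [l.map_smul, RingEquiv.apply_symm_apply]⟩

theorem mem_imageS (l : Semi Q) (U : Submodule F (ι → F)) (x : ι → F) :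
    x ∈ imageS l U ↔ ∃ u ∈ U, l.L u = x := Iff.rfl

theorem finrank_imageS (l : Semi Q) (U : Submodule F (ι → F)) : finrank F (imageS l U) = finrank F U := by
  have e : ↥U ≃ ↥(imageS l U) := Equiv.Set.image l.L U l.L.injective
  have h := Nat.card_congr e
  rw [Module.natCard_eq_pow_finrank (K := F), Module.natCard_eq_pow_finrank (K := F) (V := ↥(imageS l U))] at h
  exact (Nat.pow_right_injective (Finite.one_lt_card) h).symm

theorem imageS_inf (l : Semi Q) (U W : Submodule F (ι → F)) : imageS l (U ⊓ W) = imageS l U ⊓ imageS l W :=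
  SetLike.coe_injective (Set.image_inter l.L.injective)

theorem tsn_imageS (l : Semi Q) {U : Submodule F (ι → F)} (hU : TSN Q N U) : TSN Q N (imageS l U) := by
  refine ⟨?_, (finrank_imageS l U).trans hU.2⟩
  rintro _ ⟨u, hu, rfl⟩
  rw [l.map_q, hU.1 u hu, map_zero, mul_zero]

theorem sameCl_imageS (l : Semi Q) (U W : Submodule F (ι → F)) :
    SameCl N (imageS l U) (imageS l W) ↔ SameCl N U W := by
  rw [SameCl, SameCl, ← imageS_inf, finrank_imageS]

theorem imageS_congr {l k : Semi Q} (h : ∀ x, l.L x = k.L x) (U : Submodule F (ι → F)) : imageS l U = imageS k U :=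
  SetLike.coe_injective (Set.image_congr fun x _ => h x)

theorem imageS_mul (a b : ↥(Gam Q)) (U : Submodule F (ι → F)) :
    imageS (toSemi (a * b)) U = imageS (toSemi a) (imageS (toSemi b) U) :=
  SetLike.coe_injective (Set.image_image (toSemi a).L (toSemi b).L U).symm

/-- Whether a semisimilitude fixes the classes does not depend on the subspace. -/
theorem Split.sameCl_indep (P : Split Q N) (l : Semi Q) {U W : Submodule F (ι → F)} (hU : TSN Q N U) (hW : TSN Q N W) :
    SameCl N W (imageS l W) ↔ SameCl N U (imageS l U) := by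
  have h1 := P.sameCl_trans hU hW (tsn_imageS l hW)
  have h2 := P.sameCl_trans hU (tsn_imageS l hU) (tsn_imageS l hW)
  have h3 := sameCl_imageS (N := N) l U W
  tauto

open scoped _root_.Classical in
/-- The sign of a semisimilitude on the classes. -/
noncomputable def Split.cls (P : Split Q N) : ↥(Gam Q) →* ℤˣ :=
  MonoidHom.mk' (fun a => if SameCl N P.ex.choose (imageS (toSemi a) P.ex.choose) then 1 else -1) fun a b => by
    have hU := P.ex.choose_spec
    have hb := tsn_imageS (toSemi b) hU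
    have h1 := P.sameCl_trans hU hb (tsn_imageS (toSemi a) hb)
    rw [P.sameCl_indep (toSemi a) hU hb, ← imageS_mul] at h1
    simp only [h1]
    split_ifs <;> first | rfl | tauto

theorem Split.cls_eq_one (P : Split Q N) (a : ↥(Gam Q)) {U : Submodule F (ι → F)} (hU : TSN Q N U) :
    P.cls a = 1 ↔ SameCl N U (imageS (toSemi a) U) := by
  classical
  show (if SameCl N P.ex.choose (imageS (toSemi a) P.ex.choose) then (1 : ℤˣ) else -1) = 1 ↔ _
  rw [P.sameCl_indep (toSemi a) P.ex.choose_spec hU]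
  split_ifs with h <;> simp [h]

theorem Split.cls_scalar (P : Split Q N) (c : Fˣ) : P.cls (goHom Q (Orth.scalarG Q c)) = 1 := by
  obtain ⟨U, hU⟩ := P.ex
  rw [P.cls_eq_one _ hU]
  have : imageS (toSemi (goHom Q (Orth.scalarG Q c))) U = U := by
    ext x
    rw [mem_imageS]
    constructor
    · rintro ⟨u, hu, rfl⟩
      show (Orth.scalarG Q c : GL ι F).1 *ᵥ u ∈ U
      rw [Orth.scalarG_mulVec]
      exact U.smul_mem _ hu
    · intro hx
      refine ⟨((c⁻¹ : Fˣ) : F) • x, U.smul_mem _ hx, ?_⟩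
      show (Orth.scalarG Q c : GL ι F).1 *ᵥ _ = x
      rw [Orth.scalarG_mulVec, smul_smul, Units.mul_inv, one_smul]
  rw [this]
  exact sameCl_self U hU

/-- An isometry given by a word. -/
theorem Split.cls_word (P : Split Q N) (h : ↥(Cfsg.isometryGroup F ⇑Q)) (vs : List (ι → F))
    (hvs : ∀ v ∈ vs, Q v ≠ 0) (hM : ∀ x, h.1.1 *ᵥ x = (prodRf Q vs).1 x) :
    P.cls (goHom Q (incl ⇑Q h)) = 1 ↔ Even vs.length := by
  obtain ⟨U, hU⟩ := P.ex
  rw [P.cls_eq_one _ hU, ← P.sameCl_word hU vs hvs]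
  have : imageS (toSemi (goHom Q (incl ⇑Q h))) U = U.map ((prodRf Q vs).1 : (ι → F) →ₗ[F] ι → F) := by
    ext x
    rw [mem_imageS, Submodule.mem_map]
    exact exists_congr fun u => and_congr_right fun _ => by
      rw [toSemi_L, goHom_apply]
      show h.1.1 *ᵥ u = x ↔ _
      rw [hM]
      rfl
  rw [this]

/-- Preserving the classes of maximal totally singular subspaces. -/
theorem Split.preserves_iff (P : Split Q N) (g : ↥(GO ⇑Q)) :
    Cfsg.PreservesSingularClasses ⇑Q (g : GL ι F).1 ↔ P.cls (goHom Q g) = 1 := by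
  obtain ⟨U₀, hU₀⟩ := P.ex
  have himg : ∀ U : Submodule F (ι → F),
      Cfsg.imageSubmodule (g : GL ι F).1 U = imageS (toSemi (goHom Q g)) U := fun U => by
    ext x
    rw [Cfsg.imageSubmodule, Submodule.mem_map, mem_imageS]
    exact exists_congr fun u => and_congr_right fun _ => by
      rw [toSemi_L, goHom_apply, Matrix.toLin'_apply]
  have hmax : ∀ U, TSN Q N U → Cfsg.IsMaxTotallySingular ⇑Q U := fun U hU => ⟨hU.1, fun W hW hle => by
    obtain ⟨x, hx⟩ := Orth.exists_iso_into P.pnd P.hcard hU.1 hU.2 W hW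
    refine (Submodule.eq_of_le_of_finrank_le hle ?_).symm
    rw [← LinearEquiv.finrank_map_eq x.1 W]
    exact Submodule.finrank_mono (by rintro _ ⟨u, hu, rfl⟩; exact hx u hu)⟩
  have hdim : ∀ U, Cfsg.IsMaxTotallySingular ⇑Q U → TSN Q N U := fun U hU => by
    obtain ⟨x, hx⟩ := Orth.exists_iso_into P.pnd P.hcard hU₀.1 hU₀.2 U hU.1
    have e : U₀.map ((x⁻¹).1 : (ι → F) →ₗ[F] ι → F) = U := by
      refine hU.2 _ ?_ fun u hu => ⟨x.1 u, hx u hu, x.1.symm_apply_apply u⟩
      rintro _ ⟨w, hw, rfl⟩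
      exact ((x⁻¹).2 w).trans (hU₀.1 w hw)
    exact ⟨hU.1, by rw [← e, LinearEquiv.finrank_map_eq (x⁻¹).1 U₀]; exact hU₀.2⟩
  constructor
  · intro hp
    have h := hp U₀ (hmax U₀ hU₀)
    rw [Cfsg.SameParityClass, himg, hU₀.2] at h
    exact (P.cls_eq_one _ hU₀).2 h
  · intro h U hU
    rw [Cfsg.SameParityClass, himg, (hdim U hU).2]
    exact (P.cls_eq_one _ (hdim U hU)).1 h

end Cfsg.Agent.Small.OrthAut
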