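import Cfsg.Agent.Lib.Small.OrthAut.Desc
import Cfsg.Agent.Lib.Small.OrthAut.Parity
import Cfsg.Agent.Lib.Small.OrthAut.SignConj
import Cfsg.Agent.Lib.Small.Orth.SimMinus

/-!
The class-preserving similitudes in even dimension, in every characteristic, and their behaviour
under semisimilitudes and under descent.
-/

set_option autoImplicit false
set_option linter.unusedSectionVars false
set_option linter.style.haveILetI false

namespace Cfsg.Agent.Small.OrthAut

open Module QuadraticMap Matrix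
open Cfsg.Agent.Classical
open Cfsg.Agent.Classical.OCount Cfsg.Agent.Classical.ORefl Cfsg.Agent.Classical.OOmega
open Cfsg.Agent.Small.Orth (GO incl scalarG rho mult SimSetup prodRf innSub omegaSub qPlus qMinus dMinus)

section Def

variable {F : Type*} [Field F] [Finite F] {ι : Type} [Fintype ι] [DecidableEq ι]

open scoped _root_.Classical in
/-- The class-preserving similitudes. -/
noncomputable def evenK (Q : QuadraticForm F (ι → F)) (N : ℕ) : Subgroup ↥(GO ⇑Q) :=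
  if h : SimSetup Q N then h.delta.ker else innSub Q

variable {Q : QuadraticForm F (ι → F)} {N : ℕ}

theorem evenK_odd (S : SimSetup Q N) : evenK Q N = S.delta.ker := by
  rw [evenK, dif_pos S]

theorem evenK_two (h2 : (2 : F) = 0) : evenK Q N = innSub Q := by
  rw [evenK, dif_neg fun S => S.h2 h2]

/-- The hypotheses on an even-dimensional form. -/
structure EvenData (Q : QuadraticForm F (ι → F)) (N : ℕ) : Prop where
  setup : Setup Q
  sim : (2 : F) ≠ 0 → SimSetup Q N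
  gen : Nat.card F ≠ 2 ∨ Fintype.card ι ≠ 4

theorem scalar_mem_innSub (u : Fˣ) : scalarG Q u ∈ innSub Q := by
  rw [Subgroup.mem_comap, Desc.rho_scalarG]; exact one_mem _

theorem EvenData.innSub_le (E : EvenData Q N) : innSub Q ≤ evenK Q N := by
  by_cases h2 : (2 : F) = 0
  · rw [evenK_two h2]
  · intro g hg
    rw [evenK_odd (E.sim h2)]
    exact MonoidHom.mem_ker.2 ((E.sim h2).innSub_sign hg).2

theorem EvenData.scalar_mem (E : EvenData Q N) (u : Fˣ) : scalarG Q u ∈ evenK Q N :=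
  E.innSub_le (scalar_mem_innSub u)

/-- Semisimilitudes normalise the class-preserving similitudes. -/
theorem EvenData.conj_mem (E : EvenData Q N) (a : ↥(Gam Q)) {g g' : ↥(GO ⇑Q)}
    (h : goHom Q g' * a = a * goHom Q g) (hg : g ∈ evenK Q N) : g' ∈ evenK Q N := by
  by_cases h2 : (2 : F) = 0
  · rw [evenK_two h2] at hg ⊢
    rw [Subgroup.mem_comap, ← Orth.inn_eq] at hg ⊢
    have h1 := congrArg (autHom Q) h
    rw [map_mul, map_mul, autHom_goHom, autHom_goHom, ← eq_mul_inv_iff_mul_eq] at h1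
    rw [h1]
    exact (Cfsg.innNormal _).conj_mem _ hg _
  · have S := E.sim h2
    rw [evenK_odd S] at hg ⊢
    rw [MonoidHom.mem_ker] at hg ⊢
    rw [(sign_conj S (toSemi a) g g' fun x => congrArg (fun b : ↥(Gam Q) => b.1.1 x) h).2, hg]

/-- The inner-diagonal group is normal. -/
theorem EvenData.map_normal (E : EvenData Q N) (hL : NoLag Q) : ((evenK Q N).map (rho ⇑Q)).Normal := by
  refine ⟨fun y hy β => ?_⟩
  obtain ⟨g, hg, rfl⟩ := hy
  obtain ⟨a, rfl⟩ := autHom_surjective E.setup hL β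
  obtain ⟨g', hg'⟩ : a * goHom Q g * a⁻¹ ∈ (goHom Q).range := by
    rw [range_goHom, MonoidHom.mem_ker, map_mul, map_mul, map_inv,
      MonoidHom.mem_ker.1 (show goHom Q g ∈ (sigG Q).ker from range_goHom (Q := Q) ▸ ⟨g, rfl⟩), mul_one, mul_inv_cancel]
  refine ⟨g', E.conj_mem a (by rw [hg', inv_mul_cancel_right]) hg, ?_⟩
  rw [← autHom_goHom, ← autHom_goHom, hg', map_mul, map_mul, map_inv]

section Two

theorem mult_one_of_iso (S : Setup Q) (h : ↥(Cfsg.isometryGroup F ⇑Q)) : mult (incl ⇑Q h) = 1 :=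
  Units.ext (mult_unique S (incl ⇑Q h).1.1 (Orth.mult_spec _) fun v => by
    rw [Units.val_one, one_mul]; exact h.2 v v)

/-- In characteristic two every similitude is a scalar times an isometry. -/
theorem decomp_two (h2 : (2 : F) = 0) (g : ↥(GO ⇑Q)) :
    ∃ (u : Fˣ) (h : ↥(Cfsg.isometryGroup F ⇑Q)), g = scalarG Q u * incl ⇑Q h := by
  haveI := Fintype.ofFinite F
  obtain ⟨s, hs⟩ := sq_of_char_two h2 (mult g : F)
  have hs0 : s ≠ 0 := fun e => (mult g).ne_zero (by rw [hs, e, mul_zero])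
  refine ⟨Units.mk0 s hs0, ⟨((scalarG Q (Units.mk0 s hs0))⁻¹ * g : ↥(GO ⇑Q)).1, fun v _ => ?_⟩,
    (mul_inv_cancel_left _ _).symm⟩
  show Q (((scalarG Q (Units.mk0 s hs0))⁻¹ * g : ↥(GO ⇑Q)).1.1 *ᵥ v) = Q v
  have e : (g.1.1 *ᵥ v) = s • (((scalarG Q (Units.mk0 s hs0))⁻¹ * g : ↥(GO ⇑Q)).1.1 *ᵥ v) := by
    conv_lhs => rw [show g = scalarG Q (Units.mk0 s hs0) * ((scalarG Q (Units.mk0 s hs0))⁻¹ * g) from
      (mul_inv_cancel_left _ _).symm]
    rw [Subgroup.coe_mul, Units.val_mul, ← Matrix.mulVec_mulVec, Orth.scalarG_mulVec]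
    rfl
  have h1 := Orth.mult_spec g v
  rw [e, QuadraticMap.map_smul, hs, smul_eq_mul] at h1
  exact mul_left_cancel₀ (mul_ne_zero hs0 hs0) h1

/-- In characteristic two the inner similitudes are the even words up to scalars. -/
theorem incl_mem_two (h2 : (2 : F) = 0) (S : Setup Q) (h : ↥(Cfsg.isometryGroup F ⇑Q)) (vs : List (ι → F))
    (hvs : ∀ v ∈ vs, Q v ≠ 0) (hM : ∀ x, h.1.1 *ᵥ x = (prodRf Q vs).1 x) :
    incl ⇑Q h ∈ innSub Q ↔ Even vs.length := by
  have hsq : IsSquare (vs.map fun v => Q v).prod := Orth.isSquare_all h2 _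
  constructor
  · rintro ⟨_, ⟨s, hs, rfl⟩, he⟩
    have hk : goHom Q (incl ⇑Q (h * s⁻¹)) ∈ (autHom Q).ker := by
      rw [MonoidHom.mem_ker, autHom_goHom, map_mul, map_inv, map_mul, map_inv, he, mul_inv_cancel]
    obtain ⟨-, c, -, hc⟩ := (mem_ker_autHom S _).1 hk
    obtain ⟨T⟩ := S.frame
    obtain ⟨v, hv⟩ := exists_value_of_pair T.hp 1
    have hcc : c * c = 1 := by
      have h1 : Q ((h * s⁻¹).1.1 *ᵥ v) = Q v := (h * s⁻¹).2 v v
      rw [show (h * s⁻¹).1.1 *ᵥ v = c • v from hc v, QuadraticMap.map_smul, hv, smul_eq_mul, mul_one] at h1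
      exact h1
    have hc1 : c = 1 := by
      rcases mul_self_eq_one_iff.1 hcc with e | e
      · exact e
      · linear_combination e - h2
    have hhs : h = s := mul_inv_eq_one.1 (Subtype.ext (Units.ext (Matrix.ext_of_mulVec_single fun i => by
      rw [show (h * s⁻¹).1.1 *ᵥ Pi.single i 1 = c • Pi.single i 1 from hc _, hc1, one_smul]
      exact (Matrix.one_mulVec _).symm)))
    exact ((Orth.mem_omega rfl S.pnd h vs hvs hM).1 (hhs ▸ hs)).1
  · intro he
    exact ⟨_, ⟨h, (Orth.mem_omega rfl S.pnd h vs hvs hM).2 ⟨he, hsq⟩, rfl⟩, rfl⟩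

theorem scalar_mul_mem_innSub (u : Fˣ) (g : ↥(GO ⇑Q)) : scalarG Q u * g ∈ innSub Q ↔ g ∈ innSub Q :=
  Subgroup.mul_mem_cancel_left _ (scalar_mem_innSub u)

theorem cls_eq_two (h2 : (2 : F) = 0) (S : Setup Q) (P : Split Q N) (g : ↥(GO ⇑Q)) :
    P.cls (goHom Q g) = 1 ↔ g ∈ innSub Q := by
  obtain ⟨u, h, rfl⟩ := decomp_two h2 g
  obtain ⟨vs, hvs, hM⟩ := Orth.exists_list_mat rfl S.pnd P.gen h
  rw [scalar_mul_mem_innSub, map_mul, map_mul, P.cls_scalar, one_mul, P.cls_word h vs hvs hM,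
    incl_mem_two h2 S h vs hvs hM]

end Two

/-- A reflection does not preserve the classes. -/
theorem EvenData.exists_not_mem (E : EvenData Q N) : ∃ h : ↥(GO ⇑Q), h ∉ evenK Q N := by
  obtain ⟨T⟩ := E.setup.frame
  obtain ⟨v, hv⟩ := exists_value_of_pair T.hp 1
  obtain ⟨r, hr⟩ := Orth.exists_word_mat (Q := Q) rfl [v]
  have hne : ∀ w ∈ [v], Q w ≠ 0 := by simp [hv]
  refine ⟨incl ⇑Q r, fun hm => ?_⟩
  by_cases h2 : (2 : F) = 0
  · rw [evenK_two h2, incl_mem_two h2 E.setup r [v] hne hr] at hm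
    simp at hm
  · rw [evenK_odd (E.sim h2), MonoidHom.mem_ker, (E.sim h2).delta_incl r [v] hne hr] at hm
    simp at hm

theorem EvenData.index_two (E : EvenData Q N) {g h : ↥(GO ⇑Q)} (hg : g ∉ evenK Q N) (hh : h ∉ evenK Q N) :
    g * h ∈ evenK Q N := by
  by_cases h2 : (2 : F) = 0
  · rw [evenK_two h2] at hg hh ⊢
    obtain ⟨u, a, rfl⟩ := decomp_two h2 g
    obtain ⟨u', b, rfl⟩ := decomp_two h2 h
    obtain ⟨vs, hvs, hM⟩ := Orth.exists_list_mat rfl E.setup.pnd E.gen a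
    obtain ⟨ws, hws, hN⟩ := Orth.exists_list_mat rfl E.setup.pnd E.gen b
    rw [scalar_mul_mem_innSub] at hg hh
    rw [incl_mem_two h2 E.setup a vs hvs hM, Nat.not_even_iff_odd] at hg
    rw [incl_mem_two h2 E.setup b ws hws hN, Nat.not_even_iff_odd] at hh
    rw [mul_assoc, scalar_mul_mem_innSub, ← QuotientGroup.eq_one_iff, QuotientGroup.mk_mul, QuotientGroup.mk_mul,
      (QuotientGroup.eq_one_iff _).2 (scalar_mem_innSub u'), one_mul, ← QuotientGroup.mk_mul, ← map_mul,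
      QuotientGroup.eq_one_iff, incl_mem_two h2 E.setup (a * b) (vs ++ ws)
        (fun v hv => (List.mem_append.1 hv).elim (hvs v) (hws v))
        (fun x => by
          rw [Subgroup.coe_mul, Units.val_mul, ← Matrix.mulVec_mulVec, hN, hM, Orth.prodRf_append]
          rfl), List.length_append]
    exact hg.add_odd hh
  · have S := E.sim h2
    rw [evenK_odd S, MonoidHom.mem_ker] at hg hh ⊢
    rw [map_mul, (Int.units_eq_one_or _).resolve_left hg, (Int.units_eq_one_or _).resolve_left hh]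
    decide

end Def

section Descent

variable {F : Type*} [Field F] [Finite F] {F₀ : Type*} [Field F₀] [Finite F₀]
  {ι : Type} [Fintype ι] [DecidableEq ι] {κ : Type} [Fintype κ] [DecidableEq κ]
  {Q : QuadraticForm F (ι → F)} {Q₀ : QuadraticForm F₀ (κ → F₀)} {σ : RingAut F} {j : F₀ →+* F}

theorem Desc.mult_emb (D : Desc Q Q₀ σ j) (S : Setup Q) (h : ↥(GO ⇑Q₀)) :
    (mult (D.emb h) : F) = j (mult h : F₀) :=
  mult_unique S (D.emb h).1.1 (Orth.mult_spec _) fun v => D.emb_sim h v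

theorem Desc.det_emb (D : Desc Q Q₀ σ j) (h : ↥(GO ⇑Q₀)) : (D.emb h).1.1.det = j h.1.1.det := by
  show (D.embMat h.1.1).det = _
  show (LinearMap.toMatrix' _).det = _
  rw [LinearMap.det_toMatrix']
  refine (LinearMap.det_conj (Matrix.toLin' (h.1.1.map j)) D.T).trans ?_
  rw [LinearMap.det_toLin']
  exact (RingHom.map_det j _).symm

theorem Desc.emb_scalar (D : Desc Q Q₀ σ j) (u : F₀ˣ) :
    D.emb (scalarG Q₀ u) = scalarG Q (Units.map (j : F₀ →* F) u) := by
  refine Subtype.ext (Units.ext (Matrix.ext_of_mulVec_single fun i => ?_))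
  obtain ⟨z, hz⟩ := D.T.surjective (Pi.single i 1)
  rw [← hz, D.emb_T, Orth.scalarG_mulVec, ← map_smul]
  congr 1
  funext a
  show ((Matrix.scalar κ (u : F₀)).map j *ᵥ z) a = _
  rw [Matrix.scalar_apply, Matrix.diagonal_map (map_zero j), Matrix.mulVec_diagonal]
  rfl

/-- Reflections over the fixed field give reflections. -/
theorem Desc.prodRf_rat (D : Desc Q Q₀ σ j) (vs : List (κ → F₀)) (hvs : ∀ v ∈ vs, Q₀ v ≠ 0) (y : κ → F₀) :
    (prodRf Q (vs.map fun v => D.T (j ∘ v))).1 (D.T (j ∘ y)) = D.T (j ∘ (prodRf Q₀ vs).1 y) := by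
  induction vs with
  | nil => rw [List.map_nil, Orth.prodRf_nil, Orth.prodRf_nil]; rfl
  | cons v vs ih =>
    rw [List.map_cons, Orth.prodRf_cons, Orth.prodRf_cons]
    show ORefl.refl Q (D.T (j ∘ v)) ((prodRf Q (vs.map fun v => D.T (j ∘ v))).1 (D.T (j ∘ y))) =
      D.T (j ∘ ORefl.refl Q₀ v ((prodRf Q₀ vs).1 y))
    rw [ih fun w hw => hvs w (List.mem_cons_of_mem _ hw), refl_apply, refl_apply, polar, polar, ← map_add, ← hom_comp_add,
      D.form, D.form, D.form, ← map_smul, ← map_sub]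
    congr 1
    funext a
    have h0 : j (Q₀ v) ≠ 0 := (map_ne_zero j).2 (hvs v List.mem_cons_self)
    simp only [Pi.sub_apply, Pi.smul_apply, smul_eq_mul, Function.comp_apply, map_sub, map_mul, map_inv₀]
    field_simp [D.hc, h0]

/-- Words over the fixed field give words. -/
theorem Desc.emb_word (D : Desc Q Q₀ σ j) (h : ↥(Cfsg.isometryGroup F₀ ⇑Q₀)) (vs : List (κ → F₀))
    (hvs : ∀ v ∈ vs, Q₀ v ≠ 0) (hM : ∀ x, h.1.1 *ᵥ x = (prodRf Q₀ vs).1 x) :
    ∃ h' : ↥(Cfsg.isometryGroup F ⇑Q), D.emb (incl ⇑Q₀ h) = incl ⇑Q h' ∧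
      (∀ v ∈ vs.map (fun v => D.T (j ∘ v)), Q v ≠ 0) ∧
      ∀ x, h'.1.1 *ᵥ x = (prodRf Q (vs.map fun v => D.T (j ∘ v))).1 x := by
  obtain ⟨h', hh'⟩ := Orth.exists_word_mat (Q := Q) rfl (vs.map fun v => D.T (j ∘ v))
  refine ⟨h', Subtype.ext (Units.ext ?_), fun v hv => ?_, hh'⟩
  · have e : Matrix.toLin' (D.emb (incl ⇑Q₀ h)).1.1 ∘ₗ D.T.toLinearMap = Matrix.toLin' h'.1.1 ∘ₗ D.T.toLinearMap :=
      (Pi.basisFun F κ).ext fun k => by
        rw [Pi.basisFun_apply, ← hom_comp_single j k]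
        simp only [LinearMap.comp_apply, LinearEquiv.coe_coe, Matrix.toLin'_apply]
        rw [D.emb_rat, hh', D.prodRf_rat vs hvs, ← hM]
        rfl
    refine Matrix.ext_of_mulVec_single fun i => ?_
    obtain ⟨z, hz⟩ := D.T.surjective (Pi.single i 1)
    rw [← hz]
    show _ = h'.1.1 *ᵥ D.T z
    simpa [Matrix.toLin'_apply] using LinearMap.congr_fun e z
  · obtain ⟨w, hw, rfl⟩ := List.mem_map.1 hv
    rw [D.form]
    exact mul_ne_zero D.hc ((map_ne_zero j).2 (hvs w hw))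

/-- Descent respects the classes. -/
theorem Desc.emb_mem_evenK (D : Desc Q Q₀ σ j) {N : ℕ} (E : EvenData Q N) (E₀ : EvenData Q₀ N) (h : ↥(GO ⇑Q₀)) :
    D.emb h ∈ evenK Q N ↔ h ∈ evenK Q₀ N := by
  by_cases h2 : (2 : F₀) = 0
  · have h2' : (2 : F) = 0 := by rw [← map_ofNat j 2, h2, map_zero]
    rw [evenK_two h2, evenK_two h2']
    obtain ⟨u, k, rfl⟩ := decomp_two h2 h
    obtain ⟨vs, hvs, hM⟩ := Orth.exists_list_mat rfl E₀.setup.pnd E₀.gen k
    obtain ⟨k', hk', hvs', hM'⟩ := D.emb_word k vs hvs hM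
    rw [map_mul, D.emb_scalar, hk', scalar_mul_mem_innSub, scalar_mul_mem_innSub,
      incl_mem_two h2' E.setup k' _ hvs' hM', incl_mem_two h2 E₀.setup k vs hvs hM, List.length_map]
  · have h2' : (2 : F) ≠ 0 := fun e => h2 (j.injective (by rw [map_ofNat, e, map_zero]))
    rw [evenK_odd (E.sim h2'), evenK_odd (E₀.sim h2), MonoidHom.mem_ker, MonoidHom.mem_ker,
      (E.sim h2').delta_eq_one, (E₀.sim h2).delta_eq_one, D.det_emb, D.mult_emb E.setup, ← map_pow]
    exact j.injective.eq_iff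

end Descent

section Plus

variable {F : Type*} [Field F] [Fintype F] {m : ℕ}

theorem split_plus (hm : 3 ≤ m) : Split (qPlus F m) m where
  pnd := Orth.qPlus_pnd F m
  hcard := by simp; omega
  gen := Or.inr (by simp; omega)
  ex := ⟨Orth.zeroRight F m, Orth.zeroRight_singular F, Orth.finrank_zeroRight F m⟩

theorem evenData_plus (hm : 3 ≤ m) : EvenData (qPlus F m) m :=
  ⟨setup_plus hm, fun h2 => Orth.setupPlus (Nat.odd_iff.2 (FiniteField.odd_card_of_char_ne_two fun e => h2 (by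
      haveI := ringChar.of_eq e
      exact CharTwo.two_eq_zero))) hm, Or.inr (by simp; omega)⟩

theorem preserves_evenK_plus (hm : 3 ≤ m) (g : ↥(GO ⇑(qPlus F m))) :
    Cfsg.PreservesSingularClasses ⇑(qPlus F m) g.1.1 ↔ g ∈ evenK (qPlus F m) m := by
  by_cases h2 : (2 : F) = 0
  · rw [(split_plus hm).preserves_iff, evenK_two h2, cls_eq_two h2 (setup_plus hm) (split_plus hm)]
  · have S := (evenData_plus hm).sim h2
    rw [evenK_odd S, MonoidHom.mem_ker]
    exact (iff_of_eq (congrArg (fun q => Cfsg.PreservesSingularClasses q g.1.1) (coe_plus m))).trans <| Orth.preserves_plus (Nat.odd_iff.2 (FiniteField.odd_card_of_char_ne_two fun e => h2 (by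
      haveI := ringChar.of_eq e
      exact CharTwo.two_eq_zero))) S g

theorem cls_plus (hm : 3 ≤ m) (g : ↥(GO ⇑(qPlus F m))) :
    (split_plus hm).cls (goHom _ g) = 1 ↔ g ∈ evenK (qPlus F m) m :=
  ((split_plus hm).preserves_iff g).symm.trans (preserves_evenK_plus hm g)

theorem inndiag_plus_eq (hm : 3 ≤ m) :
    Cfsg.autSubgroupOf (fun β : MulAut (Cfsg.POmega F ⇑(qPlus F m)) =>
      ∃ g : GL (Fin m ⊕ Fin m) F, g ∈ GO ⇑(qPlus F m) ∧ Cfsg.PreservesSingularClasses ⇑(qPlus F m) g.1 ∧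
        Cfsg.IsInducedBySemilinearPOmega ⇑(qPlus F m) g (RingEquiv.refl F) β) =
      (evenK (qPlus F m) m).map (rho ⇑(qPlus F m)) := by
  rw [← Orth.autSub_eq (P := fun g => g ∈ GO ⇑(qPlus F m) ∧ Cfsg.PreservesSingularClasses ⇑(qPlus F m) g.1)
    (evenK (qPlus F m) m) (fun g => by rw [preserves_evenK_plus hm g]; exact ⟨fun h => ⟨g.2, h⟩, fun h => h.2⟩)
    fun g hg => hg.1]
  simp only [and_assoc]

end Plus

end Cfsg.Agent.Small.OrthAut
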