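import Cfsg.Agent.Lib.Small.OrthAut.Standard

/-!
The group of semisimilitudes, its action on `PΩ(Q)` with scalar kernel, and the order of the
automorphism group.
-/

set_option autoImplicit false
set_option linter.unusedSectionVars false
set_option linter.style.haveILetI false

namespace Cfsg.Agent.Small.OrthAut

open Module QuadraticMap Matrix
open Cfsg.Agent.Classical
open Cfsg.Agent.Classical.OCount Cfsg.Agent.Classical.ORefl Cfsg.Agent.Classical.OOmega

variable {F : Type*} [Field F] [Finite F] {ι : Type} [Fintype ι] [DecidableEq ι] {Q : QuadraticForm F (ι → F)}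

variable (Q) in
/-- The group of semisimilitudes, as pairs of a permutation of the vectors and a field automorphism. -/
def Gam : Subgroup (Equiv.Perm (ι → F) × RingAut F) where
  carrier := {a | (∀ x y, a.1 (x + y) = a.1 x + a.1 y) ∧ (∀ (c : F) x, a.1 (c • x) = a.2 c • a.1 x) ∧
    ∃ N : F, N ≠ 0 ∧ ∀ x, Q (a.1 x) = N * a.2 (Q x)}
  one_mem' := ⟨fun _ _ => rfl, fun _ _ => rfl, 1, one_ne_zero, fun x => (one_mul _).symm⟩
  mul_mem' := by
    rintro a b ⟨ha1, ha2, N, hN, ha3⟩ ⟨hb1, hb2, M, hM, hb3⟩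
    refine ⟨fun x y => ?_, fun c x => ?_, N * a.2 M, mul_ne_zero hN ((map_ne_zero a.2).2 hM), fun x => ?_⟩
    · show a.1 (b.1 (x + y)) = a.1 (b.1 x) + a.1 (b.1 y)
      rw [hb1, ha1]
    · show a.1 (b.1 (c • x)) = a.2 (b.2 c) • a.1 (b.1 x)
      rw [hb2, ha2]
    · show Q (a.1 (b.1 x)) = N * a.2 M * a.2 (b.2 (Q x))
      rw [ha3, hb3, map_mul, mul_assoc]
  inv_mem' := by
    rintro a ⟨ha1, ha2, N, hN, ha3⟩
    have happ : ∀ x, a.1 (a.1⁻¹ x) = x := fun x => a.1.apply_symm_apply x
    have hσ : ∀ c, a.2 (a.2⁻¹ c) = c := fun c => a.2.apply_symm_apply c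
    refine ⟨fun x y => a.1.injective ?_, fun c x => a.1.injective ?_, a.2⁻¹ N⁻¹,
      (map_ne_zero (a.2⁻¹ : RingAut F)).2 (inv_ne_zero hN), fun x => ?_⟩
    · show a.1 (a.1⁻¹ (x + y)) = a.1 (a.1⁻¹ x + a.1⁻¹ y)
      rw [happ, ha1, happ, happ]
    · show a.1 (a.1⁻¹ (c • x)) = a.1 (a.2⁻¹ c • a.1⁻¹ x)
      rw [happ, ha2, happ, hσ]
    · apply a.2.injective
      show a.2 (Q (a.1⁻¹ x)) = a.2 (a.2⁻¹ N⁻¹ * a.2⁻¹ (Q x))
      rw [map_mul, hσ, hσ]
      have h := ha3 (a.1⁻¹ x)
      rw [happ] at h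
      rw [h, ← mul_assoc, inv_mul_cancel₀ hN, one_mul]

/-- An element of the group as a semisimilitude. -/
noncomputable def toSemi (a : ↥(Gam Q)) : Semi Q where
  σ := a.1.2
  L := { a.1.1 with map_add' := a.2.1 }
  N := a.2.2.2.choose
  hN := a.2.2.2.choose_spec.1
  map_smul := a.2.2.1
  map_q := a.2.2.2.choose_spec.2

theorem toSemi_L (a : ↥(Gam Q)) (x : ι → F) : (toSemi a).L x = a.1.1 x := rfl

/-- A semisimilitude as an element of the group. -/
def ofSemi (l : Semi Q) : ↥(Gam Q) :=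
  ⟨(l.L.toEquiv, l.σ), fun x y => map_add l.L x y, l.map_smul, l.N, l.hN, l.map_q⟩

theorem aut_congr {l k : Semi Q} (h : ∀ x, l.L x = k.L x) : l.aut = k.aut := by
  refine MulEquiv.ext fun y => ?_
  obtain ⟨g, rfl⟩ := pr_surjective y
  rw [l.aut_pr, k.aut_pr]
  refine congrArg _ (ext_ap fun x => ?_)
  obtain ⟨z, rfl⟩ := l.L.surjective x
  rw [l.ap_cg_L, h z, k.ap_cg_L, h]

variable (Q) in
/-- The action on `PΩ(Q)`. -/
noncomputable def autHom : ↥(Gam Q) →* MulAut (Cfsg.POmega F ⇑Q) :=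
  MonoidHom.mk' (fun a => (toSemi a).autP) fun a b => by
    refine MulEquiv.ext fun x => ?_
    show pOmegaEquiv Q ((toSemi (a * b)).aut ((pOmegaEquiv Q).symm x)) = pOmegaEquiv Q ((toSemi a).aut
      ((pOmegaEquiv Q).symm (pOmegaEquiv Q ((toSemi b).aut ((pOmegaEquiv Q).symm x)))))
    rw [MulEquiv.symm_apply_apply,
      show (toSemi (a * b)).aut = ((toSemi a).comp' (toSemi b)).aut from aut_congr fun _ => rfl, Semi.aut_comp]
    rfl

variable (Q) in
/-- The field automorphism of a semisimilitude. -/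
def sigG : ↥(Gam Q) →* RingAut F :=
  (MonoidHom.snd (Equiv.Perm (ι → F)) (RingAut F)).comp (Gam Q).subtype

theorem autHom_ofSemi (l : Semi Q) : autHom Q (ofSemi l) = l.autP := by
  show (toSemi (ofSemi l)).autP = _
  rw [Semi.autP, Semi.autP, show (toSemi (ofSemi l)).aut = l.aut from aut_congr fun _ => rfl]

theorem autHom_surjective (S : Setup Q) (hL : NoLag Q) : Function.Surjective (autHom Q) := fun β => by
  obtain ⟨l, rfl⟩ := exists_autP S hL β
  exact ⟨ofSemi l, autHom_ofSemi l⟩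

/-- A scalar as a semisimilitude. -/
def scalarSemi (Q : QuadraticForm F (ι → F)) (c : Fˣ) : Semi Q where
  σ := RingEquiv.refl F
  L := { toFun := fun x => (c : F) • x
         invFun := fun x => ((c⁻¹ : Fˣ) : F) • x
         left_inv := fun x => by simp [smul_smul]
         right_inv := fun x => by simp [smul_smul]
         map_add' := fun x y => smul_add _ _ _ }
  N := (c : F) * c
  hN := mul_ne_zero c.ne_zero c.ne_zero
  map_smul d x := smul_comm (c : F) d x
  map_q x := by
    show Q ((c : F) • x) = (c : F) * c * Q x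
    rw [QuadraticMap.map_smul, smul_eq_mul]

/-- The trivially acting semisimilitudes are the scalars. -/
theorem mem_ker_autHom (S : Setup Q) (a : ↥(Gam Q)) :
    a ∈ (autHom Q).ker ↔ a.1.2 = 1 ∧ ∃ c : F, c ≠ 0 ∧ ∀ x, a.1.1 x = c • x := by
  rw [MonoidHom.mem_ker]
  constructor
  swap
  · rintro ⟨-, c, hc, h⟩
    show (toSemi a).autP = 1
    refine MulEquiv.ext fun x => ?_
    obtain ⟨y, rfl⟩ := (pOmegaEquiv Q).surjective x
    obtain ⟨g, rfl⟩ := pr_surjective y
    show pOmegaEquiv Q ((toSemi a).aut ((pOmegaEquiv Q).symm (pOmegaEquiv Q (pr Q g)))) = pOmegaEquiv Q (pr Q g)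
    rw [MulEquiv.symm_apply_apply, Semi.aut_pr]
    refine congrArg _ (congrArg _ (ext_ap fun z => ?_))
    obtain ⟨w, rfl⟩ := (toSemi a).L.surjective z
    rw [Semi.ap_cg_L, toSemi_L, toSemi_L, h, h, ap_smul]
  intro ha
  set l := toSemi a with hl
  have hperf : commutator (G Q) = ⊤ := by
    obtain ⟨T⟩ := S.frame
    refine Subgroup.map_injective (Subgroup.subtype_injective _) ?_
    rw [Subgroup.map_subtype_commutator, commutator_perfect S.pnd T, ← MonoidHom.range_eq_map, Subgroup.range_subtype]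
  have hcg : l.cg = 1 := Orth.eq_one_of_central hperf l.cg fun g => by
    rw [← pr_eq_one, map_mul, map_inv, ← l.aut_pr]
    have h1 := congrArg (fun β : MulAut (Cfsg.POmega F ⇑Q) => β (pOmegaEquiv Q (pr Q g))) ha
    change pOmegaEquiv Q (l.aut ((pOmegaEquiv Q).symm (pOmegaEquiv Q (pr Q g)))) = pOmegaEquiv Q (pr Q g) at h1
    rw [MulEquiv.symm_apply_apply] at h1
    rw [(pOmegaEquiv Q).injective h1, mul_inv_cancel]
  have hcomm : ∀ (g : G Q) x, l.L (ap g x) = ap g (l.L x) := fun g x => by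
    rw [← l.ap_cg_L, hcg]; rfl
  -- singular lines are fixed
  have hline : ∀ e : ι → F, Q e = 0 → ∃ d : F, l.L e = d • e := by
    intro e he
    rcases eq_or_ne e 0 with rfl | he0
    · exact ⟨0, by rw [map_zero, zero_smul]⟩
    exact S.fixed_Qg he he0 fun g hg => by rw [← hcomm, S.Qg_fixes he hg]
  obtain ⟨T⟩ := S.frame
  have hne := frame_ne T
  have hef : polar Q T.e T.f = 1 := T.hp.2.2
  have heu : polar Q T.e T.u = 0 := T.eu
  obtain ⟨d, hd⟩ := hline T.e T.hp.1
  -- perpendicular singular vectors share the factor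
  have hjoin : ∀ u v, Q u = 0 → Q v = 0 → u ≠ 0 → polar Q u v = 0 → (∀ k : F, v ≠ k • u) → ∀ r : F,
      l.L u = r • u → l.L v = r • v := by
    intro u v hu hv hu0 huv hind r hr
    obtain ⟨r', hr'⟩ := hline v hv
    obtain ⟨k, hk⟩ := hline (u + v) (by rw [map_two, hu, hv, huv]; simp)
    rw [map_add, hr, hr'] at hk
    have hk' : (r' - k) • v = (k - r) • u := by linear_combination (norm := module) hk
    by_cases h : r' = k
    · rw [h, sub_self, zero_smul] at hk'
      rw [hr', h, sub_eq_zero.1 ((smul_eq_zero.1 hk'.symm).resolve_right hu0)]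
    · exfalso
      refine hind ((r' - k)⁻¹ * (k - r)) ?_
      rw [mul_smul, ← hk', smul_smul, inv_mul_cancel₀ (sub_ne_zero.2 h), one_smul]
  have hu_ind : ∀ k : F, T.u ≠ k • T.e := fun k hk => by
    have h1 : polar Q T.u T.z = 1 := T.hs.2.2
    rw [hk, polar_smul_left, T.ez, smul_zero] at h1
    exact zero_ne_one h1
  have hdu : l.L T.u = d • T.u := hjoin _ _ T.hp.1 T.hs.1 hne.1 heu hu_ind d hd
  have hd0 : d ≠ 0 := fun h => hne.1 (l.L.injective (by rw [hd, h, zero_smul, map_zero]))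
  have hσ : l.σ = 1 := RingEquiv.ext fun c => by
    show l.σ c = c
    rcases eq_or_ne c 0 with rfl | hc
    · exact map_zero _
    have hce : l.L (c • T.e) = d • (c • T.e) :=
      hjoin T.u (c • T.e) T.hs.1 (by rw [QuadraticMap.map_smul, T.hp.1, smul_zero]) hne.2.2.2.2.1
        (by rw [polar_smul_right, polar_comm, heu, smul_zero]) (fun k hk => by
          have h1 := congrArg (fun x => polar Q x T.f) hk
          simp only [polar_smul_left, hef, show polar Q T.u T.f = 0 by rw [polar_comm]; exact T.fu, smul_eq_mul,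
            mul_one, mul_zero] at h1
          exact hc h1) d hdu
    rw [l.map_smul, hd, smul_smul, smul_smul] at hce
    have := smul_left_injective F hne.1 hce
    exact mul_right_cancel₀ hd0 (this.trans (mul_comm _ _))
  refine ⟨hσ, d, hd0, fun x => ?_⟩
  show l.L x = d • x
  have hlin : ∀ (c : F) y, l.L (c • y) = c • l.L y := fun c y => by rw [l.map_smul, hσ]; rfl
  have hdf : l.L T.f = d • T.f := hjoin T.u T.f T.hs.1 T.hp.2.1 hne.2.2.2.2.1
    (by rw [polar_comm]; exact T.fu) (fun k hk => by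
      rw [hk, polar_smul_right, heu, smul_zero] at hef
      exact zero_ne_one hef) d hdu
  refine singular_induction T.hp (motive := fun x => l.L x = d • x)
    (fun u v hu hv => by rw [map_add, hu, hv, smul_add]) (fun v hv => ?_) x
  by_cases hev : polar Q T.e v = 0
  · by_cases hm : ∃ k : F, v = k • T.e
    · obtain ⟨k, rfl⟩ := hm
      rw [hlin, hd, smul_comm]
    · push Not at hm
      exact hjoin _ _ T.hp.1 hv hne.1 hev hm d hd
  · obtain ⟨v', hv'⟩ : ∃ v', v' = (polar Q T.e v)⁻¹ • v := ⟨_, rfl⟩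
    obtain ⟨hu, hmove⟩ := S.exists_partner_move T.hp.1 T.hp.2.1 (c := v')
      (by rw [hv', QuadraticMap.map_smul, hv, smul_zero]) hef
      (by rw [hv', polar_smul_right, smul_eq_mul, inv_mul_cancel₀ hev])
    have h1 : l.L v' = d • v' := by rw [← hmove, hcomm, hdf, ap_smul]
    have hvv : v = polar Q T.e v • v' := by rw [hv', smul_smul, mul_inv_cancel₀ hev, one_smul]
    rw [hvv, hlin, h1, smul_comm]

theorem finite_gam : Finite ↥(Gam Q) := by
  haveI : Finite (RingAut F) := Finite.of_injective (fun σ : RingAut F => ⇑σ) fun _ _ h => RingEquiv.ext (congrFun h)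
  infer_instance

/-- The kernel has `q - 1` elements. -/
theorem card_ker_autHom (S : Setup Q) : Nat.card (autHom Q).ker = Nat.card F - 1 := by
  rw [← Nat.card_units F]
  refine (Nat.card_congr (Equiv.ofBijective
    (fun c : Fˣ => (⟨ofSemi (scalarSemi Q c), (mem_ker_autHom S _).2 ⟨rfl, c, c.ne_zero, fun _ => rfl⟩⟩ :
      (autHom Q).ker)) ⟨?_, ?_⟩)).symm
  · intro c d h
    obtain ⟨T⟩ := S.frame
    have h1 : (c : F) • T.e = (d : F) • T.e := congrArg (fun a : (autHom Q).ker => a.1.1.1 T.e) h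
    exact Units.ext (smul_left_injective F (frame_ne T).1 h1)
  · rintro ⟨a, ha⟩
    obtain ⟨hσ, c, hc, h⟩ := (mem_ker_autHom S a).1 ha
    refine ⟨Units.mk0 c hc, Subtype.ext (Subtype.ext (Prod.ext (Equiv.ext fun x => (h x).symm) hσ.symm))⟩

/-- A similitude as a semisimilitude. -/
noncomputable def goSemi (g : ↥(Orth.GO ⇑Q)) : Semi Q where
  σ := RingEquiv.refl F
  L := { toFun := fun x => (g : GL ι F).1 *ᵥ x
         invFun := fun x => ((g : GL ι F)⁻¹).1 *ᵥ x
         left_inv := fun x => by simp [Matrix.mulVec_mulVec]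
         right_inv := fun x => by simp [Matrix.mulVec_mulVec]
         map_add' := fun x y => Matrix.mulVec_add _ x y }
  N := (g.2.choose : F)
  hN := g.2.choose.ne_zero
  map_smul c x := Matrix.mulVec_smul _ c x
  map_q := g.2.choose_spec

variable (Q) in
/-- The similitudes inside the group. -/
noncomputable def goHom : ↥(Orth.GO ⇑Q) →* ↥(Gam Q) :=
  MonoidHom.mk' (fun g => ofSemi (goSemi g)) fun g h => Subtype.ext (Prod.ext (Equiv.ext fun x => by
    show ((g * h : ↥(Orth.GO ⇑Q)) : GL ι F).1 *ᵥ x = (g : GL ι F).1 *ᵥ ((h : GL ι F).1 *ᵥ x)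
    rw [Matrix.mulVec_mulVec]; rfl) rfl)

theorem goHom_apply (g : ↥(Orth.GO ⇑Q)) (x : ι → F) : (goHom Q g).1.1 x = (g : GL ι F).1 *ᵥ x := rfl

theorem goHom_injective : Function.Injective (goHom Q) := fun g h e =>
  Subtype.ext (Units.ext (Matrix.ext_of_mulVec_single fun i => congrArg (fun a : ↥(Gam Q) => a.1.1 (Pi.single i 1)) e))

theorem range_goHom : (goHom Q).range = (sigG Q).ker := by
  refine le_antisymm ?_ fun a ha => ?_
  · rintro _ ⟨g, rfl⟩
    exact MonoidHom.mem_ker.2 rfl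
  · have hσ : a.1.2 = 1 := MonoidHom.mem_ker.1 ha
    set l := toSemi a with hl
    have hlσ : l.σ = 1 := hσ
    refine ⟨⟨l.gl, Units.mk0 l.N l.hN, fun x => ?_⟩, Subtype.ext (Prod.ext (Equiv.ext fun x => ?_) hσ.symm)⟩
    · rw [l.coe_gl, l.matrix_mulVec, l.map_q, hlσ]; rfl
    · show (l.gl : Matrix ι ι F) *ᵥ x = a.1.1 x
      rw [l.coe_gl, l.matrix_mulVec, hlσ]; rfl

/-- The action extends the action of the similitudes. -/
theorem autHom_goHom (g : ↥(Orth.GO ⇑Q)) : autHom Q (goHom Q g) = Orth.rho ⇑Q g := by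
  show autHom Q (ofSemi (goSemi g)) = _
  rw [autHom_ofSemi]
  refine (Orth.induced_iff g _).1 ?_
  have h := (goSemi g).induced
  have e : (goSemi g).gl = (g : GL ι F) := Units.ext (Matrix.ext_of_mulVec_single fun i => by
    rw [Semi.coe_gl, Semi.matrix_mulVec]; rfl)
  rwa [e] at h

/-- The order of the automorphism group. -/
theorem card_mulAut (S : Setup Q) (hL : NoLag Q) (hσ : Function.Surjective (sigG Q)) :
    Nat.card (MulAut (Cfsg.POmega F ⇑Q)) * (Nat.card F - 1) =
      Nat.card ↥(Orth.GO ⇑Q) * Nat.card (RingAut F) := by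
  haveI := finite_gam (Q := Q)
  rw [← card_ker_autHom S, ← Nat.card_congr (QuotientGroup.quotientKerEquivOfSurjective _ (autHom_surjective S hL)).toEquiv,
    ← Subgroup.card_eq_card_quotient_mul_card_subgroup,
    Subgroup.card_eq_card_quotient_mul_card_subgroup (sigG Q).ker,
    Nat.card_congr (QuotientGroup.quotientKerEquivOfSurjective _ hσ).toEquiv,
    Nat.card_congr (MonoidHom.ofInjective (goHom_injective (Q := Q))).toEquiv, range_goHom, mul_comm]

end Cfsg.Agent.Small.OrthAut
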