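import Cfsg.Agent.Lib.Small.OrthAut.Points

/-!
Every automorphism of `Ω` modulo its centre permutes the Siegel groups of the singular points.
-/

set_option autoImplicit false
set_option linter.unusedSectionVars false
set_option linter.style.haveILetI false

namespace Cfsg.Agent.Small.OrthAut

open Module QuadraticMap
open scoped Pointwise
open Cfsg.Agent.Classical
open Cfsg.Agent.Classical.OCount Cfsg.Agent.Classical.ORefl Cfsg.Agent.Classical.OOmega

variable {F : Type*} [Field F] [Finite F] {V : Type*} [AddCommGroup V] [Module F V] [FiniteDimensional F V]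
  {Q : QuadraticForm F V}

/-- A totally singular subspace equal to its orthogonal needs dimension at least ten. -/
def NoLag (Q : QuadraticForm F V) : Prop :=
  ∀ W : Submodule F V, (∀ x ∈ W, Q x = 0) → (∀ x, (∀ t ∈ W, polar Q x t = 0) → x ∈ W) → 10 ≤ finrank F V

variable (S : Setup Q)

/-- The Siegel group of a point modulo the centre. -/
noncomputable def Setup.PQ (S : Setup Q) {e : V} (he : Q e = 0) : Subgroup (PG Q) := (S.Qg he).map (pr Q)

theorem Setup.Qg_map_conj (g : G Q) {e : V} (he : Q e = 0) :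
    (S.Qg he).map (MulAut.conj g).toMonoidHom = S.Qg (e := ap g e) ((q_ap g e).trans he) := by
  refine le_antisymm ?_ fun x hx => ?_
  · rintro _ ⟨x, hx, rfl⟩
    exact S.Qg_conj he g hx
  · refine ⟨g⁻¹ * x * g, ?_, by simp [MulAut.conj_apply, mul_assoc]⟩
    have h := S.Qg_conj ((q_ap g e).trans he) g⁻¹ hx
    rw [inv_inv] at h
    have e1 : ∀ (a : V) (ha : Q a = 0), a = e → S.Qg ha = S.Qg he := by rintro a ha rfl; rfl
    exact e1 _ _ (ap_inv_ap g e) ▸ h

theorem Stab_map_conj (g : G Q) (e : V) :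
    (Stab Q e).map (MulAut.conj g).toMonoidHom = Stab Q (ap g e) := by
  refine le_antisymm ?_ ?_
  · rintro _ ⟨x, ⟨c, hc, hx⟩, rfl⟩
    refine ⟨c, hc, ?_⟩
    show ap (g * x * g⁻¹) (ap g e) = _
    rw [ap_mul, ap_mul, ap_inv_ap, hx, ap_smul]
  · rintro x ⟨c, hc, hx⟩
    refine ⟨g⁻¹ * x * g, ⟨c, hc, ?_⟩, by simp [MulAut.conj_apply, mul_assoc]⟩
    rw [ap_mul, ap_mul, hx, ap_smul, ap_inv_ap]

theorem map_pr_conj (g : G Q) (H : Subgroup (G Q)) :
    (H.map (MulAut.conj g).toMonoidHom).map (pr Q) = (H.map (pr Q)).map (MulAut.conj (pr Q g)).toMonoidHom := by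
  rw [Subgroup.map_map, Subgroup.map_map]
  congr 1

theorem card_map_equiv {H : Type*} [Group H] (α : MulAut H) (A : Subgroup H) :
    Nat.card (A.map α.toMonoidHom) = Nat.card A :=
  Subgroup.card_map_of_injective α.injective

theorem Setup.card_PQ_conj {e : V} (he : Q e = 0) (g : G Q) :
    Nat.card (S.PQ (e := ap g e) ((q_ap g e).trans he)) = Nat.card (S.PQ he) := by
  rw [Setup.PQ, Setup.PQ, ← S.Qg_map_conj g he, map_pr_conj, card_map_equiv]

/-- The fixed vectors of a set of elements. -/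
def fixV (R : Subgroup (G Q)) : Submodule F V where
  carrier := {x | ∀ r ∈ R, ap r x = x}
  zero_mem' r _ := ap_zero r
  add_mem' ha hb r hr := by rw [ap_add, ha r hr, hb r hr]
  smul_mem' c x hx r hr := by rw [ap_smul, hx r hr]

/-- The orthogonal of a subspace. -/
def perp (Q : QuadraticForm F V) (W : Submodule F V) : Submodule F V where
  carrier := {x | ∀ t ∈ W, polar Q x t = 0}
  zero_mem' t _ := polar_zero_left Q t
  add_mem' ha hb t ht := by rw [polar_add_left, ha t ht, hb t ht, add_zero]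
  smul_mem' c x hx t ht := by rw [polar_smul_left, hx t ht, smul_zero]

/-- The totally singular part. -/
def singPart (Q : QuadraticForm F V) (N : Submodule F V) (hN : ∀ x ∈ N, ∀ y ∈ N, polar Q x y = 0) :
    Submodule F V where
  carrier := {x | x ∈ N ∧ Q x = 0}
  zero_mem' := ⟨N.zero_mem, QuadraticMap.map_zero Q⟩
  add_mem' {a b} ha hb := ⟨N.add_mem ha.1 hb.1, by rw [map_two, ha.2, hb.2, hN a ha.1 b hb.1]; simp⟩
  smul_mem' c x hx := ⟨N.smul_mem c hx.1, by rw [QuadraticMap.map_smul, hx.2, smul_zero]⟩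

theorem perp_perp_le (hQ : PND Q) (W : Submodule F V) : perp Q (perp Q W) ≤ W := by
  intro x hx
  by_contra h
  obtain ⟨v, hv, hvx⟩ := exists_polar_sep hQ h 1
  have := hx v fun t ht => hv t ht
  rw [polar_comm, hvx] at this
  exact one_ne_zero this

theorem finrank_le_two_mul (W : Submodule F V) (hW : perp Q W ≤ W) : finrank F V ≤ 2 * finrank F W := by
  let φ : V →ₗ[F] Module.Dual F W :=
    { toFun := fun x => (Q.polarBilin x).comp W.subtype
      map_add' := fun x y => by rw [map_add]; rfl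
      map_smul' := fun c x => by rw [map_smul]; rfl }
  have hker : LinearMap.ker φ ≤ W := fun x hx => hW fun t ht => by
    have h := congrArg (fun (f : Module.Dual F W) => f ⟨t, ht⟩) (LinearMap.mem_ker.1 hx)
    exact h
  have h1 := LinearMap.finrank_range_add_finrank_ker φ
  have h2 := Submodule.finrank_mono hker
  have h3 : finrank F (LinearMap.range φ) ≤ finrank F W :=
    (Submodule.finrank_le _).trans_eq Subspace.dual_finrank_eq
  omega

/-- The elements fixing a subspace pointwise and acting trivially on its orthogonal modulo it. -/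
def radSub (Q : QuadraticForm F V) (W : Submodule F V) : Subgroup (G Q) where
  carrier := {g | (∀ t ∈ W, ap g t = t) ∧ ∀ x ∈ perp Q W, ap g x - x ∈ W}
  one_mem' := ⟨fun t _ => ap_one t, fun x _ => by rw [ap_one, sub_self]; exact W.zero_mem⟩
  mul_mem' := by
    intro a b ha hb
    refine ⟨fun t ht => by rw [ap_mul, hb.1 t ht, ha.1 t ht], fun x hx => ?_⟩
    have h := W.add_mem (hb.2 x hx) (ha.2 x hx)
    have e : ap a (ap b x) - x = (ap b x - x) + (ap a x - x) := by
      conv_lhs => rw [show ap b x = (ap b x - x) + x by abel, ap_add, ha.1 _ (hb.2 x hx)]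
      abel
    rwa [ap_mul, e]
  inv_mem' := by
    intro a ha
    refine ⟨fun t ht => ap_inj a (by rw [ap_ap_inv, ha.1 t ht]), fun x hx => ?_⟩
    have e : ap a⁻¹ x - x = -(ap a x - x) := ap_inj a (by
      rw [ap_sub, ap_ap_inv, ← neg_one_smul F (ap a x - x), ap_smul, ha.1 _ (ha.2 x hx), neg_one_smul]
      abel)
    rw [e]
    exact W.neg_mem (ha.2 x hx)

section Prime

variable (p : ℕ) [Fact p.Prime] [CharP F p]

theorem isPGroup_radSub (W : Submodule F V) : IsPGroup p (radSub Q W) := by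
  rintro ⟨g, hg⟩
  have hperp : ∀ x ∈ perp Q W, ap (g ^ p) x = x := fun x hx => by
    rw [pow_fix g (d := ap g x - x) (by abel) (hg.1 _ (hg.2 x hx)), nsmul_p p F, add_zero]
  have hmem : g ^ p ∈ radSub Q W := pow_mem hg p
  refine ⟨2, Subtype.ext (ext_ap fun x => ?_)⟩
  rw [SubmonoidClass.coe_pow, OneMemClass.coe_one, ap_one, pow_two, pow_mul]
  have hd : ap (g ^ p) x - x ∈ perp Q W := fun t ht => by
    rw [polar_sub_left]
    conv_lhs => enter [1]; rw [← hmem.1 t ht, polar_ap]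
    rw [sub_self]
  rw [pow_fix (g ^ p) (d := ap (g ^ p) x - x) (by abel) (hperp _ hd), nsmul_p p F, add_zero]

include S in
theorem Setup.exists_sylow_conj {e : V} (he : Q e = 0) {U0 U : Sylow p (G Q)} (hQU : S.Qg he ≤ U0)
    (hfix : ∀ g ∈ U0, ap g e = e) :
    ∃ g : G Q, S.Qg (e := ap g e) ((q_ap g e).trans he) ≤ U ∧ ∀ x ∈ U, ap x (ap g e) = ap g e := by
  haveI : Finite (G Q) := finite_G
  obtain ⟨g, hg⟩ := MulAction.exists_smul_eq (G Q) U0 U
  have hU : (U : Subgroup (G Q)) = MulAut.conj g • (U0 : Subgroup (G Q)) := by rw [← hg]; rfl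
  refine ⟨g, fun x hx => ?_, fun x hx => ?_⟩
  · rw [← S.Qg_map_conj g he] at hx
    obtain ⟨y, hy, rfl⟩ := hx
    show _ ∈ (U : Subgroup (G Q))
    rw [hU]
    exact Subgroup.smul_mem_pointwise_smul y (MulAut.conj g) _ (hQU hy)
  · replace hx : x ∈ (U : Subgroup (G Q)) := hx
    rw [hU, Subgroup.mem_pointwise_smul_iff_inv_smul_mem] at hx
    have h1 := hfix _ hx
    simp only [MulAut.smul_def, MulAut.inv_apply, MulAut.conj_symm_apply] at h1
    rw [ap_mul, ap_mul] at h1
    have h2 := congrArg (ap g) h1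
    rwa [ap_ap_inv] at h2

end Prime

include S in
theorem Setup.exists_ne_one {e : V} (he : Q e = 0) (he0 : e ≠ 0) : ∃ g ∈ S.Qg he, g ≠ 1 := by
  obtain ⟨T, hT⟩ := S.exists_frame he he0
  subst hT
  refine ⟨_, S.se_mem he T.ew, fun h => ?_⟩
  have h1 := congrArg (fun g : G Q => ap g T.w') h
  rw [S.ap_se, ap_one, T.ew', T.hq.1] at h1
  have h2 : polar Q T.w T.w' = 1 := T.hq.2.2
  rw [h2] at h1
  exact he0 (by linear_combination (norm := module) -h1)

include S in
theorem Setup.card_Qg_le {e : V} (he : Q e = 0) (he0 : e ≠ 0) :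
    Nat.card (S.Qg he) ≤ Nat.card F ^ (finrank F V - 2) := by
  obtain ⟨T, hT⟩ := S.exists_frame he he0
  subst hT
  haveI : Finite V := Module.finite_of_finite F
  refine le_trans (Nat.card_le_card_of_surjective
    (fun w : comp Q (T.e, T.f) => (⟨_, S.se_mem he (mem_comp.mp w.2).1⟩ : S.Qg he)) ?_) ?_
  · rintro ⟨g, hg⟩
    obtain ⟨v, hv, rfl⟩ := (S.mem_Qg he).1 hg
    have hfe : polar Q T.f T.e = 1 := by rw [polar_comm]; exact T.hp.2.2
    refine ⟨⟨v + (-polar Q T.f v) • T.e, mem_comp.mpr ⟨?_, ?_⟩⟩, Subtype.ext (S.se_shift _ he hv)⟩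
    · rw [polar_add_right, polar_smul_right, polar_self_zero he, hv]; simp
    · rw [polar_add_right, polar_smul_right, hfe]; simp
  · rw [Module.natCard_eq_pow_finrank (K := F), finrank_comp T.hp, Nat.add_sub_cancel_left]

include S in
/-- Many elements in the radical of a maximal totally singular subspace. -/
theorem Setup.card_radSub_ge (W : Submodule F V) (hW : ∀ x ∈ W, Q x = 0) (h3 : 3 ≤ finrank F W) :
    Nat.card F ^ (3 * finrank F W - 6) ≤ Nat.card (radSub Q W) := by
  obtain ⟨k, hk⟩ : ∃ k, finrank F W = k + 3 := ⟨finrank F W - 3, by omega⟩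
  let b := Module.finBasisOfFinrankEq F W hk
  have hd : ∀ i, ∃ d : V, ∀ j, polar Q (b j : V) d = if i = j then 1 else 0 := fun i => by
    obtain ⟨φ, hφ⟩ := LinearMap.exists_extend (b.coord i)
    obtain ⟨d, hd⟩ := exists_polar S.pnd φ
    refine ⟨d, fun j => ?_⟩
    rw [polar_comm, hd, show φ (b j : V) = b.coord i (b j) from LinearMap.congr_fun hφ (b j),
      Basis.coord_apply, Basis.repr_self, Finsupp.single_apply]
    simp [eq_comm]
  choose d hd using hd
  have hsing : ∀ i, Q (b i : V) = 0 := fun i => hW _ (b i).2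
  have hpolW : ∀ x ∈ W, ∀ y ∈ W, polar Q x y = 0 := fun x hx y hy => by
    rw [polar, hW _ (W.add_mem hx hy), hW x hx, hW y hy]; simp
  -- the vectors
  let wv : (s : ℕ) → s ≤ 2 → (Fin (k + 2 - s) → F) → V := fun s hs c =>
    ∑ i, c i • (b ⟨i.1 + 1 + s, by omega⟩ : V)
  have hwW : ∀ s hs c, wv s hs c ∈ W := fun s hs c => W.sum_mem fun i _ => W.smul_mem _ (b _).2
  have hwd : ∀ s hs c (t : Fin (k + 3)), polar Q (wv s hs c) (d t) =
      ∑ i : Fin (k + 2 - s), c i * if t.1 = i.1 + 1 + s then 1 else 0 := fun s hs c t => by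
    rw [show polar Q (wv s hs c) (d t) = Q.polarBilin.flip (d t) (wv s hs c) from rfl, map_sum]
    refine Finset.sum_congr rfl fun i _ => ?_
    rw [map_smul]
    show c i * polar Q (b ⟨i.1 + 1 + s, _⟩ : V) (d t) = _
    rw [hd]
    simp [Fin.ext_iff]
  have hwlow : ∀ s hs c (t : Fin (k + 3)), t.1 ≤ s → polar Q (wv s hs c) (d t) = 0 := fun s hs c t ht => by
    rw [hwd s hs c t]
    refine Finset.sum_eq_zero fun i _ => ?_
    rw [if_neg (by omega), mul_zero]
  have hwinj : ∀ s hs, Function.Injective (wv s hs) := fun s hs c c' h => funext fun i => by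
    have h1 := congrArg (fun x => polar Q x (d ⟨i.1 + 1 + s, by omega⟩)) h
    simp only [hwd] at h1
    rw [Finset.sum_eq_single i (fun j _ hj => by rw [if_neg (by simpa [Fin.val_inj] using Ne.symm hj), mul_zero])
      (by simp), Finset.sum_eq_single i
      (fun j _ hj => by rw [if_neg (by simpa [Fin.val_inj] using Ne.symm hj), mul_zero]) (by simp)] at h1
    simpa using h1
  have hpol : ∀ (i : Fin (k + 3)) s hs c, polar Q (b i : V) (wv s hs c) = 0 := fun i s hs c =>
    hpolW _ (b i).2 _ (hwW s hs c)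
  let x : (s : ℕ) → s ≤ 2 → (Fin (k + 2 - s) → F) → G Q := fun s hs c =>
    S.se (hsing ⟨s, by omega⟩) (hpol ⟨s, by omega⟩ s hs c)
  have hxd : ∀ s hs c (t : Fin (k + 3)), t.1 ≤ s →
      ap (x s hs c) (d t) = if t.1 = s then d t + wv s hs c else d t := fun s hs c t ht => by
    rw [show x s hs c = S.se (hsing ⟨s, by omega⟩) (hpol ⟨s, by omega⟩ s hs c) from rfl, S.ap_se,
      hwlow s hs c t ht, hd, hW _ (hwW s hs c)]
    simp only [Fin.ext_iff]
    split_ifs <;> simp
  have hxmem : ∀ s hs c, x s hs c ∈ radSub Q W := fun s hs c => by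
    refine ⟨fun t ht => ?_, fun y hy => ?_⟩
    · rw [show x s hs c = S.se (hsing ⟨s, by omega⟩) (hpol ⟨s, by omega⟩ s hs c) from rfl, S.ap_se,
        hpolW _ (b _).2 t ht, hpolW _ (hwW s hs c) t ht]
      simp
    · rw [show x s hs c = S.se (hsing ⟨s, by omega⟩) (hpol ⟨s, by omega⟩ s hs c) from rfl, S.ap_se,
        polar_comm Q (b _ : V) y, hy _ (b _).2, polar_comm Q (wv s hs c) y, hy _ (hwW s hs c)]
      simp
  let φ : (Fin (k + 2 - 0) → F) × (Fin (k + 2 - 1) → F) × (Fin (k + 2 - 2) → F) → radSub Q W := fun c =>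
    ⟨x 0 (by omega) c.1 * x 1 (by omega) c.2.1 * x 2 le_rfl c.2.2,
      mul_mem (mul_mem (hxmem 0 (by omega) c.1) (hxmem 1 (by omega) c.2.1)) (hxmem 2 le_rfl c.2.2)⟩
  have hinj : Function.Injective φ := by
    rintro ⟨a, a', a''⟩ ⟨c, c', c''⟩ h
    have h1 : x 0 (by omega) a * x 1 (by omega) a' * x 2 le_rfl a'' =
        x 0 (by omega) c * x 1 (by omega) c' * x 2 le_rfl c'' := congrArg Subtype.val h
    have hfix : ∀ s hs c (t : Fin (k + 3)), t.1 < s → ap (x s hs c) (d t) = d t := fun s hs c t ht =>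
      (hxd s hs c t ht.le).trans (if_neg ht.ne)
    have hmv : ∀ s hs c (t : Fin (k + 3)), t.1 = s → ap (x s hs c) (d t) = d t + wv s hs c := fun s hs c t ht =>
      (hxd s hs c t ht.le).trans (if_pos ht)
    have e0 := congrArg (fun g : G Q => ap g (d ⟨0, by omega⟩)) h1
    simp only [ap_mul, hfix 2 le_rfl _ ⟨0, by omega⟩ Nat.two_pos, hfix 1 (by omega) _ ⟨0, by omega⟩ Nat.one_pos,
      hmv 0 (by omega) _ ⟨0, by omega⟩ rfl, add_right_inj] at e0
    obtain rfl : a = c := hwinj 0 (by omega) e0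
    rw [mul_assoc, mul_assoc] at h1
    have h2 := mul_left_cancel h1
    have e1 := congrArg (fun g : G Q => ap g (d ⟨1, by omega⟩)) h2
    simp only [ap_mul, hfix 2 le_rfl _ ⟨1, by omega⟩ Nat.one_lt_two, hmv 1 (by omega) _ ⟨1, by omega⟩ rfl,
      add_right_inj] at e1
    obtain rfl : a' = c' := hwinj 1 (by omega) e1
    have e2 := congrArg (fun g : G Q => ap g (d ⟨2, by omega⟩)) (mul_left_cancel h2)
    simp only [hmv 2 le_rfl _ ⟨2, by omega⟩ rfl, add_right_inj] at e2
    obtain rfl : a'' = c'' := hwinj 2 le_rfl e2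
    rfl
  haveI : Finite (G Q) := finite_G
  refine le_trans (le_of_eq ?_) (Nat.card_le_card_of_injective φ hinj)
  rw [Nat.card_prod, Nat.card_prod, Nat.card_fun, Nat.card_fun, Nat.card_fun, Nat.card_fin, Nat.card_fin,
    Nat.card_fin, ← pow_add, ← pow_add, hk]
  congr 1
  omega

include S in
/-- Automorphisms permute the Siegel groups of the points. -/
theorem Setup.exists_image (hL : NoLag Q) (α : MulAut (PG Q)) {e : V} (he : Q e = 0) (he0 : e ≠ 0) :
    ∃ (e' : V) (he' : Q e' = 0), e' ≠ 0 ∧ (S.PQ he).map α.toMonoidHom = S.PQ he' := by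
  obtain ⟨p, _⟩ := CharP.exists F
  haveI : Fact p.Prime := ⟨CharP.char_is_prime F p⟩
  haveI : Finite (G Q) := finite_G
  haveI : Finite (PG Q) := Finite.of_surjective _ pr_surjective
  obtain ⟨U0, hQU, hU0⟩ := S.exists_sylow p he he0
  have hα : Function.Surjective α.toMonoidHom := α.surjective
  obtain ⟨U, hU⟩ := Sylow.mapSurjective_surjective (pr_surjective (Q := Q)) p
    ((U0.mapSurjective pr_surjective).mapSurjective hα)
  have hUmap : (U : Subgroup (G Q)).map (pr Q) = ((U0 : Subgroup (G Q)).map (pr Q)).map α.toMonoidHom := by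
    have h := congrArg (fun s : Sylow p (PG Q) => (s : Subgroup (PG Q))) hU
    simpa only [Sylow.coe_mapSurjective] using h
  obtain ⟨g₀, hQe', hUe'⟩ := S.exists_sylow_conj p he (U := U) hQU hU0
  set e' := ap g₀ e with he'def
  have he' : Q e' = 0 := (q_ap g₀ e).trans he
  have he'0 : e' ≠ 0 := ap_ne_zero g₀ he0
  refine ⟨e', he', he'0, ?_⟩
  set A := (S.PQ he).map α.toMonoidHom with hA
  set R : Subgroup (G Q) := (U : Subgroup (G Q)) ⊓ A.comap (pr Q) with hR
  have hRp : IsPGroup p R := U.2.to_le inf_le_left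
  set M : Subgroup (G Q) := (((Stab Q e).map (pr Q)).map α.toMonoidHom).comap (pr Q) with hM
  have hUM : (U : Subgroup (G Q)) ≤ M := fun u hu => by
    have h : pr Q u ∈ (U : Subgroup (G Q)).map (pr Q) := Subgroup.mem_map_of_mem _ hu
    rw [hUmap] at h
    exact Subgroup.map_mono (Subgroup.map_mono fun x hx =>
      (⟨1, one_ne_zero, by rw [one_smul, hU0 x hx]⟩ : x ∈ Stab Q e)) h
  have hlift : ∀ y ∈ A, ∃ r ∈ R, pr Q r = y := by
    intro y hy
    have h : y ∈ (U : Subgroup (G Q)).map (pr Q) := by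
      rw [hUmap]
      exact Subgroup.map_mono (Subgroup.map_mono hQU) hy
    obtain ⟨r, hr, rfl⟩ := h
    exact ⟨r, ⟨hr, hy⟩, rfl⟩
  have hRA : R.map (pr Q) = A := le_antisymm (by rintro _ ⟨r, hr, rfl⟩; exact hr.2)
    fun y hy => by obtain ⟨r, hr, rfl⟩ := hlift y hy; exact ⟨r, hr, rfl⟩
  have hnorm : ∀ g ∈ M, ∀ r ∈ R, g * r * g⁻¹ ∈ R := by
    intro g hg r hr
    obtain ⟨_, ⟨a, ha, rfl⟩, hga⟩ := hg
    obtain ⟨_, ⟨b, hb, rfl⟩, hrb⟩ := hr.2
    have hconj : pr Q (g * r * g⁻¹) ∈ A := by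
      refine ⟨pr Q (a * b * a⁻¹), ⟨_, S.Qg_normal he ha hb, rfl⟩, ?_⟩
      rw [map_mul, map_mul, map_mul, map_mul, map_inv, map_inv, hga, hrb, map_mul, map_mul, map_inv]
    obtain ⟨r', hr', h⟩ := hlift _ hconj
    rw [S.pel_inj p (pel_conj p g (pel_of_mem p hRp hr)) (pel_of_mem p hRp hr') h.symm]
    exact hr'
  obtain ⟨r₁, hr₁R, hr₁⟩ : ∃ r ∈ R, r ≠ 1 := by
    obtain ⟨g, hg, hg1⟩ := S.exists_ne_one he he0
    obtain ⟨r, hr, hre⟩ := hlift (α (pr Q g)) ⟨_, ⟨g, hg, rfl⟩, rfl⟩
    refine ⟨r, hr, fun h => hg1 (S.pel_inj p (pel_of_mem p (S.isPGroup_Qg p he) hg)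
      ⟨0, by rw [pow_zero, pow_one]⟩ ?_)⟩
    rw [map_one]
    exact α.injective (by rw [map_one]; rw [← hre, h, map_one])
  -- the invariant subspaces
  set Sf := fixV R with hSf
  set N := Sf ⊓ perp Q Sf with hN
  have hperpinv : ∀ r ∈ R, ∀ x ∈ perp Q Sf, ap r x ∈ perp Q Sf := fun r hr x hx t ht => by
    conv_lhs => rw [← ht r hr]
    rw [polar_ap, hx t ht]
  have hNne : ∃ u ∈ N, u ≠ 0 := by
    by_cases h0 : ∃ u ∈ perp Q Sf, u ≠ 0
    · obtain ⟨u, hu, hu0, hfix⟩ := exists_fixed_sub p hRp (perp Q Sf) hperpinv h0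
      exact ⟨u, ⟨hfix, hu⟩, hu0⟩
    · push Not at h0
      exfalso
      refine hr₁ (ext_ap fun x => ?_)
      rw [ap_one]
      refine perp_perp_le S.pnd Sf (fun t ht => ?_) r₁ hr₁R
      rw [h0 t ht, polar_zero_right]
  have hMSf : ∀ g ∈ M, ∀ x ∈ Sf, ap g x ∈ Sf := fun g hg x hx r hr => by
    have h := hnorm g⁻¹ (inv_mem hg) r hr
    rw [inv_inv] at h
    have h1 := congrArg (ap g) (hx _ h)
    rwa [ap_mul, ap_mul, ap_ap_inv] at h1
  have hMN : ∀ g ∈ M, ∀ x ∈ N, ap g x ∈ N := fun g hg x hx => ⟨hMSf g hg x hx.1, fun t ht => by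
    have h := hx.2 (ap g⁻¹ t) (hMSf _ (inv_mem hg) t ht)
    rwa [← polar_ap g, ap_ap_inv] at h⟩
  have he'N : e' ∈ N := by
    obtain ⟨u, hu, hu0, hfix⟩ := exists_fixed_sub p U.2 N (fun g hg => hMN g (hUM hg)) hNne
    obtain ⟨c, rfl⟩ := S.fixed_Qg he' he'0 fun g hg => hfix g (hQe' hg)
    have hc : c ≠ 0 := fun h => hu0 (by rw [h, zero_smul])
    have h1 := N.smul_mem c⁻¹ hu
    rwa [smul_smul, inv_mul_cancel₀ hc, one_smul] at h1
  set W := singPart Q N (fun x hx y hy => hx.2 y hy.1) with hW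
  have he'W : e' ∈ W := ⟨he'N, he'⟩
  have hMW : ∀ g ∈ M, ∀ x ∈ W, ap g x ∈ W := fun g hg x hx =>
    ⟨hMN g hg x hx.1, by rw [q_ap]; exact hx.2⟩
  by_cases hone : ∀ t ∈ W, ∃ c : F, t = c • e'
  · -- the stabiliser of a point
    have hMle : M ≤ Stab Q e' := fun g hg => by
      obtain ⟨c, hc⟩ := hone _ (hMW g hg e' he'W)
      exact mem_Stab g he'0 hc
    have hMeq : M.map (pr Q) = (Stab Q e').map (pr Q) := by
      refine Subgroup.eq_of_le_of_card_ge (Subgroup.map_mono hMle) (le_of_eq ?_)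
      rw [hM, Subgroup.map_comap_eq_self_of_surjective pr_surjective, card_map_equiv, he'def,
        ← Stab_map_conj g₀ e, map_pr_conj, card_map_equiv]
    have hle : Stab Q e' ≤ M := fun g hg => by
      have h : pr Q g ∈ M.map (pr Q) := hMeq ▸ Subgroup.mem_map_of_mem _ hg
      rwa [hM, Subgroup.map_comap_eq_self_of_surjective pr_surjective] at h
    have hRQ : R ≤ S.Qg he' := S.le_Qg p he' he'0 hRp ((inf_le_left.trans hUM).trans hMle)
      fun g hg => hnorm g (hle hg)
    refine Subgroup.eq_of_le_of_card_ge (hRA ▸ Subgroup.map_mono hRQ) (le_of_eq ?_)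
    rw [hA, card_map_equiv, S.card_PQ_conj he g₀]
  · exfalso
    push Not at hone
    obtain ⟨t, htW, ht⟩ := hone
    set K := radSub Q W with hK
    have hKn : ∀ g ∈ M, ∀ k ∈ K, g * k * g⁻¹ ∈ K := by
      intro g hg k hk
      refine ⟨fun x hx => ?_, fun x hx => ?_⟩
      · rw [ap_mul, ap_mul, hk.1 _ (hMW _ (inv_mem hg) x hx), ap_ap_inv]
      · have hx' : ap g⁻¹ x ∈ perp Q W := fun y hy => by
          rw [← polar_ap g, ap_ap_inv]; exact hx _ (hMW g hg y hy)
        have h := hMW g hg _ (hk.2 _ hx')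
        rwa [ap_sub, ap_ap_inv, ← ap_mul, ← ap_mul] at h
    have hKp : IsPGroup p K := isPGroup_radSub p W
    have hKU : K ≤ (U : Subgroup (G Q)) := by
      have hn : (U : Subgroup (G Q)) ≤ Subgroup.normalizer (K : Set (G Q)) := by
        intro u hu
        rw [Subgroup.mem_normalizer_iff]
        intro x
        refine ⟨fun hx => hKn u (hUM hu) x hx, fun hx => ?_⟩
        have h' := hKn u⁻¹ (inv_mem (hUM hu)) _ hx
        group at h'
        exact h'
      exact sup_eq_left.mp (U.3 (IsPGroup.to_sup_of_normal_right' U.2 hKp hn) le_sup_left)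
    -- the preimage lies in the Siegel group
    set K' : Subgroup (G Q) := (U0 : Subgroup (G Q)) ⊓ (((K.map (pr Q))).comap α.toMonoidHom).comap (pr Q)
      with hK'
    have hK'p : IsPGroup p K' := U0.2.to_le inf_le_left
    have hliftK : ∀ k ∈ K, ∃ u ∈ K', α (pr Q u) = pr Q k := by
      intro k hk
      have h : pr Q k ∈ (U : Subgroup (G Q)).map (pr Q) := Subgroup.mem_map_of_mem _ (hKU hk)
      rw [hUmap] at h
      obtain ⟨_, ⟨u, hu, rfl⟩, hu'⟩ := h
      exact ⟨u, ⟨hu, ⟨k, hk, hu'.symm⟩⟩, hu'⟩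
    have hK'S : K' ≤ Stab Q e := fun u hu => ⟨1, one_ne_zero, by rw [one_smul, hU0 u hu.1]⟩
    have hK'n : ∀ a ∈ Stab Q e, ∀ u ∈ K', a * u * a⁻¹ ∈ K' := by
      intro a ha u hu
      obtain ⟨m, hm⟩ := pr_surjective (α (pr Q a))
      have hmM : m ∈ M := ⟨pr Q a, ⟨a, ha, rfl⟩, hm.symm⟩
      obtain ⟨k, hk, hku⟩ := hu.2
      obtain ⟨u', hu', h⟩ := hliftK _ (hKn m hmM k hk)
      have h1 : pr Q u' = pr Q (a * u * a⁻¹) := α.injective (by
        change pr Q k = α (pr Q u) at hku
        rw [h, map_mul, map_mul, map_mul, map_mul, map_inv, map_inv, hm, hku, map_mul, map_mul, map_inv])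
      rw [S.pel_inj p (pel_conj p a (pel_of_mem p hK'p hu)) (pel_of_mem p hK'p hu') h1.symm]
      exact hu'
    have hK'Q : K' ≤ S.Qg he := S.le_Qg p he he0 hK'p hK'S hK'n
    have hKR : K ≤ R := fun k hk => by
      obtain ⟨u, hu, h⟩ := hliftK k hk
      exact ⟨hKU hk, ⟨pr Q u, ⟨u, hK'Q hu, rfl⟩, h⟩⟩
    have hcomm : ∀ x ∈ R, ∀ y ∈ R, x * y = y * x := by
      intro x hx y hy
      obtain ⟨_, ⟨a, ha, rfl⟩, hxa⟩ := hx.2
      obtain ⟨_, ⟨b, hb, rfl⟩, hyb⟩ := hy.2
      refine S.pel_comm p (pel_of_mem p hRp hy) ?_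
      change α (pr Q a) = pr Q x at hxa
      change α (pr Q b) = pr Q y at hyb
      rw [← hxa, ← hyb, ← map_mul, ← map_mul, ← map_mul, ← map_mul, S.Qg_comm he ha hb]
    have hWQ : ∀ x ∈ W, Q x = 0 := fun x hx => hx.2
    have hWW : ∀ x ∈ W, ∀ y ∈ W, polar Q x y = 0 := fun x hx y hy => hx.1.2 y hy.1.1
    have hse : ∀ a ∈ W, ∀ w ∈ perp Q W, ∃ (ha : Q a = 0) (haw : polar Q a w = 0), S.se ha haw ∈ K := by
      intro a ha w hw
      have haw : polar Q a w = 0 := by rw [polar_comm]; exact hw a ha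
      refine ⟨hWQ a ha, haw, fun x hx => ?_, fun x hx => ?_⟩
      · rw [S.ap_se, hWW a ha x hx, hw x hx]; simp
      · rw [S.ap_se, polar_comm Q a x, hx a ha, zero_smul, add_zero, sub_right_comm, sub_self, zero_sub]
        exact W.neg_mem (W.smul_mem _ ha)
    by_cases hlag : perp Q W ≤ W
    · have h10 := hL W hWQ hlag
      have h2 := finrank_le_two_mul W hlag
      have hc1 := S.card_radSub_ge W hWQ (by omega)
      have hc2 : Nat.card K ≤ Nat.card F ^ (finrank F V - 2) := by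
        refine le_trans ?_ (S.card_Qg_le he he0)
        refine le_trans (Subgroup.card_le_of_le hKR) ?_
        refine le_trans (Nat.card_le_card_of_injective (fun r : R => (⟨pr Q r, r.2.2⟩ : A)) ?_) ?_
        · intro r r' h
          exact Subtype.ext (S.pel_inj p (pel_of_mem p hRp r.2) (pel_of_mem p hRp r'.2) (congrArg Subtype.val h))
        · rw [hA, card_map_equiv, Setup.PQ]
          exact Nat.le_of_dvd Nat.card_pos (Subgroup.card_map_dvd _ _)
      have h4 := (Nat.pow_le_pow_iff_right (Finite.one_lt_card (α := F))).1 (hc1.trans hc2)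
      omega
    · obtain ⟨w, hw, hwW⟩ := SetLike.not_le_iff_exists.1 hlag
      obtain ⟨w', hw', hww'⟩ : ∃ w' ∈ perp Q W, polar Q w w' ≠ 0 := by
        by_contra hcon
        push Not at hcon
        exact hwW (perp_perp_le S.pnd W hcon)
      obtain ⟨ha, haw, hxK⟩ := hse e' he'W w hw
      obtain ⟨hb, hbw, hyK⟩ := hse t htW w' hw'
      have hcm := hcomm _ (hKR hxK) _ (hKR hyK)
      rw [← mul_inv_eq_iff_eq_mul, S.se_conj] at hcm
      have hgt : ap (S.se ha haw) t = t := by
        rw [S.ap_se, hWW e' he'W t htW, hw t htW]; simp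
      have hgw : ap (S.se ha haw) w' = w' - polar Q w w' • e' := by
        rw [S.ap_se, polar_comm Q e' w', hw' e' he'W]; simp
      obtain ⟨z, hz, hzt⟩ := exists_polar_sep S.pnd (H := Submodule.span F {e'}) (x := t)
        (fun hm => by
          obtain ⟨c, hc⟩ := Submodule.mem_span_singleton.mp hm
          exact ht c hc.symm) 1
      have hze : polar Q z e' = 0 := hz e' (Submodule.mem_span_singleton_self e')
      have hb' : polar Q t (w' - polar Q w w' • e') = 0 := by
        rw [polar_sub_right, hbw, polar_smul_right, hWW t htW e' he'W]; simp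
      have hcm' : S.se hb hb' = S.se hb hbw := (S.se_congr _ _ _ _ hgt hgw).symm.trans hcm
      have h1 := congrArg (fun g : G Q => ap g z) hcm'
      simp only [S.ap_se, show polar Q t z = 1 by rw [polar_comm, hzt]] at h1
      rw [polar_sub_left, polar_smul_left, polar_comm Q e' z, hze, map_sub_two, QuadraticMap.map_smul, he',
        polar_smul_right, polar_comm Q w' e', show polar Q e' w' = 0 by rw [polar_comm]; exact hw' e' he'W] at h1
      simp only [smul_zero, add_zero, sub_zero, one_smul, mul_one] at h1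
      have h3 : (polar Q w w') • e' = 0 := by linear_combination (norm := module) -h1
      exact he'0 ((smul_eq_zero.1 h3).resolve_left hww')

end Cfsg.Agent.Small.OrthAut
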