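import Cfsg.Agent.Lib.Small.OrthAut.Semi

/-!
An automorphism fixing two opposite points induces a semilinear similitude on the orthogonal of their pair.
-/

set_option autoImplicit false
set_option linter.unusedSectionVars false
set_option linter.style.haveILetI false

namespace Cfsg.Agent.Small.OrthAut

open Module QuadraticMap
open Cfsg.Agent.Classical
open Cfsg.Agent.Classical.OCount Cfsg.Agent.Classical.ORefl Cfsg.Agent.Classical.OOmega

variable {F : Type*} [Field F] [Finite F] {V : Type*} [AddCommGroup V] [Module F V] [FiniteDimensional F V]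
  {Q : QuadraticForm F V} (S : Setup Q)

/-- The data of an automorphism fixing the points of a frame. -/
def FixPair (S : Setup Q) (T : ThreePairs Q) (β : MulAut (PG Q)) : Prop :=
  (S.PQ T.hp.1).map β.toMonoidHom = S.PQ T.hp.1 ∧ (S.PQ T.hp.2.1).map β.toMonoidHom = S.PQ T.hp.2.1

theorem frame_ne (T : ThreePairs Q) : T.e ≠ 0 ∧ T.f ≠ 0 ∧ T.w ≠ 0 ∧ T.w' ≠ 0 ∧ T.u ≠ 0 ∧ T.z ≠ 0 := by
  refine ⟨?_, ?_, ?_, ?_, ?_, ?_⟩ <;> intro h
  · have h1 : polar Q T.e T.f = 1 := T.hp.2.2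
    rw [h, polar_zero_left] at h1; exact zero_ne_one h1
  · have h1 : polar Q T.e T.f = 1 := T.hp.2.2
    rw [h, polar_zero_right] at h1; exact zero_ne_one h1
  · have h1 : polar Q T.w T.w' = 1 := T.hq.2.2
    rw [h, polar_zero_left] at h1; exact zero_ne_one h1
  · have h1 : polar Q T.w T.w' = 1 := T.hq.2.2
    rw [h, polar_zero_right] at h1; exact zero_ne_one h1
  · have h1 : polar Q T.u T.z = 1 := T.hs.2.2
    rw [h, polar_zero_left] at h1; exact zero_ne_one h1
  · have h1 : polar Q T.u T.z = 1 := T.hs.2.2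
    rw [h, polar_zero_right] at h1; exact zero_ne_one h1

include S in
theorem Setup.se_eq_iff {T : ThreePairs Q} {v w : V} (hv : v ∈ comp Q (T.e, T.f)) (hw : w ∈ comp Q (T.e, T.f))
    (h : S.se T.hp.1 (v := v) (mem_comp.mp hv).1 = S.se T.hp.1 (v := w) (mem_comp.mp hw).1) : v = w := by
  have h1 := congrArg (fun g : G Q => proj Q T.e T.f (ap g T.f)) h
  have hfe : polar Q T.f T.e = 1 := by rw [polar_comm]; exact T.hp.2.2
  have key : ∀ x ∈ comp Q (T.e, T.f), ∀ hx : polar Q T.e x = 0,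
      proj Q T.e T.f (ap (S.se T.hp.1 hx) T.f) = x := by
    intro x hx _
    obtain ⟨h1, h2⟩ := mem_comp.mp hx
    rw [S.ap_se, show polar Q T.e T.f = 1 from T.hp.2.2, polar_comm Q x T.f, h2, proj]
    simp only [polar_add_right, polar_sub_right, polar_smul_right, polar_self_zero T.hp.1,
      polar_self_zero T.hp.2.1, show polar Q T.e T.f = 1 from T.hp.2.2, hfe, h1, h2, smul_eq_mul]
    module
  simpa [key v hv, key w hw] using h1

include S in
/-- The additive map of an automorphism fixing a pair. -/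
theorem Setup.exists_additive (T : ThreePairs Q) (β : MulAut (PG Q)) (hβ : FixPair S T β) :
    ∃ A : V → V, (∀ v ∈ comp Q (T.e, T.f), A v ∈ comp Q (T.e, T.f)) ∧
      (∀ v ∈ comp Q (T.e, T.f), ∀ (h : polar Q T.e v = 0) (h' : polar Q T.e (A v) = 0),
        β (pr Q (S.se T.hp.1 h)) = pr Q (S.se T.hp.1 h')) ∧
      (∀ v ∈ comp Q (T.e, T.f), ∀ w ∈ comp Q (T.e, T.f), A (v + w) = A v + A w) ∧
      (∀ v ∈ comp Q (T.e, T.f), A v = 0 → v = 0) ∧
      ∀ w ∈ comp Q (T.e, T.f), ∃ v ∈ comp Q (T.e, T.f), A v = w := by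
  obtain ⟨p, _⟩ := CharP.exists F
  haveI : Fact p.Prime := ⟨CharP.char_is_prime F p⟩
  haveI : Finite V := Module.finite_of_finite F
  set W := comp Q (T.e, T.f) with hW
  have hpel : ∀ (v : V) (h : polar Q T.e v = 0), PEl p (S.se T.hp.1 h) := fun v h =>
    pel_of_mem p (S.isPGroup_Qg p T.hp.1) (S.se_mem _ h)
  have hinj : ∀ {v w : V} (hv : v ∈ W) (hw : w ∈ W) (h : polar Q T.e v = 0) (h' : polar Q T.e w = 0),
      pr Q (S.se T.hp.1 h) = pr Q (S.se T.hp.1 h') → v = w := fun hv hw h h' he =>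
    S.se_eq_iff hv hw (S.pel_inj p (hpel _ h) (hpel _ h') he)
  have hex : ∀ v : V, ∃ w : V, v ∈ W → w ∈ W ∧ ∀ (h : polar Q T.e v = 0) (h' : polar Q T.e w = 0),
      β (pr Q (S.se T.hp.1 h)) = pr Q (S.se T.hp.1 h') := by
    intro v
    by_cases hv : v ∈ W
    swap
    · exact ⟨0, fun h => absurd h hv⟩
    have h1 : β (pr Q (S.se T.hp.1 (mem_comp.mp hv).1)) ∈ S.PQ T.hp.1 :=
      hβ.1 ▸ ⟨_, ⟨_, S.se_mem _ _, rfl⟩, rfl⟩
    obtain ⟨g, hg, hgv⟩ := h1
    obtain ⟨u, hu, rfl⟩ := (S.mem_Qg T.hp.1).1 hg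
    have hfe : polar Q T.f T.e = 1 := by rw [polar_comm]; exact T.hp.2.2
    refine ⟨u + (-polar Q T.f u) • T.e, fun _ => ⟨mem_comp.mpr ⟨?_, ?_⟩, fun h h' => ?_⟩⟩
    · rw [polar_add_right, polar_smul_right, polar_self_zero T.hp.1, hu]; simp
    · rw [polar_add_right, polar_smul_right, hfe]; simp
    · rw [S.se_shift (-polar Q T.f u) T.hp.1 hu]
      exact hgv.symm
  choose A hA using hex
  have hAW : ∀ v ∈ W, A v ∈ W := fun v hv => (hA v hv).1
  have hAβ : ∀ v ∈ W, ∀ (h : polar Q T.e v = 0) (h' : polar Q T.e (A v) = 0),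
      β (pr Q (S.se T.hp.1 h)) = pr Q (S.se T.hp.1 h') := fun v hv => (hA v hv).2
  have hadd : ∀ v ∈ W, ∀ w ∈ W, A (v + w) = A v + A w := by
    intro v hv w hw
    have e1 := hAβ v hv (mem_comp.mp hv).1 (mem_comp.mp (hAW v hv)).1
    have e2 := hAβ w hw (mem_comp.mp hw).1 (mem_comp.mp (hAW w hw)).1
    have e3 := hAβ _ (W.add_mem hv hw) (mem_comp.mp (W.add_mem hv hw)).1
      (mem_comp.mp (hAW _ (W.add_mem hv hw))).1
    have e4 := congrArg₂ (· * ·) e1 e2
    simp only [← map_mul, S.se_mul] at e4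
    refine hinj (hAW _ (W.add_mem hv hw)) (W.add_mem (hAW v hv) (hAW w hw)) (mem_comp.mp
      (hAW _ (W.add_mem hv hw))).1 (mem_comp.mp (W.add_mem (hAW v hv) (hAW w hw))).1 ?_
    rw [← e3]
    exact e4
  have h0 : ∀ v ∈ W, A v = 0 → v = 0 := by
    intro v hv hv0
    have e1 := hAβ v hv (mem_comp.mp hv).1 (mem_comp.mp (hAW v hv)).1
    rw [S.se_congr T.hp.1 (mem_comp.mp (hAW v hv)).1 T.hp.1 (polar_zero_right Q T.e) rfl hv0, S.se_zero,
      map_one] at e1
    refine hinj hv W.zero_mem (mem_comp.mp hv).1 (polar_zero_right Q T.e) (β.injective ?_)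
    rw [S.se_zero, map_one, map_one]
    exact e1
  refine ⟨A, hAW, hAβ, hadd, h0, fun w hw => ?_⟩
  let R : W → W := fun x => ⟨A x.1, hAW x.1 x.2⟩
  have hR : Function.Injective R := fun x y hxy => by
    have h1 : A x.1 = A y.1 := congrArg Subtype.val hxy
    have h2 := hadd (x.1 - y.1) (W.sub_mem x.2 y.2) y.1 y.2
    rw [sub_add_cancel, h1, right_eq_add] at h2
    exact Subtype.ext (sub_eq_zero.mp (h0 _ (W.sub_mem x.2 y.2) h2))
  obtain ⟨x, hx⟩ := Finite.injective_iff_surjective.mp hR ⟨w, hw⟩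
  exact ⟨x.1, x.2, congrArg Subtype.val hx⟩

include S in
/-- A singular vector of the complement orthogonal to the first and a given one. -/
theorem Setup.exists_common {T : ThreePairs Q} {u : V} (hu : u ∈ comp Q (T.e, T.f)) (huQ : Q u = 0)
    (huw : polar Q T.w u = 1) :
    ∃ z ∈ comp Q (T.e, T.f), ∃ z' ∈ comp Q (T.e, T.f), IsHPair Q (z, z') ∧ polar Q T.w z = 0 ∧
      polar Q T.w z' = 0 ∧ polar Q u z = 0 ∧ polar Q u z' = 0 := by
  obtain ⟨hy, hmove⟩ := S.exists_partner_move T.hq.1 T.hq.2.1 huQ T.hq.2.2 huw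
  set g := S.se T.hq.1 hy with hg
  have hw'1 : polar Q T.w T.w' = 1 := T.hq.2.2
  have hwe : polar Q T.w T.e = 0 := by rw [polar_comm]; exact T.ew
  have hwf : polar Q T.w T.f = 0 := by rw [polar_comm]; exact T.fw
  have hgfix : ap g T.e = T.e ∧ ap g T.f = T.f ∧ ap g T.w = T.w := by
    have hyv : ∀ x, polar Q T.w x = 0 → polar Q T.w' x = 0 → polar Q u x = 0 → ap g x = x := fun x h1 h2 h3 => by
      rw [hg, S.ap_se, h1, polar_sub_left, polar_sub_left, polar_smul_left, h1, h2, h3]; simp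
    refine ⟨hyv _ hwe (by rw [polar_comm]; exact T.ew') (by rw [polar_comm]; exact (mem_comp.mp hu).1),
      hyv _ hwf (by rw [polar_comm]; exact T.fw') (by rw [polar_comm]; exact (mem_comp.mp hu).2),
      S.Qg_fixes T.hq.1 (S.se_mem _ _)⟩
  obtain ⟨he, hf, hw⟩ := hgfix
  refine ⟨ap g T.u, mem_comp.mpr ⟨?_, ?_⟩, ap g T.z, mem_comp.mpr ⟨?_, ?_⟩, ⟨?_, ?_, ?_⟩, ?_, ?_, ?_, ?_⟩
  · conv_lhs => rw [← he, polar_ap, T.eu]
  · conv_lhs => rw [← hf, polar_ap, T.fu]
  · conv_lhs => rw [← he, polar_ap, T.ez]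
  · conv_lhs => rw [← hf, polar_ap, T.fz]
  · rw [q_ap]; exact T.hs.1
  · rw [q_ap]; exact T.hs.2.1
  · rw [polar_ap]; exact T.hs.2.2
  · conv_lhs => rw [← hw, polar_ap, T.wu]
  · conv_lhs => rw [← hw, polar_ap, T.wz]
  · rw [← hmove, polar_ap, T.w'u]
  · rw [← hmove, polar_ap, T.w'z]

include S in
/-- The complement is spanned by its singular vectors. -/
theorem Setup.comp_induction {T : ThreePairs Q} {motive : V → Prop}
    (add : ∀ u ∈ comp Q (T.e, T.f), ∀ v ∈ comp Q (T.e, T.f), motive u → motive v → motive (u + v))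
    (sing : ∀ v ∈ comp Q (T.e, T.f), Q v = 0 → motive v) {x : V} (hx : x ∈ comp Q (T.e, T.f)) : motive x := by
  have hq : IsHPair (res Q (T.e, T.f)) (⟨T.w, mem_comp.mpr ⟨T.ew, T.fw⟩⟩, ⟨T.w', mem_comp.mpr ⟨T.ew', T.fw'⟩⟩) :=
    ⟨T.hq.1, T.hq.2.1, T.hq.2.2⟩
  exact singular_induction hq (motive := fun y => motive y.1) (fun u v hu hv => add u.1 u.2 v.1 v.2 hu hv)
    (fun v hv => sing v.1 v.2 (by rwa [res_apply] at hv)) ⟨x, hx⟩

include S in
/-- The automorphism acts on the complement as a semilinear similitude. -/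
theorem Setup.exists_semilinear (hL : NoLag Q) (T : ThreePairs Q) (β : MulAut (PG Q)) (hβ : FixPair S T β) :
    ∃ (A : V → V) (σ : F ≃+* F) (k : F), k ≠ 0 ∧
      (∀ v ∈ comp Q (T.e, T.f), A v ∈ comp Q (T.e, T.f)) ∧
      (∀ v ∈ comp Q (T.e, T.f), ∀ (h : polar Q T.e v = 0) (h' : polar Q T.e (A v) = 0),
        β (pr Q (S.se T.hp.1 h)) = pr Q (S.se T.hp.1 h')) ∧
      (∀ v ∈ comp Q (T.e, T.f), ∀ w ∈ comp Q (T.e, T.f), A (v + w) = A v + A w) ∧
      (∀ v ∈ comp Q (T.e, T.f), A v = 0 → v = 0) ∧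
      (∀ w ∈ comp Q (T.e, T.f), ∃ v ∈ comp Q (T.e, T.f), A v = w) ∧
      (∀ v ∈ comp Q (T.e, T.f), ∀ c : F, A (c • v) = σ c • A v) ∧
      ∀ v ∈ comp Q (T.e, T.f), Q (A v) = k * σ (Q v) := by
  obtain ⟨p, _⟩ := CharP.exists F
  haveI : Fact p.Prime := ⟨CharP.char_is_prime F p⟩
  obtain ⟨A, hAW, hAβ, hadd, hA0, hAsurj⟩ := S.exists_additive T β hβ
  set W := comp Q (T.e, T.f) with hW
  obtain ⟨he0, hf0, hw0, hw'0, -, -⟩ := frame_ne T
  have hwW : T.w ∈ W := mem_comp.mpr ⟨T.ew, T.fw⟩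
  have hw'W : T.w' ∈ W := mem_comp.mpr ⟨T.ew', T.fw'⟩
  have huW : T.u ∈ W := mem_comp.mpr ⟨T.eu, T.fu⟩
  have hA00 : A 0 = 0 := by
    have h := hadd 0 W.zero_mem 0 W.zero_mem
    rw [add_zero] at h
    exact left_eq_add.mp h
  -- singular vectors and their lines
  have hline : ∀ w ∈ W, Q w = 0 → w ≠ 0 → ∃ hAQ : Q (A w) = 0, ∀ (hwQ : Q w = 0),
      (S.PQ hwQ).map β.toMonoidHom = S.PQ hAQ ∧ ∀ c : F, ∃ d : F, A (c • w) = d • A w := by
    intro w hw hwQ hwne
    obtain ⟨w', hw', hw'0, himg⟩ := S.exists_image hL β hwQ hwne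
    have h1 : polar Q T.e w' = 0 :=
      (S.perp_iff β T.hp.1 hwQ T.hp.1 hw' he0 hwne he0 hw'0 hβ.1 himg).1 (mem_comp.mp hw).1
    have h2 : polar Q T.f w' = 0 :=
      (S.perp_iff β T.hp.2.1 hwQ T.hp.2.1 hw' hf0 hwne hf0 hw'0 hβ.2 himg).1 (mem_comp.mp hw).2
    have key : ∀ c : F, ∃ d : F, A (c • w) = d • w' := by
      intro c
      have hcw := W.smul_mem c hw
      have e1 := hAβ _ hcw (mem_comp.mp hcw).1 (mem_comp.mp (hAW _ hcw)).1
      have hm : pr Q (S.se T.hp.1 (mem_comp.mp (hAW _ hcw)).1) ∈ S.PQ hw' := by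
        rw [← e1, ← himg]
        refine ⟨_, ⟨_, ?_, rfl⟩, rfl⟩
        rw [S.se_swap T.hp.1 hwQ (mem_comp.mp hw).1 c]
        exact S.se_mem _ _
      obtain ⟨v, hv, hve⟩ := (S.mem_Qg hw').1 (S.mem_of_pr_mem hw'
        (pel_of_mem p (S.isPGroup_Qg p T.hp.1) (S.se_mem _ _)) hm)
      refine ⟨-polar Q v T.f, ?_⟩
      have h3 := congrArg (fun g : G Q => proj Q T.e T.f (ap g T.f)) hve
      have hfe : polar Q T.f T.e = 1 := by rw [polar_comm]; exact T.hp.2.2
      obtain ⟨h4, h5⟩ := mem_comp.mp (hAW _ hcw)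
      simp only [S.ap_se, show polar Q T.e T.f = 1 from T.hp.2.2, polar_comm Q (A (c • w)) T.f, h5,
        polar_comm Q w' T.f, h2, proj, polar_add_right, polar_sub_right, polar_smul_right,
        polar_self_zero T.hp.1, polar_self_zero T.hp.2.1, hfe, h4, h1, smul_eq_mul] at h3
      linear_combination (norm := module) h3
    obtain ⟨k, hk⟩ := key 1
    rw [one_smul] at hk
    have hk0 : k ≠ 0 := fun h => hwne (hA0 w hw (by rw [hk, h, zero_smul]))
    have hAQ : Q (A w) = 0 := by rw [hk, QuadraticMap.map_smul, hw', smul_zero]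
    refine ⟨hAQ, fun _ => ⟨?_, fun c => ?_⟩⟩
    · rw [S.PQ_congr hAQ (b := k • w') (by rw [← hk]; exact hAQ) hk, S.PQ_smul hw' hk0]
      exact himg
    · obtain ⟨d, hd⟩ := key c
      exact ⟨d / k, by rw [hd, hk, smul_smul, div_mul_cancel₀ d hk0]⟩
  have hAne : ∀ w ∈ W, w ≠ 0 → A w ≠ 0 := fun w hw h h0 => h (hA0 w hw h0)
  have hAQ : ∀ w ∈ W, Q w = 0 → Q (A w) = 0 := fun w hw hwQ => by
    rcases eq_or_ne w 0 with rfl | h
    · rw [hA00, QuadraticMap.map_zero]
    · exact (hline w hw hwQ h).1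
  have hperp : ∀ u ∈ W, ∀ v ∈ W, Q u = 0 → Q v = 0 → (polar Q u v = 0 ↔ polar Q (A u) (A v) = 0) := by
    intro u hu v hv huQ hvQ
    rcases eq_or_ne u 0 with rfl | hu0
    · simp [hA00]
    rcases eq_or_ne v 0 with rfl | hv0
    · simp [hA00]
    obtain ⟨a, ha⟩ := hline u hu huQ hu0
    obtain ⟨b, hb⟩ := hline v hv hvQ hv0
    exact S.perp_iff β huQ hvQ a b hu0 hv0 (hAne u hu hu0) (hAne v hv hv0) (ha huQ).1 (hb hvQ).1
  -- semilinearity
  have hsc : ∀ u ∈ W, Q u = 0 → ∀ c : F, ∃ d : F, A (c • u) = d • A u := fun u hu huQ c => by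
    rcases eq_or_ne u 0 with rfl | hu0
    · exact ⟨0, by rw [smul_zero, hA00, smul_zero]⟩
    · exact ((hline u hu huQ hu0).2 huQ).2 c
  choose σf hσf using hsc T.w hwW T.hq.1
  let Good : V → Prop := fun u => ∀ c : F, A (c • u) = σf c • A u
  have hstep : ∀ u ∈ W, ∀ v ∈ W, Q u = 0 → Q v = 0 → u ≠ 0 → polar Q u v = 0 → (∀ k : F, v ≠ k • u) →
      Good u → Good v := by
    intro u hu v hv huQ hvQ hu0 huv hd hgu c
    obtain ⟨b, hb⟩ := hsc v hv hvQ c
    obtain ⟨d, hd'⟩ := hsc (u + v) (W.add_mem hu hv) (by rw [map_two, huQ, hvQ, huv]; simp) c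
    rw [hadd u hu v hv, smul_add, hadd _ (W.smul_mem c hu) _ (W.smul_mem c hv), hgu c, hb] at hd'
    have hindep : b = d := by
      by_contra hbd
      have hv0 : v ≠ 0 := fun h => hd 0 (by rw [h, zero_smul])
      have e1 : A v = ((b - d)⁻¹ * (d - σf c)) • A u := by
        rw [mul_smul, show (d - σf c) • A u = (b - d) • A v by linear_combination (norm := module) -hd',
          smul_smul, inv_mul_cancel₀ (sub_ne_zero.mpr hbd), one_smul]
      obtain ⟨a, ha⟩ := hline u hu huQ hu0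
      obtain ⟨a', ha'⟩ := hline v hv hvQ hv0
      set r := (b - d)⁻¹ * (d - σf c) with hr
      have hr0 : r ≠ 0 := fun h => hAne v hv hv0 (by rw [e1, h, zero_smul])
      have h4 : (S.PQ hvQ).map β.toMonoidHom = (S.PQ huQ).map β.toMonoidHom := by
        rw [(ha' hvQ).1, (ha huQ).1, S.PQ_congr a' (b := r • A u) (by rw [← e1]; exact a') e1, S.PQ_smul a hr0]
      obtain ⟨k, -, hk⟩ := S.PQ_inj hvQ huQ hv0 hu0 (Subgroup.map_injective β.injective h4)
      exact hd k hk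
    rw [← hindep] at hd'
    have e2 : (σf c - b) • A u = 0 := by linear_combination (norm := module) hd'
    rw [hb, sub_eq_zero.1 ((smul_eq_zero.1 e2).resolve_right (hAne u hu hu0))]
  have hsing : ∀ v ∈ W, Q v = 0 → Good v := by
    intro v hv hvQ
    rcases eq_or_ne v 0 with rfl | hv0
    · intro c; rw [smul_zero, hA00, smul_zero]
    by_cases h0 : polar Q T.w v = 0
    · by_cases hd : ∃ k : F, v = k • T.w
      · obtain ⟨k, rfl⟩ := hd
        have hk : k ≠ 0 := fun h => hv0 (by rw [h, zero_smul])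
        have hGu : Good T.u := hstep _ hwW _ huW T.hq.1 T.hs.1 hw0 T.wu (fun c hc => by
          have h1 : polar Q T.u T.z = 1 := T.hs.2.2
          rw [hc, polar_smul_left, T.wz, smul_zero] at h1
          exact zero_ne_one h1) hσf
        refine hstep _ huW _ hv T.hs.1 hvQ (frame_ne T).2.2.2.2.1 ?_ (fun c hc => ?_) hGu
        · rw [polar_smul_right, polar_comm, T.wu, smul_zero]
        · have h1 := congrArg (fun x => polar Q x T.w') hc
          simp only [polar_smul_left, show polar Q T.w T.w' = 1 from T.hq.2.2,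
            show polar Q T.u T.w' = 0 by rw [polar_comm]; exact T.w'u] at h1
          simp at h1
          exact hk h1
      · push Not at hd
        exact hstep _ hwW _ hv T.hq.1 hvQ hw0 h0 hd hσf
    · obtain ⟨v', hv'⟩ : ∃ v', v' = (polar Q T.w v)⁻¹ • v := ⟨_, rfl⟩
      have hv'W : v' ∈ W := hv' ▸ W.smul_mem _ hv
      have h1 : polar Q T.w v' = 1 := by rw [hv', polar_smul_right, smul_eq_mul, inv_mul_cancel₀ h0]
      obtain ⟨z, hz, z', hz', hzz, hwz, hwz', hvz, hvz'⟩ :=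
        S.exists_common hv'W (by rw [hv', QuadraticMap.map_smul, hvQ, smul_zero]) h1
      have hz0 : z ≠ 0 := fun h => by
        have h2 : polar Q z z' = 1 := hzz.2.2
        rw [h, polar_zero_left] at h2
        exact zero_ne_one h2
      have hGz : Good z := hstep _ hwW _ hz T.hq.1 hzz.1 hw0 hwz (fun c hc => by
        have h2 : polar Q z z' = 1 := hzz.2.2
        rw [hc, polar_smul_left, hwz', smul_zero] at h2
        exact zero_ne_one h2) hσf
      refine hstep _ hz _ hv hzz.1 hvQ hz0 ?_ (fun c hc => ?_) hGz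
      · have h2 := hvz
        rw [hv', polar_smul_left, smul_eq_mul, mul_eq_zero] at h2
        rw [polar_comm]
        exact h2.resolve_left (inv_ne_zero h0)
      · rw [hc, polar_smul_right, hwz, smul_zero] at h0
        exact h0 rfl
  have hall : ∀ v ∈ W, Good v := fun v hv => S.comp_induction (motive := Good)
    (fun u hu w hw h1 h2 c => by
      rw [smul_add, hadd _ (W.smul_mem c hu) _ (W.smul_mem c hw), h1 c, h2 c, hadd u hu w hw, smul_add])
    (fun w hw hwQ => hsing w hw hwQ) hv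
  have hAw := hAne T.w hwW hw0
  have hcanc : ∀ a b : F, a • A T.w = b • A T.w → a = b := fun a b h => smul_left_injective F hAw h
  let σh : F →+* F :=
    { toFun := σf
      map_one' := hcanc _ _ (by rw [← hall _ hwW, one_smul, one_smul])
      map_mul' := fun a b => hcanc _ _ (by
        rw [← hall _ hwW, mul_smul, mul_smul, hall _ (W.smul_mem b hwW) a, hall _ hwW b])
      map_zero' := hcanc _ _ (by rw [← hall _ hwW, zero_smul, hA00, zero_smul])
      map_add' := fun a b => hcanc _ _ (by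
        rw [← hall _ hwW, add_smul, add_smul, hadd _ (W.smul_mem a hwW) _ (W.smul_mem b hwW), hall _ hwW a,
          hall _ hwW b]) }
  let σ : F ≃+* F := RingEquiv.ofBijective σh (Finite.injective_iff_bijective.mp σh.injective)
  have hσ : ∀ v ∈ W, ∀ c : F, A (c • v) = σ c • A v := hall
  -- the transported polar form
  let B : V → V → F := fun x y => σ.symm (polar Q (A x) (A y))
  have hBadd : ∀ x, ∀ y ∈ W, ∀ y' ∈ W, B x (y + y') = B x y + B x y' := fun x y hy y' hy' => by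
    simp only [B, hadd y hy y' hy', polar_add_right, map_add]
  have hBsmul : ∀ x, ∀ y ∈ W, ∀ c : F, B x (c • y) = c * B x y := fun x y hy c => by
    simp only [B, hσ y hy c, polar_smul_right, smul_eq_mul, map_mul, RingEquiv.symm_apply_apply]
  have hBcomm : ∀ x y, B x y = B y x := fun x y => by simp only [B, polar_comm Q (A x) (A y)]
  have hBzero : ∀ u ∈ W, ∀ v ∈ W, Q u = 0 → Q v = 0 → polar Q u v = 0 → B u v = 0 := fun u hu v hv h1 h2 h3 => by
    simp only [B, (hperp u hu v hv h1 h2).1 h3, map_zero]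
  -- on a partner of a singular vector
  have hfour : ∀ u ∈ W, ∀ u' ∈ W, ∀ z ∈ W, ∀ z' ∈ W, IsHPair Q (u, u') → IsHPair Q (z, z') →
      polar Q u z = 0 → polar Q u z' = 0 → polar Q u' z = 0 → polar Q u' z' = 0 →
      ∀ y ∈ W, B u y = B u u' * polar Q u y := by
    intro u hu u' hu' z hz z' hz' hp hq huz huz' hu'z hu'z' y hy
    obtain ⟨r, hr⟩ : ∃ r, r = proj Q u u' y := ⟨_, rfl⟩
    have hr' : polar Q u r = 0 ∧ polar Q u' r = 0 := mem_comp.mp (hr ▸ proj_mem hp y)
    obtain ⟨r', hr''⟩ : ∃ r', r' = proj Q z z' r := ⟨_, rfl⟩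
    have hr3 : polar Q z r' = 0 ∧ polar Q z' r' = 0 := mem_comp.mp (hr'' ▸ proj_mem hq r)
    have hrW : r ∈ W := by
      rw [hr, proj]; exact W.sub_mem (W.sub_mem hy (W.smul_mem _ hu)) (W.smul_mem _ hu')
    have hr'W : r' ∈ W := by
      rw [hr'', proj]; exact W.sub_mem (W.sub_mem hrW (W.smul_mem _ hz)) (W.smul_mem _ hz')
    have hur' : polar Q u r' = 0 := by
      rw [hr'', proj, polar_sub_right, polar_sub_right, polar_smul_right, polar_smul_right, hr'.1, huz, huz']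
      simp
    have hs : Q (r' + z + (-Q r') • z') = 0 := by
      rw [map_two, map_two, QuadraticMap.map_smul, hq.1, hq.2.1, polar_smul_right, polar_add_left,
        polar_comm Q r' z, hr3.1, polar_comm Q r' z', hr3.2, hq.2.2]
      simp
    have hsW := W.add_mem (W.add_mem hr'W hz) (W.smul_mem (-Q r') hz')
    have e : r = (r' + z + (-Q r') • z') + ((polar Q z' r - 1) • z + (polar Q z r + Q r') • z') := by
      rw [hr'', proj]; module
    have hBu : B u r = 0 := by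
      rw [e, hBadd u _ hsW _ (W.add_mem (W.smul_mem _ hz) (W.smul_mem _ hz')), hBadd u _ (W.smul_mem _ hz) _
        (W.smul_mem _ hz'), hBsmul u z hz, hBsmul u z' hz', hBzero u hu _ hsW hp.1 hs
          (by rw [polar_add_right, polar_add_right, polar_smul_right, hur', huz, huz']; simp),
        hBzero u hu z hz hp.1 hq.1 huz, hBzero u hu z' hz' hp.1 hq.2.1 huz']
      simp
    have ey : y = polar Q u' y • u + (polar Q u y • u' + r) := by rw [hr, proj]; abel
    conv_lhs => rw [ey, hBadd u _ (W.smul_mem _ hu) _ (W.add_mem (W.smul_mem _ hu') hrW),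
      hBadd u _ (W.smul_mem _ hu') _ hrW, hBsmul u u hu, hBsmul u u' hu', hBu,
      hBzero u hu u hu hp.1 hp.1 (polar_self_zero hp.1)]
    ring
  have hzW : T.z ∈ W := mem_comp.mpr ⟨T.ez, T.fz⟩
  set k := B T.w T.w' with hk
  have hgw : ∀ y ∈ W, B T.w y = k * polar Q T.w y :=
    hfour _ hwW _ hw'W _ huW _ hzW T.hq T.hs T.wu T.wz T.w'u T.w'z
  have hgnp : ∀ v ∈ W, Q v = 0 → polar Q T.w v = 1 → ∀ y ∈ W, B v y = k * polar Q v y := by
    intro v hv hvQ h1 y hy
    obtain ⟨z, hz, z', hz', hzz, hwz, hwz', hvz, hvz'⟩ := S.exists_common hv hvQ h1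
    have h2 : polar Q v T.w = 1 := by rw [polar_comm]; exact h1
    rw [hfour v hv T.w hwW z hz z' hz' ⟨hvQ, T.hq.1, h2⟩ hzz hvz hvz' hwz hwz' y hy, hBcomm v T.w, hgw v hv, h1,
      mul_one]
  let Prop' : V → Prop := fun x => ∀ y ∈ W, B x y = k * polar Q x y
  have hPadd : ∀ x ∈ W, ∀ x' ∈ W, Prop' x → Prop' x' → Prop' (x + x') := fun x hx x' hx' h h' y hy => by
    rw [hBcomm, hBadd y x hx x' hx', hBcomm y x, hBcomm y x', h y hy, h' y hy, polar_add_left]; ring
  have hPsmul : ∀ x ∈ W, ∀ c : F, Prop' x → Prop' (c • x) := fun x hx c h y hy => by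
    rw [hBcomm, hBsmul y x hx, hBcomm y x, h y hy, polar_smul_left, smul_eq_mul]; ring
  have hPnp : ∀ v ∈ W, Q v = 0 → polar Q T.w v ≠ 0 → Prop' v := fun v hv hvQ h => by
    have h1 := hPsmul ((polar Q T.w v)⁻¹ • v) (W.smul_mem _ hv) (polar Q T.w v)
      (hgnp _ (W.smul_mem _ hv) (by rw [QuadraticMap.map_smul, hvQ, smul_zero])
        (by rw [polar_smul_right, smul_eq_mul, inv_mul_cancel₀ h]))
    rwa [smul_smul, mul_inv_cancel₀ h, one_smul] at h1
  have hP : ∀ v ∈ W, Prop' v := fun v hv => S.comp_induction (motive := Prop') hPadd (fun v hv hvQ => by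
    by_cases h : polar Q T.w v = 0
    · obtain ⟨r, hr⟩ : ∃ r, r = proj Q T.w T.w' v := ⟨_, rfl⟩
      have hr' : polar Q T.w r = 0 ∧ polar Q T.w' r = 0 := mem_comp.mp (hr ▸ proj_mem T.hq v)
      have hrW : r ∈ W := by
        rw [hr, proj]; exact W.sub_mem (W.sub_mem hv (W.smul_mem _ hwW)) (W.smul_mem _ hw'W)
      have hQ' : Q (r + T.w' + (-Q r) • T.w) = 0 := by
        rw [map_two, map_two, QuadraticMap.map_smul, T.hq.2.1, T.hq.1, polar_smul_right, polar_add_left,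
          polar_comm Q r T.w', hr'.2, polar_comm Q r T.w, hr'.1, polar_comm Q T.w' T.w,
          show polar Q T.w T.w' = 1 from T.hq.2.2]
        simp
      have hsW := W.add_mem (W.add_mem hrW hw'W) (W.smul_mem (-Q r) hwW)
      have e : v = (r + T.w' + (-Q r) • T.w) + ((-1 : F) • T.w' + (polar Q T.w' v + Q r) • T.w) := by
        rw [hr, proj, h]; module
      rw [e]
      refine hPadd _ hsW _ (W.add_mem (W.smul_mem _ hw'W) (W.smul_mem _ hwW)) ?_
        (hPadd _ (W.smul_mem _ hw'W) _ (W.smul_mem _ hwW) (hPsmul _ hw'W _ (hgnp _ hw'W T.hq.2.1 T.hq.2.2))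
          (hPsmul _ hwW _ hgw))
      refine hPnp _ hsW hQ' ?_
      rw [polar_add_right, polar_add_right, polar_smul_right, hr'.1, polar_self_zero T.hq.1,
        show polar Q T.w T.w' = 1 from T.hq.2.2]
      simp
    · exact hPnp v hv hvQ h) hv
  have hk0 : k ≠ 0 := fun h0 => by
    have h1 := (map_eq_zero σ.symm).1 h0
    have h2 : polar Q T.w T.w' = 1 := T.hq.2.2
    rw [(hperp _ hwW _ hw'W T.hq.1 T.hq.2.1).2 h1] at h2
    exact zero_ne_one h2
  refine ⟨A, σ, σ k, (map_ne_zero σ).mpr hk0, hAW, hAβ, hadd, hA0, hAsurj, hσ, fun v hv => ?_⟩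
  refine S.comp_induction (motive := fun v => Q (A v) = σ k * σ (Q v)) (fun u hu w hw h1 h2 => ?_)
    (fun w hw hwQ => by rw [hAQ w hw hwQ, hwQ, map_zero, mul_zero]) hv
  have h3 := congrArg σ (hP u hu w hw)
  simp only [B, RingEquiv.apply_symm_apply, map_mul] at h3
  rw [hadd u hu w hw, map_two, h1, h2, h3, map_two, map_add, map_add]
  ring

end Cfsg.Agent.Small.OrthAut
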