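import Cfsg.Agent.Lib.Small.OrthAut.SplitCount

/-!
The similitudes of the odd-dimensional form modulo the inner ones, and the split of the class of a
field automorphism.
-/

set_option autoImplicit false
set_option linter.unusedSectionVars false
set_option linter.style.haveILetI false

namespace Cfsg.Agent.Small.OrthAut

open Module QuadraticMap Matrix
open Cfsg.Agent.Classical
open Cfsg.Agent.Classical.OCount Cfsg.Agent.Classical.ORefl Cfsg.Agent.Classical.OOmega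
open Cfsg.Agent.Small.Orth (GO incl scalarG rho mult prodRf innSub omegaSub)

universe u v

section Odd

variable {F : Type u} [Field F] [Fintype F] {m : ℕ}

theorem inndiag_odd_eq :
    Cfsg.autSubgroupOf (fun β : MulAut (Cfsg.POmega F ⇑(qOdd F m)) =>
      Cfsg.IsSimilarityInducedAutPOmega ⇑(qOdd F m) β) = (⊤ : Subgroup ↥(GO ⇑(qOdd F m))).map (rho ⇑(qOdd F m)) :=
  Orth.autSub_eq (P := fun g => g ∈ GO ⇑(qOdd F m)) ⊤ (fun g => ⟨fun _ => g.2, fun _ => Subgroup.mem_top g⟩)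
    fun _ hg => hg

theorem gen_odd (h2 : (2 : F) ≠ 0) : Nat.card F ≠ 2 ∨ Fintype.card (Unit ⊕ (Fin m ⊕ Fin m)) ≠ 4 :=
  Or.inl (card_field_ne_two h2)

/-- A similitude is a scalar times an isometry of determinant one. -/
theorem decomp_odd (h2 : (2 : F) ≠ 0) (hm : 3 ≤ m) (g : ↥(GO ⇑(qOdd F m))) :
    ∃ (u : Fˣ) (k : ↥(Cfsg.isometryGroup F ⇑(qOdd F m))) (vs : List (Unit ⊕ (Fin m ⊕ Fin m) → F)),
      g = scalarG (qOdd F m) u * incl ⇑(qOdd F m) k ∧ (∀ v ∈ vs, qOdd F m v ≠ 0) ∧ Even vs.length ∧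
        ∀ x, k.1.1 *ᵥ x = (prodRf (qOdd F m) vs).1 x := by
  have S := setup_odd h2 hm
  obtain ⟨c, hc⟩ : multG S g ∈ (powMonoidHom 2 : Fˣ →* Fˣ).range := range_mult_odd h2 S ▸ ⟨g, rfl⟩
  have hg : ∀ v, qOdd F m (g.1.1 *ᵥ v) = (c : F) * c * qOdd F m v := fun v => by
    rw [g.2.choose_spec v]
    congr 1
    rw [show g.2.choose = multG S g from rfl, ← hc, powMonoidHom_apply, Units.val_pow_eq_pow_val, pow_two]
  have key : ∀ e : Fˣ, (e : F) * e = c * c → ∃ k : ↥(Cfsg.isometryGroup F ⇑(qOdd F m)),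
      g = scalarG (qOdd F m) e * incl ⇑(qOdd F m) k := fun e he => by
    refine ⟨⟨((scalarG (qOdd F m) e)⁻¹ * g : ↥(GO ⇑(qOdd F m))).1, fun v _ => ?_⟩, (mul_inv_cancel_left _ _).symm⟩
    show qOdd F m (((scalarG (qOdd F m) e)⁻¹ * g : ↥(GO ⇑(qOdd F m))).1.1 *ᵥ v) = qOdd F m v
    have e1 : g.1.1 *ᵥ v = (e : F) • (((scalarG (qOdd F m) e)⁻¹ * g : ↥(GO ⇑(qOdd F m))).1.1 *ᵥ v) := by
      conv_lhs => rw [show g = scalarG (qOdd F m) e * ((scalarG (qOdd F m) e)⁻¹ * g) from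
        (mul_inv_cancel_left _ _).symm]
      rw [Subgroup.coe_mul, Units.val_mul, ← Matrix.mulVec_mulVec, Orth.scalarG_mulVec]
    have h1 := hg v
    rw [e1, QuadraticMap.map_smul, smul_eq_mul, ← he] at h1
    exact mul_left_cancel₀ (mul_ne_zero e.ne_zero e.ne_zero) h1
  obtain ⟨k, hk⟩ := key c rfl
  obtain ⟨k', hk'⟩ := key (-c) (by simp)
  obtain ⟨vs, hvs, hM⟩ := Orth.exists_list_mat rfl S.pnd (gen_odd h2) k
  obtain ⟨ws, hws, hM'⟩ := Orth.exists_list_mat rfl S.pnd (gen_odd h2) k'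
  rcases Nat.even_or_odd vs.length with he | ho
  · exact ⟨c, k, vs, hk, hvs, he, hM⟩
  refine ⟨-c, k', ws, hk', hws, ?_, hM'⟩
  by_contra hne
  have e : k'.1.1 = -k.1.1 := Matrix.ext_of_mulVec_single fun i => by
    have h1 := congrArg (fun a : ↥(GO ⇑(qOdd F m)) => a.1.1 *ᵥ Pi.single i 1) (hk.symm.trans hk')
    simp only [Subgroup.coe_mul, Units.val_mul, ← Matrix.mulVec_mulVec, Orth.scalarG_mulVec, Units.val_neg,
      neg_smul] at h1
    change (c : F) • (k.1.1 *ᵥ Pi.single i 1) = -((c : F) • (k'.1.1 *ᵥ Pi.single i 1)) at h1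
    rw [Matrix.neg_mulVec]
    exact smul_right_injective _ c.ne_zero (show (c : F) • (k'.1.1 *ᵥ Pi.single i 1) = (c : F) • -(k.1.1 *ᵥ Pi.single i 1) by
      rw [smul_neg, h1, neg_neg])
  have hd := congrArg Matrix.det e
  rw [Orth.det_word ws hws hM', Matrix.det_neg, Orth.det_word vs hvs hM,
    (Nat.not_even_iff_odd.1 hne).neg_one_pow, ho.neg_one_pow,
    (show Odd (Fintype.card (Unit ⊕ (Fin m ⊕ Fin m))) from ⟨m, by simp; omega⟩).neg_one_pow] at hd
  exact h2 (by linear_combination -hd)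

/-- When an isometry of determinant one acts as an inner automorphism. -/
theorem mem_innSub_odd (h2 : (2 : F) ≠ 0) (hm : 3 ≤ m) (k : ↥(Cfsg.isometryGroup F ⇑(qOdd F m)))
    (vs : List (Unit ⊕ (Fin m ⊕ Fin m) → F)) (hvs : ∀ v ∈ vs, qOdd F m v ≠ 0) (he : Even vs.length)
    (hM : ∀ x, k.1.1 *ᵥ x = (prodRf (qOdd F m) vs).1 x) :
    incl ⇑(qOdd F m) k ∈ innSub (qOdd F m) ↔ IsSquare (vs.map fun v => qOdd F m v).prod := by
  have S := setup_odd h2 hm
  constructor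
  · rintro ⟨_, ⟨s, hs, rfl⟩, hrho⟩
    have hk : goHom (qOdd F m) (incl ⇑(qOdd F m) (k * s⁻¹)) ∈ (autHom (qOdd F m)).ker := by
      rw [MonoidHom.mem_ker, autHom_goHom, map_mul, map_inv, map_mul, map_inv, hrho, mul_inv_cancel]
    obtain ⟨-, c, -, hc⟩ := (mem_ker_autHom S _).1 hk
    have hmat : (k * s⁻¹).1.1 = c • (1 : Matrix _ _ F) := Matrix.ext_of_mulVec_single fun i => by
      rw [Matrix.smul_mulVec, Matrix.one_mulVec]; exact hc _
    obtain ⟨T⟩ := S.frame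
    obtain ⟨v, hv⟩ := exists_value_of_pair T.hp 1
    have hcc : c * c = 1 := by
      have h1 : qOdd F m ((k * s⁻¹).1.1 *ᵥ v) = qOdd F m v := (k * s⁻¹).2 v v
      rw [show (k * s⁻¹).1.1 *ᵥ v = c • v from hc v, QuadraticMap.map_smul, hv, smul_eq_mul, mul_one] at h1
      exact h1
    obtain ⟨ws, hws, hN⟩ := Orth.exists_list_mat rfl S.pnd (gen_odd h2) s
    have hsd : s.1.1.det = 1 := by
      rw [Orth.det_word ws hws hN, ((Orth.mem_omega rfl S.pnd s ws hws hN).1 hs).1.neg_one_pow]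
    have hc1 : c = 1 := by
      rcases mul_self_eq_one_iff.1 hcc with e | e
      · exact e
      exfalso
      have h1 : k.1.1 = c • s.1.1 := by
        calc k.1.1 = (k * s⁻¹).1.1 * s.1.1 := by rw [← Units.val_mul, ← Subgroup.coe_mul, inv_mul_cancel_right]
          _ = c • s.1.1 := by rw [hmat, Matrix.smul_mul, Matrix.one_mul]
      have hd := congrArg Matrix.det h1
      rw [Orth.det_word vs hvs hM, he.neg_one_pow, Matrix.det_smul, hsd, e,
        (show Odd (Fintype.card (Unit ⊕ (Fin m ⊕ Fin m))) from ⟨m, by simp; omega⟩).neg_one_pow] at hd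
      exact h2 (by linear_combination hd)
    have hks : k = s := mul_inv_eq_one.1 (Subtype.ext (Units.ext (by rw [hmat, hc1, one_smul]; rfl)))
    exact ((Orth.mem_omega rfl S.pnd k vs hvs hM).1 (hks ▸ hs)).2
  · exact fun hsq => ⟨_, ⟨k, (Orth.mem_omega rfl S.pnd k vs hvs hM).2 ⟨he, hsq⟩, rfl⟩, rfl⟩

/-- A similitude that is not inner. -/
theorem exists_outer_odd (h2 : (2 : F) ≠ 0) (hm : 3 ≤ m) {ν : F} (hν : ¬ IsSquare ν) :
    ∃ (k : ↥(Cfsg.isometryGroup F ⇑(qOdd F m))) (w w' : Unit ⊕ (Fin m ⊕ Fin m) → F),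
      qOdd F m w = 1 ∧ qOdd F m w' = ν ∧ (∀ x, k.1.1 *ᵥ x = (prodRf (qOdd F m) [w, w']).1 x) ∧
        incl ⇑(qOdd F m) k ∉ innSub (qOdd F m) := by
  have S := setup_odd h2 hm
  have hν0 : ν ≠ 0 := fun e => hν (e ▸ IsSquare.zero)
  obtain ⟨T⟩ := S.frame
  obtain ⟨w, hw⟩ := exists_value_of_pair T.hp 1
  obtain ⟨w', hw'⟩ := exists_value_of_pair T.hp ν
  obtain ⟨k, hk⟩ := Orth.exists_word_mat (Q := qOdd F m) rfl [w, w']
  refine ⟨k, w, w', hw, hw', hk, fun h => hν ?_⟩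
  rw [mem_innSub_odd h2 hm k [w, w'] (by simp [hw, hw', hν0]) ⟨1, rfl⟩ hk] at h
  simpa [hw, hw'] using h

/-- There are just two classes. -/
theorem index_two_odd (h2 : (2 : F) ≠ 0) (hm : 3 ≤ m) {g h : ↥(GO ⇑(qOdd F m))} (hg : g ∉ innSub (qOdd F m))
    (hh : h ∉ innSub (qOdd F m)) : g * h ∈ innSub (qOdd F m) := by
  obtain ⟨u, a, vs, rfl, hvs, hev, hM⟩ := decomp_odd h2 hm g
  obtain ⟨u', b, ws, rfl, hws, hew, hN⟩ := decomp_odd h2 hm h
  rw [scalar_mul_mem_innSub, mem_innSub_odd h2 hm a vs hvs hev hM] at hg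
  rw [scalar_mul_mem_innSub, mem_innSub_odd h2 hm b ws hws hew hN] at hh
  rw [mul_assoc, scalar_mul_mem_innSub, ← QuotientGroup.eq_one_iff, QuotientGroup.mk_mul, QuotientGroup.mk_mul,
    (QuotientGroup.eq_one_iff _).2 (scalar_mem_innSub u'), one_mul, ← QuotientGroup.mk_mul, ← map_mul,
    QuotientGroup.eq_one_iff, mem_innSub_odd h2 hm (a * b) (vs ++ ws)
      (fun v hv => (List.mem_append.1 hv).elim (hvs v) (hws v)) (by rw [List.length_append]; exact hev.add hew)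
      (fun x => by
        rw [Subgroup.coe_mul, Units.val_mul, ← Matrix.mulVec_mulVec, hN, hM, Orth.prodRf_append]
        rfl),
    List.map_append, List.prod_append, isSquare_iff_mul h2 (Orth.values_ne hvs) (Orth.values_ne hws)]
  exact iff_of_false hg hh

end Odd

section Count

variable {F : Type u} [Field F] [Fintype F] {F₀ : Type v} [Field F₀] [Fintype F₀] {σ : RingAut F} {j : F₀ →+* F}
  {m : ℕ}

theorem Desc.count_odd_dim (hm : 3 ≤ m) (h2 : (2 : F₀) ≠ 0) (D : Desc (qOdd F m) (qOdd F₀ m) σ j) :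
    (Odd (orderOf σ) → Cfsg.splitClassCount ((⊤ : Subgroup ↥(GO ⇑(qOdd F m))).map (rho ⇑(qOdd F m)))
        (Cfsg.Inn (Cfsg.POmega F ⇑(qOdd F m))) D.x = 1) ∧
      (orderOf σ = 2 → Cfsg.splitClassCount ((⊤ : Subgroup ↥(GO ⇑(qOdd F m))).map (rho ⇑(qOdd F m)))
        (Cfsg.Inn (Cfsg.POmega F ⇑(qOdd F m))) D.x = 2) := by
  have h2' : (2 : F) ≠ 0 := fun e => h2 (j.injective (by rw [map_ofNat, e, map_zero]))
  have S := setup_odd h2' hm
  have S₀ := setup_odd h2 hm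
  obtain ⟨π, hπdef⟩ : ∃ π, π = QuotientGroup.mk' (innSub (qOdd F m)) := ⟨_, rfl⟩
  have hne : ∃ y, qOdd F₀ m y ≠ 0 := by
    obtain ⟨T⟩ := S₀.frame; obtain ⟨v, hv⟩ := exists_value_of_pair T.hp 1; exact ⟨v, by simp [hv]⟩
  have htop : (⊤ : Subgroup ↥(GO ⇑(qOdd F m))).map π = ⊤ := by
    rw [← MonoidHom.range_eq_map, MonoidHom.range_eq_top, hπdef]; exact QuotientGroup.mk'_surjective _
  have htwo : ∀ a b : ↥(GO ⇑(qOdd F m)) ⧸ innSub (qOdd F m), a ≠ 1 → b ≠ 1 → a * b = 1 := fun a b ha hb => by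
    obtain ⟨g, rfl⟩ := QuotientGroup.mk_surjective a
    obtain ⟨h, rfl⟩ := QuotientGroup.mk_surjective b
    rw [← QuotientGroup.mk_mul, QuotientGroup.eq_one_iff]
    exact index_two_odd h2' hm (fun e => ha ((QuotientGroup.eq_one_iff g).2 e))
      fun e => hb ((QuotientGroup.eq_one_iff h).2 e)
  have hcomm : ∀ a b : ↥(GO ⇑(qOdd F m)) ⧸ innSub (qOdd F m), a * b = b * a := fun a b => by
    rcases eq_or_ne a 1 with ha | ha
    · rw [ha, one_mul, mul_one]
    rcases eq_or_ne b 1 with hb | hb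
    · rw [hb, one_mul, mul_one]
    rw [htwo a b ha hb, htwo b a hb ha]
  have hcount := D.count S hne ⊤ ⊤ le_top (fun _ => iff_of_true trivial trivial) fun a _ b _ => hcomm a b
  rw [← hπdef, htop] at hcount
  refine ⟨fun hodd => ?_, fun hr => ?_⟩
  · rw [hcount, Subgroup.relIndex_eq_one]
    obtain ⟨ν, hν⟩ : ∃ ν : F₀, ¬ IsSquare ν := FiniteField.exists_nonsquare (fun e => h2 (by
      haveI := ringChar.of_eq e
      exact CharTwo.two_eq_zero))
    have hν0 : ν ≠ 0 := fun e => hν (e ▸ IsSquare.zero)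
    obtain ⟨k, w, w', hw, hw', hk, -⟩ := exists_outer_odd h2 hm hν
    obtain ⟨z, hz, hzne, hzM⟩ := D.emb_word k [w, w'] (by simp [hw, hw', hν0]) hk
    have hz1 : π (incl ⇑(qOdd F m) z) ≠ 1 := fun e => by
      rw [hπdef, QuotientGroup.mk'_apply, QuotientGroup.eq_one_iff, mem_innSub_odd h2' hm z _ hzne ⟨1, rfl⟩ hzM] at e
      simp only [List.map_cons, List.map_nil, List.prod_cons, List.prod_nil, mul_one, D.form, hw, hw', map_one] at e
      rw [show D.c * (D.c * j ν) = j ν * (D.c * D.c) by ring,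
        Orth.isSquare_mul_iff (IsSquare.mul_self D.c) (mul_ne_zero D.hc D.hc), isSquare_iff_of_odd D.fix hodd] at e
      exact hν e
    rintro a -
    rcases eq_or_ne a 1 with ha | ha
    · rw [ha]; exact one_mem _
    have ea : a = π (incl ⇑(qOdd F m) z) := mul_right_cancel ((htwo a _ ha hz1).trans (htwo _ _ hz1 hz1).symm)
    rw [ea, ← hz]
    exact ⟨_, ⟨_, trivial, rfl⟩, rfl⟩
  · rw [hcount]
    have hbot : ((⊤ : Subgroup ↥(GO ⇑(qOdd F₀ m))).map D.emb).map π = ⊥ := by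
      rw [Subgroup.eq_bot_iff_forall]
      rintro _ ⟨_, ⟨h, -, rfl⟩, rfl⟩
      obtain ⟨u, k, vs, rfl, hvs, hev, hM⟩ := decomp_odd h2 hm h
      obtain ⟨z, hz, hzne, hzM⟩ := D.emb_word k vs hvs hM
      rw [hπdef, QuotientGroup.mk'_apply, QuotientGroup.eq_one_iff, map_mul, D.emb_scalar, scalar_mul_mem_innSub, hz,
        mem_innSub_odd h2' hm z _ hzne (by rwa [List.length_map]) hzM, List.map_map,
        show ((fun v => qOdd F m v) ∘ fun v => D.T (j ∘ v)) = fun v => D.c * j (qOdd F₀ m v) from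
          funext fun v => D.form v, prod_scale]
      refine IsSquare.mul (hev.isSquare_pow D.c) ?_
      rw [show (vs.map fun v => j (qOdd F₀ m v)).prod = j (vs.map fun v => qOdd F₀ m v).prod by
        rw [map_list_prod, List.map_map]; rfl]
      exact isSquare_of_two D.fix hr _
    rw [hbot, Subgroup.relIndex_bot_left, Subgroup.card_top, Nat.card_eq_two_iff]
    obtain ⟨ν, hν⟩ : ∃ ν : F, ¬ IsSquare ν := FiniteField.exists_nonsquare (fun e => h2' (by
      haveI := ringChar.of_eq e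
      exact CharTwo.two_eq_zero))
    obtain ⟨k, w, w', -, -, -, hout⟩ := exists_outer_odd h2' hm hν
    have h1 : π (incl ⇑(qOdd F m) k) ≠ 1 := fun e => hout ((QuotientGroup.eq_one_iff _).1 (by rw [hπdef] at e; exact e))
    refine ⟨1, π (incl ⇑(qOdd F m) k), h1.symm, Set.eq_univ_of_forall fun a => ?_⟩
    rcases eq_or_ne a 1 with ha | ha
    · exact Or.inl ha
    · exact Or.inr (mul_right_cancel ((htwo a _ ha h1).trans (htwo _ _ h1 h1).symm))

end Count

end Cfsg.Agent.Small.OrthAut
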