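import Cfsg.Agent.Lib.Small.OrthAut.Counts

/-!
The outer automorphism group of `PΩ(Q)` as an extension of the similitudes modulo the inner
automorphisms by the field automorphisms, and recognition lemmas for split extensions.
-/

set_option autoImplicit false
set_option linter.unusedSectionVars false
set_option linter.style.haveILetI false

namespace Cfsg.Agent.Small.OrthAut

open Module QuadraticMap Matrix
open Cfsg.Agent.Classical
open Cfsg.Agent.Classical.OCount Cfsg.Agent.Classical.ORefl Cfsg.Agent.Classical.OOmega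
open Cfsg.Agent.Small.Orth (GO incl innSub omegaSub rho)

section Split

/-- The homomorphism of a cyclic group given by an element. -/
noncomputable def cycHom {G : Type*} [Group G] {n : ℕ} (x : G) (h : x ^ n = 1) : Multiplicative (ZMod n) →* G :=
  AddMonoidHom.toMultiplicativeLeft (ZMod.lift n ⟨zmultiplesHom (Additive G) (Additive.ofMul x), by
    rw [zmultiplesHom_apply, natCast_zsmul, ← ofMul_pow, h, ofMul_one]⟩)

theorem cycHom_apply {G : Type*} [Group G] {n : ℕ} (x : G) (h : x ^ n = 1) (k : ℤ) :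
    cycHom x h (Multiplicative.ofAdd (k : ZMod n)) = x ^ k := by
  show (ZMod.lift n ⟨zmultiplesHom (Additive G) (Additive.ofMul x), _⟩ (k : ZMod n)).toMul = x ^ k
  rw [ZMod.lift_coe]
  rfl

theorem cycHom_mem {G : Type*} [Group G] {n : ℕ} (x : G) (h : x ^ n = 1) (y : Multiplicative (ZMod n)) :
    ∃ k : ℤ, cycHom x h y = x ^ k := by
  obtain ⟨k, hk⟩ := ZMod.intCast_surjective y.toAdd
  exact ⟨k, by rw [← cycHom_apply x h k, hk]; rfl⟩

/-- An extension with a section centralising the kernel is a direct product. -/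
theorem split_central {G H K : Type*} [Group G] [Group H] [Group K] (φ : G →* H) (κ : K →* G)
    (hκ : Function.Injective κ) (hr : κ.range = φ.ker) (t : H →* G) (ht : ∀ h, φ (t h) = h)
    (hc : ∀ k h, Commute (κ k) (t h)) : Nonempty (G ≃* K × H) := by
  have hk : ∀ k, φ (κ k) = 1 := fun k => MonoidHom.mem_ker.1 (hr ▸ ⟨k, rfl⟩)
  refine ⟨(MulEquiv.ofBijective (κ.noncommCoprod t hc) ⟨?_, fun g => ?_⟩).symm⟩
  · refine (injective_iff_map_eq_one _).2 fun ⟨k, h⟩ e => ?_
    rw [MonoidHom.noncommCoprod_apply] at e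
    have h1 : h = 1 := by simpa [hk, ht] using congrArg φ e
    subst h1
    rw [map_one, mul_one] at e
    exact Prod.ext (hκ (e.trans (map_one κ).symm)) rfl
  · obtain ⟨k, hk'⟩ : g * (t (φ g))⁻¹ ∈ κ.range := by
      rw [hr, MonoidHom.mem_ker, map_mul, map_inv, ht, mul_inv_cancel]
    exact ⟨(k, φ g), by rw [MonoidHom.noncommCoprod_apply, hk', inv_mul_cancel_right]⟩

theorem commute_of_card_two {G : Type*} [Group G] (N : Subgroup G) [N.Normal] (h : Nat.card N = 2) {x : G}
    (hx : x ∈ N) (g : G) : Commute x g := by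
  rcases eq_or_ne x 1 with rfl | hx1
  · exact Commute.one_left g
  have hy : g * x * g⁻¹ ∈ N := Subgroup.Normal.conj_mem inferInstance x hx g
  obtain ⟨y, hy', huniq⟩ := (Nat.card_eq_two_iff' (1 : N)).1 h
  have h1 := huniq ⟨_, hy⟩ fun e => hx1 (conj_eq_one_iff.1 (congrArg Subtype.val e))
  have h2 := huniq ⟨x, hx⟩ fun e => hx1 (congrArg Subtype.val e)
  exact (mul_inv_eq_iff_eq_mul.1 (congrArg Subtype.val (h1.trans h2.symm))).symm

end Split

variable {F : Type*} [Field F] [Finite F] {ι : Type} [Fintype ι] [DecidableEq ι] {Q : QuadraticForm F (ι → F)}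

variable (Q) in
/-- The map to the outer automorphism group. -/
noncomputable def outHom : ↥(Gam Q) →* Cfsg.Out (Cfsg.POmega F ⇑Q) :=
  (QuotientGroup.mk' (Cfsg.Inn (Cfsg.POmega F ⇑Q))).comp (autHom Q)

theorem outHom_surjective (S : Setup Q) (hL : NoLag Q) : Function.Surjective (outHom Q) :=
  (QuotientGroup.mk'_surjective _).comp (autHom_surjective S hL)

theorem outHom_goHom (g : ↥(GO ⇑Q)) : outHom Q (goHom Q g) = 1 ↔ g ∈ innSub Q := by
  show (QuotientGroup.mk (autHom Q (goHom Q g)) : Cfsg.Out (Cfsg.POmega F ⇑Q)) = 1 ↔ _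
  rw [QuotientGroup.eq_one_iff, autHom_goHom, Orth.inn_eq, Subgroup.mem_comap]

theorem sig_eq_one (S : Setup Q) {a : ↥(Gam Q)} (h : outHom Q a = 1) : sigG Q a = 1 := by
  change (QuotientGroup.mk (autHom Q a) : Cfsg.Out (Cfsg.POmega F ⇑Q)) = 1 at h
  rw [QuotientGroup.eq_one_iff, Orth.inn_eq] at h
  obtain ⟨s, -, hs⟩ := h
  have hk : a * (goHom Q s)⁻¹ ∈ (autHom Q).ker := by
    rw [MonoidHom.mem_ker, map_mul, map_inv, autHom_goHom, hs, mul_inv_cancel]
  have h1 : sigG Q (a * (goHom Q s)⁻¹) = 1 := ((mem_ker_autHom S _).1 hk).1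
  rwa [map_mul, map_inv, MonoidHom.mem_ker.1 (show goHom Q s ∈ (sigG Q).ker from range_goHom (Q := Q) ▸ ⟨s, rfl⟩), inv_one,
    mul_one] at h1

/-- The field automorphism of an outer automorphism. -/
noncomputable def outSigma (S : Setup Q) (hL : NoLag Q) : Cfsg.Out (Cfsg.POmega F ⇑Q) →* RingAut F :=
  (outHom Q).liftOfSurjective (outHom_surjective S hL)
    ⟨sigG Q, fun _ ha => MonoidHom.mem_ker.2 (sig_eq_one S (MonoidHom.mem_ker.1 ha))⟩

theorem outSigma_apply (S : Setup Q) (hL : NoLag Q) (a : ↥(Gam Q)) : outSigma S hL (outHom Q a) = sigG Q a :=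
  MonoidHom.liftOfRightInverse_comp_apply (outHom Q) _ _ _ a

variable (Q) in
/-- The similitudes modulo the inner automorphisms inside the outer automorphism group. -/
noncomputable def simOut : ↥(GO ⇑Q) ⧸ innSub Q →* Cfsg.Out (Cfsg.POmega F ⇑Q) :=
  QuotientGroup.lift (innSub Q) ((outHom Q).comp (goHom Q)) fun g hg => MonoidHom.mem_ker.2 ((outHom_goHom g).2 hg)

theorem simOut_mk (g : ↥(GO ⇑Q)) : simOut Q (QuotientGroup.mk g) = outHom Q (goHom Q g) := rfl

theorem simOut_injective : Function.Injective (simOut Q) := by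
  refine (injective_iff_map_eq_one _).2 fun x hx => ?_
  obtain ⟨g, rfl⟩ := QuotientGroup.mk_surjective x
  exact (QuotientGroup.eq_one_iff g).2 ((outHom_goHom g).1 hx)

theorem range_simOut (S : Setup Q) (hL : NoLag Q) : (simOut Q).range = (outSigma S hL).ker := by
  refine le_antisymm ?_ fun x hx => ?_
  · rintro _ ⟨y, rfl⟩
    obtain ⟨g, rfl⟩ := QuotientGroup.mk_surjective y
    rw [MonoidHom.mem_ker, simOut_mk, outSigma_apply]
    exact MonoidHom.mem_ker.1 (range_goHom (Q := Q) ▸ ⟨g, rfl⟩)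
  · obtain ⟨a, rfl⟩ := outHom_surjective S hL x
    rw [MonoidHom.mem_ker, outSigma_apply] at hx
    obtain ⟨g, rfl⟩ : a ∈ (goHom Q).range := range_goHom (Q := Q) ▸ hx
    exact ⟨QuotientGroup.mk g, rfl⟩

theorem outSigma_surjective (S : Setup Q) (hL : NoLag Q) (hσ : Function.Surjective (sigG Q)) :
    Function.Surjective (outSigma S hL) := fun σ => by
  obtain ⟨a, rfl⟩ := hσ σ
  exact ⟨outHom Q a, outSigma_apply S hL a⟩

/-- The centre of `PΩ(Q)` is trivial. -/
theorem conj_injective (S : Setup Q) [IsSimpleGroup (Cfsg.POmega F ⇑Q)] :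
    Function.Injective (MulAut.conj : Cfsg.POmega F ⇑Q →* MulAut (Cfsg.POmega F ⇑Q)) := by
  have hperf : commutator (Cfsg.POmega F ⇑Q) = ⊤ := by
    obtain ⟨T⟩ := S.frame
    have hG : commutator (G Q) = ⊤ := by
      refine Subgroup.map_injective (Subgroup.subtype_injective _) ?_
      rw [Subgroup.map_subtype_commutator, commutator_perfect S.pnd T, ← MonoidHom.range_eq_map,
        Subgroup.range_subtype]
    have hsurj : Function.Surjective ((pOmegaEquiv Q).toMonoidHom.comp (pr Q)) :=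
      (pOmegaEquiv Q).surjective.comp pr_surjective
    have h : (commutator (G Q)).map ((pOmegaEquiv Q).toMonoidHom.comp (pr Q)) = commutator (Cfsg.POmega F ⇑Q) := by
      refine (Subgroup.map_commutator (⊤ : Subgroup (G Q)) ⊤ _).trans ?_
      rw [Subgroup.map_top_of_surjective _ hsurj]
      rfl
    rw [← h, hG, Subgroup.map_top_of_surjective _ hsurj]
  rw [← MonoidHom.ker_eq_bot_iff]
  refine ((MonoidHom.normal_ker _).eq_bot_or_eq_top).resolve_right fun h => ?_
  have hab : commutator (Cfsg.POmega F ⇑Q) = ⊥ := by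
    rw [commutator_def, Subgroup.commutator_eq_bot_iff_le_centralizer]
    intro x _ y _
    have hy : MulAut.conj y = 1 := MonoidHom.mem_ker.1 (h ▸ Subgroup.mem_top y)
    have := congrArg (fun β : MulAut (Cfsg.POmega F ⇑Q) => β x) hy
    exact mul_inv_eq_iff_eq_mul.1 this
  exact bot_ne_top (hab.symm.trans hperf)

/-- The order of the outer automorphism group. -/
theorem card_out (S : Setup Q) [IsSimpleGroup (Cfsg.POmega F ⇑Q)] :
    Nat.card (Cfsg.Out (Cfsg.POmega F ⇑Q)) * Nat.card (Cfsg.POmega F ⇑Q) =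
      Nat.card (MulAut (Cfsg.POmega F ⇑Q)) := by
  rw [Subgroup.card_eq_card_quotient_mul_card_subgroup (Cfsg.Inn (Cfsg.POmega F ⇑Q)),
    ← Nat.card_congr (MonoidHom.ofInjective (conj_injective S)).toEquiv]

theorem card_out_eq (S : Setup Q) [IsSimpleGroup (Cfsg.POmega F ⇑Q)] {n : ℕ}
    (h : Nat.card (MulAut (Cfsg.POmega F ⇑Q)) = n * Nat.card (Cfsg.POmega F ⇑Q)) :
    Nat.card (Cfsg.Out (Cfsg.POmega F ⇑Q)) = n := by
  exact mul_right_cancel₀ Nat.card_pos.ne' ((card_out S).trans h)

/-- The extension of the field automorphisms by the similitudes modulo the inner automorphisms. -/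
theorem card_out_ext (S : Setup Q) (hL : NoLag Q) (hσ : Function.Surjective (sigG Q)) :
    Nat.card (Cfsg.Out (Cfsg.POmega F ⇑Q)) = Nat.card (↥(GO ⇑Q) ⧸ innSub Q) * Nat.card (RingAut F) := by
  rw [Subgroup.card_eq_card_quotient_mul_card_subgroup (outSigma S hL).ker,
    Nat.card_congr (QuotientGroup.quotientKerEquivOfSurjective _ (outSigma_surjective S hL hσ)).toEquiv,
    ← range_simOut S hL, ← Nat.card_congr (MonoidHom.ofInjective (simOut_injective (Q := Q))).toEquiv, mul_comm]

end Cfsg.Agent.Small.OrthAut
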