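import Cfsg.Agent.Lib.Small.OrthAut.Decomp
import Cfsg.Agent.Lib.Classical.OrthPSimple
import Cfsg.Agent.Lib.Classical.OrthEvenSplit

/-!
The automorphisms of `PΩ(Q)` for the standard forms: matrices.
-/

set_option autoImplicit false
set_option linter.unusedSectionVars false
set_option linter.style.haveILetI false

namespace Cfsg.Agent.Small.OrthAut

open Module QuadraticMap Matrix
open Cfsg.Agent.Classical
open Cfsg.Agent.Classical.OCount Cfsg.Agent.Classical.ORefl Cfsg.Agent.Classical.OOmega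

variable {F : Type*} [Field F] [Finite F] {ι : Type} [Fintype ι] [DecidableEq ι] {Q : QuadraticForm F (ι → F)}

/-- The matrix of a semisimilitude. -/
noncomputable def Semi.matrix (l : Semi Q) : Matrix ι ι F :=
  LinearMap.toMatrix'
    { toFun := fun x => l.L fun i => l.σ.symm (x i)
      map_add' := fun x y => by
        rw [← map_add]
        exact congrArg l.L (funext fun i => map_add l.σ.symm _ _)
      map_smul' := fun c x => by
        rw [RingHom.id_apply, ← l.σ.apply_symm_apply c, ← l.map_smul, RingEquiv.apply_symm_apply]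
        exact congrArg l.L (funext fun i => map_mul l.σ.symm _ _) }

theorem Semi.matrix_mulVec (l : Semi Q) (x : ι → F) : l.matrix *ᵥ x = l.L fun i => l.σ.symm (x i) :=
  LinearMap.toMatrix'_mulVec _ x

theorem Semi.matrix_map (l : Semi Q) (x : ι → F) : l.matrix *ᵥ (fun i => l.σ (x i)) = l.L x := by
  rw [l.matrix_mulVec]
  exact congrArg l.L (funext fun i => l.σ.symm_apply_apply _)

theorem Semi.isUnit_matrix (l : Semi Q) : IsUnit l.matrix := by
  refine Matrix.mulVec_injective_iff_isUnit.mp fun x y h => ?_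
  simp only [l.matrix_mulVec] at h
  exact funext fun i => l.σ.symm.injective (congrFun (l.L.injective h) i)

/-- The matrix as a unit. -/
noncomputable def Semi.gl (l : Semi Q) : GL ι F := l.isUnit_matrix.unit

theorem Semi.coe_gl (l : Semi Q) : (l.gl : Matrix ι ι F) = l.matrix := rfl

theorem Semi.isPair (l : Semi Q) : Cfsg.IsSemisimilarityPair (⇑Q) l.gl l.σ :=
  ⟨Units.mk0 l.N l.hN, fun v => by rw [l.coe_gl, l.matrix_map, l.map_q, Units.val_mk0]⟩

/-- The automorphism induced on `PΩ(Q)`. -/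
noncomputable def Semi.autP (l : Semi Q) : MulAut (Cfsg.POmega F ⇑Q) :=
  (pOmegaEquiv Q).symm.trans (l.aut.trans (pOmegaEquiv Q))

/-- The element of `Ω` of an element of the derived group. -/
noncomputable def toOmega (g : G Q) : ↥(Cfsg.Omega F ⇑Q) :=
  (((commutator ↥(Iso Q)).equivMapOfInjective _ (toMat Q).injective).trans
    (MulEquiv.subgroupCongr (omega_eq_map (Q := Q)).symm)) g

theorem toOmega_val (g : G Q) : ((toOmega g : ↥(Cfsg.isometryGroup F ⇑Q))) = toMat Q g.1 := rfl

theorem pOmegaEquiv_pr (g : G Q) : pOmegaEquiv Q (pr Q g) = QuotientGroup.mk (toOmega g) := rfl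

theorem toOmega_surjective : Function.Surjective (toOmega (Q := Q)) :=
  (((commutator ↥(Iso Q)).equivMapOfInjective _ (toMat Q).injective).trans
    (MulEquiv.subgroupCongr (omega_eq_map (Q := Q)).symm)).surjective

theorem Semi.autP_mk (l : Semi Q) (g : G Q) :
    l.autP (QuotientGroup.mk (toOmega g)) = QuotientGroup.mk (toOmega (l.cg g)) := by
  rw [← pOmegaEquiv_pr, ← pOmegaEquiv_pr]
  show pOmegaEquiv Q (l.aut ((pOmegaEquiv Q).symm (pOmegaEquiv Q (pr Q g)))) = _
  rw [MulEquiv.symm_apply_apply, l.aut_pr]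

theorem map_mulVec_comp (σ : F ≃+* F) (M : Matrix ι ι F) (x : ι → F) :
    M.map σ *ᵥ (fun i => σ (x i)) = fun i => σ ((M *ᵥ x) i) := by
  funext i
  exact (RingHom.map_mulVec (σ : F →+* F) M x i).symm

theorem Semi.induced (l : Semi Q) : Cfsg.IsInducedBySemilinearPOmega (⇑Q) l.gl l.σ l.autP := by
  intro s s' h
  obtain ⟨g, rfl⟩ := toOmega_surjective s
  rw [l.autP_mk]
  refine congrArg QuotientGroup.mk (Subtype.ext (Subtype.ext (Units.ext ?_)))
  rw [h]
  refine Matrix.ext_of_mulVec_single fun j => ?_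
  rw [toOmega_val, toMat_apply, toOmega_val]
  obtain ⟨y, hy⟩ := l.L.surjective (Pi.single j 1)
  rw [← hy]
  show ap (l.cg g) (l.L y) = _
  rw [l.ap_cg_L, ← Matrix.mulVec_mulVec, ← Matrix.mulVec_mulVec]
  conv_rhs =>
    rw [← l.matrix_map y, ← l.coe_gl, Matrix.mulVec_mulVec (M := ((l.gl⁻¹ : GL ι F) : Matrix ι ι F)),
      ← Units.val_mul, inv_mul_cancel, Units.val_one, Matrix.one_mulVec, map_mulVec_comp, toMat_apply]
  exact (l.matrix_map _).symm

/-- Every automorphism of `PΩ(Q)` is induced by a semisimilitude. -/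
theorem exists_autP (S : Setup Q) (hL : NoLag Q) (β : MulAut (Cfsg.POmega F ⇑Q)) :
    ∃ l : Semi Q, β = l.autP := by
  obtain ⟨l, hl⟩ := S.exists_semi hL ((pOmegaEquiv Q).trans (β.trans (pOmegaEquiv Q).symm))
  refine ⟨l, MulEquiv.ext fun x => ?_⟩
  rw [Semi.autP, ← hl]
  simp

/-- Every automorphism lies in the group generated by the semisimilarities. -/
theorem gamma_eq_top (S : Setup Q) (hL : NoLag Q) : Cfsg.gammaPOmega F (⇑Q) = ⊤ := by
  refine eq_top_iff.2 fun β _ => ?_
  obtain ⟨l, rfl⟩ := exists_autP S hL β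
  exact Subgroup.subset_closure ⟨l.gl, l.σ, l.isPair, l.induced⟩

section Standard

variable {R : Type} [Fintype R] [DecidableEq R] {m : ℕ} {e : ι ≃ (Fin m ⊕ Fin m) ⊕ R}
  {P : QuadraticForm F (R → F)}

theorem setup_standard (hP : PND P) (hm : 3 ≤ m) : Setup (formOf m e P) :=
  ⟨formOf_pnd hP, ⟨stdPairs e P hm⟩⟩

theorem noLag_big (h : 10 ≤ Fintype.card ι) : NoLag Q := fun _ _ _ => by
  rwa [Module.finrank_fintype_fun_eq_card]

theorem finrank_of_lag (hQ : PND Q) (W : Submodule F (ι → F)) (h0 : ∀ x ∈ W, Q x = 0)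
    (hW : ∀ x, (∀ t ∈ W, polar Q x t = 0) → x ∈ W) : Fintype.card ι = 2 * finrank F W := by
  have h1 := Witt.finrank_le_half Q (nondeg hQ) h0
  have h2 := finrank_le_two_mul (Q := Q) W hW
  rw [Module.finrank_fintype_fun_eq_card] at h1 h2
  omega

theorem noLag_odd (hQ : PND Q) (h : Odd (Fintype.card ι)) : NoLag Q := fun W h0 hW => by
  have h1 := finrank_of_lag hQ W h0 hW
  rw [Nat.odd_iff] at h
  omega

theorem noLag_minus {m : ℕ} {a b : F} (hab : ∀ z₁ z₂ : F, z₁ ^ 2 + a * z₁ * z₂ + b * z₂ ^ 2 = 0 → z₁ = 0 ∧ z₂ = 0)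
    {Q : QuadraticForm F ((Fin m ⊕ Fin m) ⊕ Fin 2 → F)} (hq : ⇑Q = Cfsg.quadFormMinus m F a b) (hQ : PND Q) :
    NoLag Q := fun W h0 hW => by
  have h1 := finrank_of_lag hQ W h0 hW
  have h2 := OEven.minus_model_no_half hab (U := W) fun u hu => by rw [← hq]; exact h0 u hu
  simp only [Fintype.card_sum, Fintype.card_fin] at h1
  omega

end Standard

end Cfsg.Agent.Small.OrthAut
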